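import Cfsg.Agent.Lib.Solv.DerivedTwo.Class
import Cfsg.Agent.Lib.Solv.FrattiniModule

/-!
Small facts: powers lying in a subgroup, a decomposition under an involution, the arithmetic of `2 ^ n - 1`,
and equivariant maps commuting with an element whose restriction has a single largest block.
-/

set_option autoImplicit false
set_option linter.style.haveILetI false
set_option linter.unusedSectionVars false

namespace Cfsg.Agent.Solv.E2

attribute [local instance] Fintype.ofFinite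

universe u v

variable {G : Type u} [Group G]

/-- A power in a subgroup gives a power of two in it. -/
theorem exists_two_pow_mem {S : Subgroup G} {g : G} {i n : ℕ} (hn : g ^ 2 ^ n ∈ S) (hi : g ^ i ∈ S) :
    ∃ m ≤ n, 2 ^ m ∣ i ∧ g ^ 2 ^ m ∈ S := by
  obtain ⟨m, hm, hm'⟩ := (Nat.dvd_prime_pow Nat.prime_two).1 (Nat.gcd_dvd_right i (2 ^ n))
  refine ⟨m, hm, hm' ▸ Nat.gcd_dvd_left i (2 ^ n), ?_⟩
  rw [← hm', ← zpow_natCast, Nat.gcd_eq_gcd_ab, zpow_add, zpow_mul, zpow_mul, zpow_natCast, zpow_natCast]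
  exact mul_mem (zpow_mem hi _) (zpow_mem hn _)

/-- A smaller power in a subgroup gives the involution in it. -/
theorem involution_mem {S : Subgroup G} {g : G} {i n : ℕ} (hn : g ^ 2 ^ n ∈ S) (hi : g ^ i ∈ S)
    (h0 : 0 < i) (hlt : i < 2 ^ n) : g ^ 2 ^ (n - 1) ∈ S := by
  obtain ⟨m, -, hdvd, hmem⟩ := exists_two_pow_mem hn hi
  have hmn : m < n := (Nat.pow_lt_pow_iff_right Nat.one_lt_two).1
    ((Nat.le_of_dvd h0 hdvd).trans_lt hlt)
  rw [show n - 1 = m + (n - 1 - m) by omega, pow_add, pow_mul]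
  exact pow_mem hmem _

/-- An element of odd order is a power of its square. -/
theorem eq_sq_pow {P : Subgroup G} [Finite G] (hP : Odd (Nat.card P)) {r : G} (hr : r ∈ P) :
    ∃ m : ℕ, r = (r * r) ^ m := by
  obtain ⟨l, hl⟩ := hP
  refine ⟨l + 1, ?_⟩
  have h1 : r ^ Nat.card P = 1 :=
    congrArg Subtype.val (pow_card_eq_one' (G := P) (x := ⟨r, hr⟩))
  rw [← pow_two, ← pow_mul, show 2 * (l + 1) = Nat.card P + 1 by omega, pow_succ, h1, one_mul]

/-- An involution splits each element of an odd subgroup into an inverted and a fixed part. -/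
theorem split_exact [Finite G] {P : Subgroup G} (hP : Odd (Nat.card P)) {z : G} (hz : z * z = 1)
    (hzP : ∀ r ∈ P, z * r * z⁻¹ ∈ P) {r : G} (hr : r ∈ P) :
    ∃ a c : G, a ∈ P ∧ c ∈ P ∧ z * a * z⁻¹ = a⁻¹ ∧ Commute z c ∧ r = a * c := by
  obtain ⟨l, hl⟩ := hP
  obtain ⟨d, hd⟩ : ∃ d, d = r * (z * r⁻¹ * z⁻¹) := ⟨_, rfl⟩
  have hdP : d ∈ P := hd ▸ mul_mem hr (hzP _ (inv_mem hr))
  have hdc : d ^ (2 * l + 1) = 1 := by
    rw [← hl]; exact congrArg Subtype.val (pow_card_eq_one' (G := P) (x := ⟨d, hdP⟩))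
  have hzi : z⁻¹ = z := inv_eq_of_mul_eq_one_right hz
  have hzd : z * d * z⁻¹ = d⁻¹ := by
    rw [hd]
    simp only [mul_inv_rev, inv_inv, hzi, mul_assoc, hz, mul_one]
  have hzd' : ∀ i : ℕ, z * d ^ i * z⁻¹ = (d ^ i)⁻¹ := fun i => by rw [← conj_pow, hzd, inv_pow]
  refine ⟨d ^ (l + 1), (d ^ (l + 1))⁻¹ * r, pow_mem hdP _, mul_mem (inv_mem (pow_mem hdP _)) hr,
    hzd' _, ?_, by rw [mul_inv_cancel_left]⟩
  show z * ((d ^ (l + 1))⁻¹ * r) = (d ^ (l + 1))⁻¹ * r * z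
  rw [← mul_inv_eq_iff_eq_mul]
  have e : z * r * z⁻¹ = d⁻¹ * r := by rw [hd]; group
  calc z * ((d ^ (l + 1))⁻¹ * r) * z⁻¹ = (z * d ^ (l + 1) * z⁻¹)⁻¹ * (z * r * z⁻¹) := by group
    _ = d ^ (l + 1) * (d⁻¹ * r) := by rw [hzd', inv_inv, e]
    _ = d ^ l * r := by rw [pow_succ, mul_assoc, mul_inv_cancel_left]
    _ = (d ^ (l + 1))⁻¹ * r := by
      congr 1
      refine eq_inv_of_mul_eq_one_left ?_
      rw [← pow_add, show l + (l + 1) = 2 * l + 1 by omega, hdc]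

/-- If `2 ^ n - 1` is a prime power, it is a prime. -/
theorem eq_prime_of_pow {q n b : ℕ} (hq : q.Prime) (hn : 2 ≤ n) (h : 2 ^ n - 1 = q ^ b) : q + 1 = 2 ^ n := by
  have h4 : 4 ≤ 2 ^ n := by simpa using Nat.pow_le_pow_right (n := 2) two_pos hn
  have hqb : q ^ b + 1 = 2 ^ n := by omega
  have hq2 : q ≠ 2 := fun e => by
    rcases b with _ | b
    · rw [pow_zero] at hqb; omega
    · have h1 : 2 ∣ 2 ^ n := dvd_pow_self 2 (by omega)
      rw [← hqb, e, pow_succ] at h1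
      omega
  have hodd : Odd q := hq.odd_of_ne_two hq2
  obtain ⟨c, hc⟩ : ∃ c, n = c + 2 := ⟨n - 2, by omega⟩
  rcases Nat.even_or_odd b with ⟨a, ha⟩ | ⟨a, ha⟩
  · exfalso
    obtain ⟨t, ht⟩ : Odd (q ^ a) := hodd.pow
    have e : q ^ b + 1 = 4 * (t * t + t) + 2 := by rw [ha, pow_add, ht]; ring
    rw [hqb, hc, pow_add] at e
    omega
  · obtain ⟨t, ht⟩ : ∃ t, (q ^ 2) ^ a = (q ^ 2 - 1) * t + 1 := by
      obtain ⟨t, ht⟩ : q ^ 2 - 1 ∣ (q ^ 2) ^ a - 1 := by
        simpa using Nat.sub_dvd_pow_sub_pow (q ^ 2) 1 a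
      exact ⟨t, by rw [← ht, Nat.sub_add_cancel (Nat.one_le_pow _ _ (pow_pos hq.pos 2))]⟩
    obtain ⟨d, hd⟩ : ∃ d, q = 2 * d + 3 := by
      obtain ⟨u, hu⟩ := hodd
      exact ⟨u - 1, by have := hq.two_le; omega⟩
    have e : (q + 1) * (q * (2 * d + 2) * t + 1) = 2 ^ n := by
      have hsq : q ^ 2 - 1 = (q + 1) * (2 * d + 2) := by
        have : q ^ 2 = (q + 1) * (2 * d + 2) + 1 := by rw [hd]; ring
        omega
      rw [← hqb, ha, pow_succ, pow_mul, ht, hsq]; ring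
    obtain ⟨i, -, hi⟩ := (Nat.dvd_prime_pow Nat.prime_two).1 (e ▸ dvd_mul_left _ (q + 1))
    have hi0 : i = 0 := by
      by_contra hne
      have h2 : Even (q * (2 * d + 2) * t + 1) := hi ▸ (Nat.even_pow' hne).2 even_two
      have h3 : Even (q * (2 * d + 2) * t) := Even.mul_right (Even.mul_left ⟨d + 1, by ring⟩ q) t
      exact (Nat.even_add_one.1 h2) h3
    rw [hi, hi0, pow_zero, mul_one] at e
    exact e

variable {k : Type*} [Field k] {V : Type v} [AddCommGroup V] [Module k V]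

/-- An equivariant map shifted once by an automorphism contradicts the longest block. -/
theorem no_shift [CharP k 2] {W : Type*} [AddCommGroup W] [Module k W] (T : Module.End k V) (D : Module.End k W)
    (Φ₁ Φ₀ : W →ₗ[k] V) (h₁ : ∀ w, T (Φ₁ w) = Φ₁ (D w) + Φ₀ (D w)) (h₀ : ∀ w, T (Φ₀ w) = Φ₀ (D w))
    (l : ℕ) (hV : ∀ w, ((T - 1) ^ (2 * l + 1) : Module.End k V) (Φ₁ w) = 0)
    (hW : (D - 1) ^ (2 * l + 1) = 0) : ∀ w, Φ₀ (D (((D - 1) ^ (2 * l) : Module.End k W) w)) = 0 := by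
  have e1 : ∀ w, (T - 1) (Φ₁ w) = Φ₁ ((D - 1) w) + Φ₀ (D w) := fun w => by
    simp only [LinearMap.sub_apply, Module.End.one_apply, h₁, map_sub]; abel
  have e0 : ∀ w, (T - 1) (Φ₀ w) = Φ₀ ((D - 1) w) := fun w => by
    simp only [LinearMap.sub_apply, Module.End.one_apply, h₀, map_sub]
  have hch : ∀ v : V, v + v = 0 := fun v => by
    rw [← two_smul k v, show (2 : k) = 0 from CharP.cast_eq_zero k 2, zero_smul]
  have hcm : ∀ w, D ((D - 1) w) = (D - 1) (D w) := fun w => by simp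
  have e2 : ∀ w, (T - 1) ((T - 1) (Φ₁ w)) = Φ₁ ((D - 1) ((D - 1) w)) := fun w => by
    rw [e1, map_add, e1, e0, hcm, add_assoc, hch, add_zero]
  have even : ∀ (j : ℕ) (w : W), ((T - 1) ^ (2 * j) : Module.End k V) (Φ₁ w) =
      Φ₁ (((D - 1) ^ (2 * j) : Module.End k W) w) := by
    intro j
    induction j with
    | zero => intro w; simp
    | succ j ih =>
      intro w
      rw [show 2 * (j + 1) = 2 * j + 2 by ring, pow_add, pow_add, Module.End.mul_apply, pow_two, pow_two,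
        Module.End.mul_apply, e2, ih]
      rfl
  intro w
  have e := hV w
  rw [pow_succ', Module.End.mul_apply, even, e1, ← Module.End.mul_apply (D - 1), ← pow_succ', hW,
    LinearMap.zero_apply, map_zero, zero_add] at e
  exact e

end Cfsg.Agent.Solv.E2
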