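import Cfsg.Agent.Lib.Solv.ExponentTwo.Setup
import Cfsg.Agent.Lib.Solv.ExponentTwo.Tools
import Cfsg.Agent.Lib.Solv.TheoremBCore

/-!
An element whose involution moves the quotient of a character acts there through a single plane.
-/

set_option autoImplicit false
set_option linter.style.haveILetI false
set_option linter.unusedSectionVars false
set_option maxHeartbeats 1000000

namespace Cfsg.Agent.Solv.E2

attribute [local instance] Fintype.ofFinite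

open scoped commutatorElement
open Cfsg.Agent.Solv.D2 (wt proj proj_mem_wt proj_of_mem IsPre IsExt Intertwines exists_invariant_simple)
open Solv.CRep (rep_inv_apply rep_apply_inv subRep subRep_apply IsSimpleRep)

universe u v

variable {G : Type u} [Group G] [Finite G] {k : Type} [Field k] [IsAlgClosed k] [CharP k 2]
  {V : Type v} [AddCommGroup V] [Module k V] [FiniteDimensional k V]
  {ρ : G →* Module.End k V} {P : Subgroup G} {q e : ℕ}

namespace Setup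

variable (h : Setup ρ P q e) (χ : ↥(cen P) →* kˣ)

include h

/-- One fixed vector decides the value of the pairing. -/
theorem cm_eq_one_of_fix {r s : P} {w : V} (hw : w ∈ wt ρ (cen P) χ) (h0 : w ≠ 0)
    (hfix : ρ ⁅(r : G), (s : G)⁆ w = w) : χ (h.cm r s) = 1 := by
  have e := hw (h.cm r s)
  exact Units.ext (smul_left_injective k h0 (e.symm.trans (hfix.trans (one_smul k w).symm)))

/-- A radical element commutes with `P` on the weight space. -/
theorem rad_apply {r s : P} (hr : r ∈ h.rad χ) {w : V} (hw : w ∈ wt ρ (cen P) χ) :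
    ρ ⁅(r : G), (s : G)⁆ w = w := by
  have e := hw (h.cm r s)
  rw [hr s, Units.val_one, one_smul] at e
  exact e

/-- An element acting trivially on the weight space acts trivially on the quotient. -/
theorem act_eq_one_of_triv {g : h.stab χ} (hne : wt ρ (cen P) χ ≠ ⊥)
    (htriv : ∀ w ∈ wt ρ (cen P) χ, ρ (g : G) w = w) : h.act χ g = 1 := by
  refine (h.act_eq_one χ).2 fun r s => ?_
  obtain ⟨w, hw, hw0⟩ := Submodule.exists_mem_ne_zero_of_ne_bot hne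
  refine h.cm_eq_one_of_fix χ hw hw0 ?_
  have hinv : ∀ v ∈ wt ρ (cen P) χ, ρ (g : G)⁻¹ v = v := fun v hv => by
    conv_lhs => rw [← htriv v hv]
    exact rep_inv_apply ρ _ v
  have hd : ∀ v ∈ wt ρ (cen P) χ, ρ ⁅(g : G), (r : G)⁆ v = v := fun v hv => by
    simp only [commutatorElement_def, map_mul, Module.End.mul_apply]
    rw [hinv _ (h.invP χ (inv_mem r.2) hv), htriv _ (h.invP χ r.2 (h.invP χ (inv_mem r.2) hv)), rep_apply_inv]
  have hd' : ∀ v ∈ wt ρ (cen P) χ, ρ ⁅(g : G), (r : G)⁆⁻¹ v = v := fun v hv => by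
    conv_lhs => rw [← hd v hv]
    exact rep_inv_apply ρ _ v
  show ρ ⁅⁅(g : G), (r : G)⁆, (s : G)⁆ w = w
  rw [commutatorElement_def ⁅(g : G), (r : G)⁆, map_mul, map_mul, map_mul, Module.End.mul_apply,
    Module.End.mul_apply, Module.End.mul_apply, hd' _ (h.invP χ (inv_mem s.2) hw),
    hd _ (h.invP χ s.2 (h.invP χ (inv_mem s.2) hw)), rep_apply_inv]

/-- The first power of an element fixing the character, and the relation it satisfies. -/
theorem exists_period {x : G} (hx : ∃ j, x ^ 2 ^ j = 1) :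
    ∃ n j, 1 ≤ n ∧ j + n = e ∧ x ^ 2 ^ j ∈ h.stab χ ∧
      ∀ w ∈ wt ρ (cen P) χ, ((ρ (x ^ 2 ^ j) - 1) ^ (2 ^ n - 1) : Module.End k V) w = 0 := by
  classical
  have hex : ∃ j, x ^ 2 ^ j ∈ h.stab χ := ⟨e - 1, h.inv_mem_stab χ hx⟩
  obtain ⟨j, hj⟩ : ∃ j, j = Nat.find hex := ⟨_, rfl⟩
  have hje : j ≤ e - 1 := hj ▸ Nat.find_min' hex (h.inv_mem_stab χ hx)
  have h1e := h.one_le
  refine ⟨e - j, j, by omega, by omega, hj ▸ Nat.find_spec hex, fun w hw => ?_⟩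
  have htop : x ^ 2 ^ e ∈ h.stab χ := by rw [(h.noBlock x hx).1]; exact one_mem _
  have hiff : ∀ i, x ^ i ∈ h.stab χ → 2 ^ j ∣ i := fun i hi => by
    obtain ⟨m, -, hdvd, hmem⟩ := exists_two_pow_mem htop hi
    exact (Nat.pow_dvd_pow 2 (hj ▸ Nat.find_min' hex hmem)).trans hdvd
  have e0 := congrArg (proj ρ (cen P) χ) (LinearMap.congr_fun (h.noBlock x hx).2 w)
  rw [← geom_two (k := k), LinearMap.sum_apply, map_sum, LinearMap.zero_apply, map_zero] at e0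
  rw [← geom_two (k := k), LinearMap.sum_apply]
  rw [← Finset.sum_subset (s₁ := (Finset.range (2 ^ (e - j))).image (fun m => 2 ^ j * m)),
    Finset.sum_image] at e0
  · refine Eq.trans ?_ e0
    refine Finset.sum_congr rfl fun m _ => ?_
    rw [← map_pow, ← map_pow, ← pow_mul,
      proj_of_mem ρ h.odd_cen ((h.proj_stab χ w hw).1 (by
        rw [pow_mul]; exact pow_mem (hj ▸ Nat.find_spec hex) _))]
  · exact fun a _ b _ hab => Nat.eq_of_mul_eq_mul_left (by positivity) hab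
  · intro i hi
    obtain ⟨m, hm, rfl⟩ := Finset.mem_image.1 hi
    rw [Finset.mem_range] at hm ⊢
    calc 2 ^ j * m < 2 ^ j * 2 ^ (e - j) := Nat.mul_lt_mul_of_pos_left hm (by positivity)
      _ = 2 ^ e := by rw [← pow_add]; congr 1; omega
  · intro i hi hni
    rw [← map_pow]
    refine (h.proj_stab χ w hw).2 fun hs => hni ?_
    obtain ⟨m, rfl⟩ := hiff i hs
    refine Finset.mem_image.2 ⟨m, Finset.mem_range.2 ?_, rfl⟩
    rw [Finset.mem_range, show (2 : ℕ) ^ e = 2 ^ j * 2 ^ (e - j) by rw [← pow_add]; congr 1; omega] at hi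
    exact Nat.lt_of_mul_lt_mul_left hi

/-- The elements inverted modulo the centre. -/
theorem exists_inverted (z : G) :
    ∃ R : Subgroup G, ∀ r, r ∈ R ↔ r ∈ P ∧ z * r * z⁻¹ * r ∈ cen P := by
  refine ⟨{ carrier := {r | r ∈ P ∧ z * r * z⁻¹ * r ∈ cen P}
            one_mem' := ⟨one_mem P, by simp⟩
            mul_mem' := ?_
            inv_mem' := ?_ }, fun _ => Iff.rfl⟩
  · rintro a b ⟨ha, ha'⟩ ⟨hb, hb'⟩
    refine ⟨mul_mem ha hb, ?_⟩
    obtain ⟨d, hd⟩ : ∃ d, d = z * b * z⁻¹ * b := ⟨_, rfl⟩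
    rw [← hd] at hb'
    have hc : z * b * z⁻¹ = d * b⁻¹ := by rw [hd]; group
    have e : z * (a * b) * z⁻¹ * (a * b) = (z * a * z⁻¹) * (z * b * z⁻¹) * a * b := by group
    rw [e, hc]
    have e2 : z * a * z⁻¹ * (d * b⁻¹) * a * b = (z * a * z⁻¹ * a) * d * ⁅a⁻¹, b⁻¹⁆ := by
      have hda : d * a = a * d := commute_cen (⟨d, hb'⟩ : cen P) ha
      calc z * a * z⁻¹ * (d * b⁻¹) * a * b = z * a * z⁻¹ * (a * a⁻¹) * d * b⁻¹ * a * b := by group
        _ = z * a * z⁻¹ * a * (a⁻¹ * d) * b⁻¹ * a * b := by group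
        _ = z * a * z⁻¹ * a * (d * a⁻¹) * b⁻¹ * a * b := by
          rw [show a⁻¹ * d = d * a⁻¹ from (Commute.inv_left (show Commute a d from hda.symm)).eq]
        _ = _ := by rw [commutatorElement_def]; group
    rw [e2]
    exact mul_mem (mul_mem ha' hb') (h.commutator_mem ⟨a⁻¹, inv_mem ha⟩ ⟨b⁻¹, inv_mem hb⟩)
  · rintro a ⟨ha, ha'⟩
    refine ⟨inv_mem ha, ?_⟩
    have e : z * a⁻¹ * z⁻¹ * a⁻¹ = (a * (z * a * z⁻¹ * a) * a⁻¹)⁻¹ := by group
    rw [e]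
    haveI := h.normal
    exact inv_mem (cen_conj_mem a ha')


/-- An element of `P` inverted modulo the centre commutes with the fixed elements. -/
theorem commute_of_inverted {z : G} (hzc : ∀ t ∈ cen P, Commute z t) {c r : G} (hcP : c ∈ P)
    (hc : Commute z c) (hrP : r ∈ P) (hr : z * r * z⁻¹ * r ∈ cen P) : Commute c r := by
  obtain ⟨ζ, hζ⟩ : ∃ ζ, ζ = z * r * z⁻¹ * r := ⟨_, rfl⟩
  rw [← hζ] at hr
  have hd : ⁅c, r⁆ ∈ cen P := h.commutator_mem ⟨c, hcP⟩ ⟨r, hrP⟩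
  have e1 : z * ⁅c, r⁆ * z⁻¹ = ⁅c, r⁆ := by rw [(hzc _ hd).eq, mul_inv_cancel_right]
  have hzc' : z * c * z⁻¹ = c := by rw [hc.eq, mul_inv_cancel_right]
  have e2 : z * ⁅c, r⁆ * z⁻¹ = ⁅c, z * r * z⁻¹⁆ := by
    rw [show z * ⁅c, r⁆ * z⁻¹ = ⁅z * c * z⁻¹, z * r * z⁻¹⁆ by simp only [commutatorElement_def]; group, hzc']
  have e3 : z * r * z⁻¹ = ζ * r⁻¹ := by rw [hζ]; group
  have hcl := h.cm_mul_right ⟨c, hcP⟩ ⟨ζ, hr.1⟩ ⟨r⁻¹, inv_mem hrP⟩
  have h0 : h.cm (⟨c, hcP⟩ : P) ⟨ζ, hr.1⟩ = 1 := by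
    rw [h.cm_swap, h.cm_cen _ hr, inv_one]
  have hinv : h.cm (⟨c, hcP⟩ : P) ⟨r⁻¹, inv_mem hrP⟩ = (h.cm ⟨c, hcP⟩ ⟨r, hrP⟩)⁻¹ := by
    refine eq_inv_of_mul_eq_one_left ?_
    rw [← h.cm_mul_right, h.cm_swap, h.cm_cen _ (by simp), inv_one]
  rw [h0, one_mul, hinv] at hcl
  have e4 : ⁅c, r⁆ = (⁅c, r⁆)⁻¹ := by
    conv_lhs => rw [← e1, e2, e3]
    exact congrArg Subtype.val hcl
  have hsq : (⟨⁅c, r⁆, hd⟩ : cen P) ^ 2 ^ 1 = 1 := Subtype.ext (by
    show ⁅c, r⁆ ^ 2 ^ 1 = 1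
    rw [pow_one, pow_two]
    nth_rewrite 2 [e4]
    exact mul_inv_cancel _)
  exact commutatorElement_eq_one_iff_commute.1 (congrArg Subtype.val (D2.eq_one_of_two_pow h.odd_cen hsq))

/-- The plane of an element whose involution moves the quotient. -/
theorem exists_isY (hne : wt ρ (cen P) χ ≠ ⊥) {x : G} (hx : ∃ j, x ^ 2 ^ j = 1)
    (hz : h.act χ ⟨x ^ 2 ^ (e - 1), h.inv_mem_stab χ hx⟩ ≠ 1) :
    ∃ n L, L * 2 ^ (n - 1) = 2 ^ (e - 1) ∧ ∃ hy : x ^ L ∈ h.stab χ,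
      IsY (h.form χ) n q (h.act χ ⟨x ^ L, hy⟩) := by
  classical
  haveI : Fact (Nat.Prime 2) := ⟨Nat.prime_two⟩
  haveI : Fact q.Prime := ⟨h.prime⟩
  haveI := h.normal
  obtain ⟨n, j, hn1, hjn, hyS, hzero⟩ := h.exists_period χ hx
  obtain ⟨U, hU⟩ : ∃ U, U = wt ρ (cen P) χ := ⟨_, rfl⟩
  obtain ⟨y, hy⟩ : ∃ y, y = x ^ 2 ^ j := ⟨_, rfl⟩
  rw [← hy] at hyS hzero
  obtain ⟨z, hzy⟩ : ∃ z, z = y ^ 2 ^ (n - 1) := ⟨_, rfl⟩
  have hzN : z = x ^ 2 ^ (e - 1) := by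
    rw [hzy, hy, ← pow_mul, ← pow_add]; congr 2; omega
  have hy1 : y ^ 2 ^ n = 1 := by rw [hy, ← pow_mul, ← pow_add, hjn, (h.noBlock x hx).1]
  have hzS : z ∈ h.stab χ := hzy ▸ pow_mem hyS _
  obtain ⟨yS, hyS'⟩ : ∃ yS : h.stab χ, (yS : G) = y := ⟨⟨y, hyS⟩, rfl⟩
  obtain ⟨σ, hσ⟩ : ∃ σ, σ = h.act χ yS ^ 2 ^ (n - 1) := ⟨_, rfl⟩
  have hσz : ∀ hz' : z ∈ h.stab χ, h.act χ ⟨z, hz'⟩ = σ := fun hz' => by
    rw [hσ, ← map_pow]; congr 1
    exact Subtype.ext (show z = ((yS ^ 2 ^ (n - 1) : h.stab χ) : G) by rw [SubmonoidClass.coe_pow, hyS', hzy])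
  have hσ1 : σ ≠ 1 := fun e' => hz (by
    refine Eq.trans ?_ (((hσz hzS)).trans e')
    congr 1; exact Subtype.ext hzN.symm)
  have hzc : ∀ t ∈ cen P, Commute z t := fun t ht => hzN ▸ h.inv_commute hx ht
  have hz2 : z * z = 1 := by
    rw [hzy, ← pow_add, ← two_mul, ← pow_succ', Nat.sub_add_cancel hn1, hy1]
  have hUP : ∀ r ∈ P, ∀ w ∈ U, ρ r w ∈ U := fun r hr w hw => by
    rw [hU] at hw ⊢; exact h.invP χ hr hw
  have hUy : ∀ g ∈ h.stab χ, ∀ w ∈ U, ρ g w ∈ U := fun g hg w hw => by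
    rw [hU] at hw ⊢; exact (h.proj_stab χ w hw).1 hg
  have hn2 : 2 ≤ n := by
    by_contra hc
    refine hσ1 ?_
    rw [← hσz hzS]
    refine h.act_eq_one_of_triv χ hne fun w hw => ?_
    show ρ z w = w
    obtain rfl : n = 1 := by omega
    have e1 := hzero w hw
    rw [show 2 ^ 1 - 1 = 1 from rfl, pow_one, LinearMap.sub_apply, Module.End.one_apply, sub_eq_zero] at e1
    rw [hzy, show 2 ^ (1 - 1) = 1 from rfl, pow_one]
    exact e1
  have hPn : ∀ g : G, ∀ r ∈ P, g * r * g⁻¹ ∈ P := fun g r hr => h.normal.conj_mem r hr g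
  have hzi : z⁻¹ = z := inv_eq_of_mul_eq_one_right hz2
  obtain ⟨R, hR⟩ := h.exists_inverted z
  have hRP : R ≤ P := fun r hr => ((hR r).1 hr).1
  have hcenR : cen P ≤ R := fun t ht => (hR t).2 ⟨ht.1, by
    rw [(hzc t ht).eq, mul_inv_cancel_right]; exact mul_mem ht ht⟩
  obtain ⟨X, hX⟩ : ∃ X, X = R ⊓ (h.rad χ).map P.subtype := ⟨_, rfl⟩
  have memX : ∀ r, r ∈ X ↔ r ∈ R ∧ ∃ hr : r ∈ P, (⟨r, hr⟩ : P) ∈ h.rad χ := by
    intro r
    rw [hX, Subgroup.mem_inf]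
    refine and_congr_right fun _ => ⟨?_, fun ⟨hr, h'⟩ => ⟨⟨r, hr⟩, h', rfl⟩⟩
    rintro ⟨a, ha, rfl⟩
    exact ⟨a.2, ha⟩
  have hdec : ∀ r ∈ P, ∃ a c : G, a ∈ R ∧ c ∈ P ∧ Commute z c ∧ r = a * c := by
    intro r hr
    obtain ⟨a, c, ha, hc, hza, hzcc, e'⟩ := split_exact h.odd hz2 (hPn z) hr
    exact ⟨a, c, (hR a).2 ⟨ha, by rw [hza, inv_mul_cancel]; exact one_mem _⟩, hc, hzcc, e'⟩
  have hCR : ∀ c ∈ P, Commute z c → ∀ r ∈ R, Commute c r := fun c hc hzc' r hr =>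
    h.commute_of_inverted hzc hc hzc' ((hR r).1 hr).1 ((hR r).1 hr).2
  -- enough to test the radical against `R`
  have hradR : ∀ d (hd : d ∈ P), (∀ c ∈ P, Commute z c → Commute c d) →
      (∀ r ∈ R, ∃ w ∈ U, w ≠ 0 ∧ ρ ⁅d, r⁆ w = w) → (⟨d, hd⟩ : P) ∈ h.rad χ := by
    intro d hd hdc hdr s
    obtain ⟨a, c, ha, hc, hzc', hs⟩ := hdec s s.2
    rw [show s = ⟨a, hRP ha⟩ * ⟨c, hc⟩ from Subtype.ext hs, h.cm_mul_right, map_mul]
    obtain ⟨w, hw, hw0, hwfix⟩ := hdr a ha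
    rw [h.cm_eq_one_of_fix χ (r := ⟨d, hd⟩) (s := ⟨a, hRP ha⟩) (hU ▸ hw) hw0 hwfix, one_mul,
      show h.cm ⟨d, hd⟩ ⟨c, hc⟩ = 1 from Subtype.ext
        (commutatorElement_eq_one_iff_commute.2 (hdc c hc hzc').symm), map_one]
  obtain ⟨T, hT⟩ : ∃ T, T = Subgroup.zpowers y := ⟨_, rfl⟩
  have hTS : T ≤ h.stab χ := hT ▸ Subgroup.zpowers_le.2 hyS
  have hTp : IsPGroup 2 T := by
    obtain ⟨i, -, hi⟩ := (Nat.dvd_prime_pow Nat.prime_two).1 (orderOf_dvd_of_pow_eq_one hy1)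
    exact IsPGroup.of_card (n := i) (by rw [hT, Nat.card_zpowers, hi])
  have hTz : ∀ t ∈ T, Commute z t := fun t ht => by
    rw [hT] at ht
    obtain ⟨i, rfl⟩ := Subgroup.mem_zpowers_iff.1 ht
    rw [hzy]
    exact (Commute.pow_self y _).zpow_right i
  have hTRc : ∀ t ∈ T, ∀ r ∈ R, t * r * t⁻¹ ∈ R := by
    intro t ht r hr
    obtain ⟨hrP, hr'⟩ := (hR r).1 hr
    refine (hR _).2 ⟨hPn t r hrP, ?_⟩
    have e1 : z * (t * r * t⁻¹) * z⁻¹ = t * (z * r * z⁻¹) * t⁻¹ := by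
      rw [show z * (t * r * t⁻¹) * z⁻¹ = (z * t) * r * (z * t)⁻¹ by group, (hTz t ht).eq]; group
    rw [e1, show t * (z * r * z⁻¹) * t⁻¹ * (t * r * t⁻¹) = t * (z * r * z⁻¹ * r) * t⁻¹ by group]
    exact cen_conj_mem t hr'
  have hTXc : ∀ t ∈ T, ∀ r ∈ X, t * r * t⁻¹ ∈ X := by
    intro t ht r hr
    obtain ⟨hrR, hrP, hrad⟩ := (memX r).1 hr
    exact (memX _).2 ⟨hTRc t ht r hrR, hPn t r hrP, h.rad_conj χ (r := ⟨r, hrP⟩) (hTS ht) hrad _⟩
  have mkN : ∀ H : Subgroup G, (∀ t ∈ T, ∀ r ∈ H, t * r * t⁻¹ ∈ H) → T ≤ Subgroup.normalizer (H : Set G) :=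
    fun H hH t ht => Subgroup.mem_normalizer_iff.2 fun r => ⟨hH t ht r, fun hr => by
      simpa [mul_assoc] using hH t⁻¹ (inv_mem ht) _ hr⟩
  have hyT : y ∈ T := hT ▸ Subgroup.mem_zpowers y
  have hXodd : Odd (Nat.card X) := D2.odd_card_of_le (fun r hr => hRP ((memX r).1 hr).1) h.odd
  -- the radical acts by scalars
  have hXrad : ∀ a ∈ X, ∀ b ∈ X, ∀ w ∈ U, ρ ⁅a, b⁆ w = w := by
    intro a ha b hb w hw
    obtain ⟨-, haP, hra⟩ := (memX a).1 ha
    obtain ⟨-, hbP, -⟩ := (memX b).1 hb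
    exact h.rad_apply χ (r := ⟨a, haP⟩) (s := ⟨b, hbP⟩) hra (hU ▸ hw)
  have hscal : ∀ a ∈ X, ∃ c : k, ∀ w ∈ U, ρ a w = c • w := by
    intro a ha
    obtain ⟨haR, haP, -⟩ := (memX a).1 ha
    have hcom : ∀ g ∈ ⁅X, X⁆, ∀ w ∈ U, ρ g w = w := by
      let K : Subgroup G :=
        { carrier := {g | ∀ w ∈ U, ρ g w = w}
          one_mem' := fun w _ => by rw [map_one, Module.End.one_apply]
          mul_mem' := fun {a b} ha hb w hw => by rw [map_mul, Module.End.mul_apply, hb w hw, ha w hw]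
          inv_mem' := fun {a} ha w hw => by
            conv_lhs => rw [← ha w hw]
            exact rep_inv_apply ρ a w }
      exact fun g hg => (Subgroup.commutator_le.2 fun a ha b hb => hXrad a ha b hb : ⁅X, X⁆ ≤ K) hg
    have hfix := orbit_fix ρ hXodd (fun b hb => hUP b (hRP ((memX b).1 hb).1)) hcom (mkN X hTXc hyT)
      (hUy y hyS) hn1 (fun w hw => hzero w (hU ▸ hw)) a ha
    rw [← hzy] at hfix
    obtain ⟨m, hm⟩ := eq_sq_pow h.odd haP
    obtain ⟨ζ, hζ⟩ : ∃ ζ : cen P, (ζ : G) = z * a * z⁻¹ * a := ⟨⟨_, ((hR a).1 haR).2⟩, rfl⟩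
    have hsq : ∀ w ∈ U, ρ (a * a) w = (χ ζ : k) • w := fun w hw => by
      rw [← (hU ▸ hw : w ∈ wt ρ (cen P) χ) ζ, hζ, map_mul, map_mul ρ _ a, Module.End.mul_apply,
        Module.End.mul_apply, hfix _ (hUP a haP w hw)]
    refine ⟨(χ ζ : k) ^ m, fun w hw => ?_⟩
    have hpow : ∀ i : ℕ, ρ ((a * a) ^ i) w = (χ ζ : k) ^ i • w := fun i => by
      induction i with
      | zero => simp
      | succ i ih => rw [pow_succ, map_mul, Module.End.mul_apply, hsq w hw, map_smul, ih, smul_smul,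
          pow_succ, mul_comm]
    exact (congrArg (fun g => ρ g w) hm).trans (hpow m)
  have hpre : IsPre ρ T R X U :=
    { hT := hTp
      hR := D2.odd_card_of_le hRP h.odd
      hXR := fun r hr => ((memX r).1 hr).1
      hTR := mkN R hTRc
      hTX := mkN X hTXc
      hcomm := Subgroup.commutator_le.2 fun a ha b hb => by
        have hc : ⁅a, b⁆ ∈ cen P := h.commutator_mem ⟨a, hRP ha⟩ ⟨b, hRP hb⟩
        exact (memX _).2 ⟨hcenR hc, hc.1, h.cen_mem_rad χ (r := ⟨_, hc.1⟩) hc⟩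
      invT := fun t ht => hUy t (hTS ht)
      invR := fun r hr => hUP r (hRP hr)
      hscal := hscal
      hnd := fun r hr hfix => (memX r).2 ⟨hr, hRP hr, hradR r (hRP hr) (fun c hc hzc' => hCR c hc hzc' r hr)
        fun s hs => by
          obtain ⟨w, hw, hw0⟩ := (hU ▸ hne : U ≠ ⊥) |> Submodule.exists_mem_ne_zero_of_ne_bot
          exact ⟨w, hw, hw0, hfix s hs w hw⟩⟩ }
  obtain ⟨W, hWU, hext⟩ := exists_invariant_simple hpre (hU ▸ hne)
  obtain ⟨w₁, hw₁, hw₁0⟩ := W.exists_mem_ne_zero_of_ne_bot hext.hne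
  -- the representation on the simple module
  obtain ⟨G', hG'⟩ : ∃ G', G' = T ⊔ R := ⟨_, rfl⟩
  have hG'W : ∀ g : G', ∀ w ∈ W, (ρ.comp G'.subtype) g w ∈ W := by
    obtain ⟨St, hSt⟩ := ThmB.exists_stab ρ W
    intro g
    exact (hSt g).1 ((sup_le (fun t ht => (hSt t).2 (hext.invT t ht)) (fun r hr => (hSt r).2 (hext.invR r hr)) :
      T ⊔ R ≤ St) (hG' ▸ g.2))
  obtain ⟨ρW, hρW⟩ : ∃ ρW, ρW = subRep (ρ.comp G'.subtype) W hG'W := ⟨_, rfl⟩
  have hρW' : ∀ (g : G') (w : W), ((ρW g w : W) : V) = ρ (g : G) (w : V) := fun g w => by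
    rw [hρW, subRep_apply]; rfl
  obtain ⟨y', hy'⟩ : ∃ y' : G', (y' : G) = y := ⟨⟨y, hG' ▸ Subgroup.mem_sup_left hyT⟩, rfl⟩
  have hpowW : ∀ (m : ℕ) (w : W), ((((ρW y' - 1) ^ m : Module.End k W) w : W) : V) =
      ((ρ y - 1) ^ m : Module.End k V) w := by
    intro m
    induction m with
    | zero => intro w; rfl
    | succ m ih =>
      intro w
      rw [pow_succ', pow_succ', Module.End.mul_apply, Module.End.mul_apply, ← ih, LinearMap.sub_apply,
        LinearMap.sub_apply, Module.End.one_apply, Module.End.one_apply, Submodule.coe_sub, hρW', hy']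
  have hs0 : (ρW y' - 1) ^ (2 ^ n - 1) = 0 := LinearMap.ext fun w => Subtype.ext (by
    rw [hpowW, hzero _ (hU ▸ hWU w.2)]; rfl)
  have hex : ∃ s, (ρW y' - 1) ^ s = 0 := ⟨_, hs0⟩
  have hRG' : R ≤ G' := hG' ▸ le_sup_right
  have hQs : IsSimpleRep (ρW.comp (R.subgroupOf G').subtype) := by
    refine ⟨Submodule.nontrivial_iff_ne_bot.2 hext.hne, fun S hS => ?_⟩
    rcases hext.hsimple _ (Submodule.map_subtype_le W S) (fun r hr w hw => by
      obtain ⟨w, hw, rfl⟩ := hw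
      refine ⟨_, hS ⟨⟨r, hRG' hr⟩, hr⟩ w hw, ?_⟩
      exact hρW' _ w) with hS0 | hS0
    · exact Or.inl (Submodule.map_injective_of_injective W.injective_subtype (hS0.trans (Submodule.map_bot _).symm))
    · exact Or.inr (Submodule.map_injective_of_injective W.injective_subtype
        (hS0.trans (Submodule.map_subtype_top W).symm))
  have hzfix : ∀ a ∈ P, Commute z a → a ∈ R → a ∈ cen P := by
    intro a haP hza haR
    have h2 := ((hR a).1 haR).2
    rw [hza.eq, mul_inv_cancel_right] at h2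
    obtain ⟨m, hm⟩ := eq_sq_pow h.odd haP
    rw [hm]; exact pow_mem h2 m
  have hcore := ThmB.core (K := k) (p := 2) h.two_ne (R.subgroupOf G')
    ((h.pgroup.to_le hRP).of_injective
      { toFun := fun g => (⟨((g : G') : G), g.2⟩ : R), map_one' := rfl, map_mul' := fun _ _ => rfl }
      (fun a b e' => Subtype.ext (Subtype.ext (congrArg Subtype.val e' :))))
    (x := y') (Subgroup.mem_normalizer_iff.2 fun g => by
      rw [Subgroup.mem_subgroupOf, Subgroup.mem_subgroupOf, Subgroup.coe_mul, Subgroup.coe_mul,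
        InvMemClass.coe_inv, hy']
      exact Subgroup.mem_normalizer_iff.1 (mkN R hTRc hyT) _) ρW hQs n
    (by rw [← map_pow, show y' ^ 2 ^ n = 1 from Subtype.ext (by rw [SubmonoidClass.coe_pow, hy', hy1]; rfl),
      map_one])
    (fun g hg i hi0 hin hfix => by
      have hgR : (g : G) ∈ R := hg
      have hcm : y ^ i * (g : G) * (y ^ i)⁻¹ = g := by
        have := congrArg Subtype.val hfix
        simpa [hy'] using this
      have hzg : Commute z (g : G) := by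
        have := involution_mem (S := Subgroup.centralizer {(g : G)}) (g := y) (n := n) (i := i)
          (by rw [hy1]; exact one_mem _)
          (Subgroup.mem_centralizer_singleton_iff.2 (mul_inv_eq_iff_eq_mul.1 hcm)) hi0 hin
        rw [hzy]
        exact Subgroup.mem_centralizer_singleton_iff.1 this
      have hgc := hzfix _ (hRP hgR) hzg hgR
      refine ⟨(χ ⟨_, hgc⟩ : k), LinearMap.ext fun w => Subtype.ext ?_⟩
      rw [hρW']
      exact (hU ▸ hWU w.2 : (w : V) ∈ wt ρ (cen P) χ) ⟨_, hgc⟩)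
    (fun g _ => by
      rw [show y' ^ 2 ^ n = 1 from Subtype.ext (by rw [SubmonoidClass.coe_pow, hy', hy1]; rfl), one_mul,
        inv_one, mul_one])
    (Nat.find hex) (Nat.find_spec hex) (fun m hm => Nat.find_min hex hm)
  have hsle : Nat.find hex ≤ 2 ^ n - 1 := Nat.find_min' hex hs0
  have h4 : 4 ≤ 2 ^ n := by simpa using Nat.pow_le_pow_right (n := 2) two_pos hn2
  rcases hcore.2 with hbad | htriv | ⟨hs, hdim, -, ⟨b, hb⟩, -⟩
  · omega
  · exfalso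
    -- `z` would be trivial on the quotient
    refine hσ1 ?_
    rw [← hσz hzS]
    have hyW : ∀ w ∈ W, ρ y w = w := fun w hw => by
      have := congrArg Subtype.val (LinearMap.congr_fun htriv ⟨w, hw⟩)
      rw [hρW', hy'] at this
      exact this
    have hzW : ∀ w ∈ W, ρ z w = w := fun w hw => by
      rw [hzy]
      generalize 2 ^ (n - 1) = i
      induction i with
      | zero => simp
      | succ i ih => rw [pow_succ, map_mul, Module.End.mul_apply, hyW w hw, ih]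
    have hdW : ∀ a ∈ R, ∀ w ∈ W, ρ (a * z * a⁻¹ * z⁻¹) w = w := fun a ha w hw => by
      rw [map_mul, map_mul, map_mul, Module.End.mul_apply, Module.End.mul_apply, Module.End.mul_apply, hzi,
        hzW w hw, hzW _ (hext.invR _ (inv_mem ha) w hw), rep_apply_inv]
    have hRrad : ∀ a (ha : a ∈ R), (⟨a, hRP ha⟩ : P) ∈ h.rad χ := by
      intro a ha
      obtain ⟨d, hd⟩ : ∃ d, d = a * z * a⁻¹ * z⁻¹ := ⟨_, rfl⟩
      have hdR : d ∈ R := by
        rw [hd, mul_assoc, mul_assoc]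
        refine mul_mem ha ?_
        rw [← mul_assoc]
        have hzT : z ∈ T := hzy ▸ pow_mem hyT _
        exact hTRc z hzT _ (inv_mem ha)
      have hdrad : (⟨d, hRP hdR⟩ : P) ∈ h.rad χ :=
        hradR d (hRP hdR) (fun c hc hzc' => hCR c hc hzc' d hdR) fun r hr => ⟨w₁, hWU hw₁, hw₁0, by
          have hdi : ∀ w ∈ W, ρ d⁻¹ w = w := fun w hw => by
            conv_lhs => rw [← hdW a ha w hw, ← hd]
            exact rep_inv_apply ρ d w
          rw [commutatorElement_def, map_mul, map_mul, map_mul, Module.End.mul_apply, Module.End.mul_apply,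
            Module.End.mul_apply, hdi _ (hext.invR _ (inv_mem hr) _ hw₁)]
          conv_lhs => rw [hd, hdW a ha _ (hext.invR r hr _ (hext.invR _ (inv_mem hr) _ hw₁))]
          exact rep_apply_inv ρ r w₁⟩
      obtain ⟨haP, ha'⟩ := (hR a).1 ha
      -- `d` is the square modulo the centre
      have hsq : (⟨a * a, mul_mem haP haP⟩ : P) ∈ h.rad χ := by
        obtain ⟨ζ, hζ⟩ : ∃ ζ, ζ = z * a * z⁻¹ * a := ⟨_, rfl⟩
        rw [← hζ] at ha'
        have e1 : z * a * z⁻¹ = ζ * a⁻¹ := by rw [hζ]; group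
        have e2 : a * a = d * ζ := by
          rw [hd, show a * z * a⁻¹ * z⁻¹ = a * (z * a * z⁻¹)⁻¹ by group, e1]
          rw [mul_inv_rev, inv_inv, mul_assoc, mul_assoc, inv_mul_cancel, mul_one]
        rw [show (⟨a * a, mul_mem haP haP⟩ : P) = ⟨d, hRP hdR⟩ * ⟨ζ, ha'.1⟩ from Subtype.ext e2]
        exact mul_mem hdrad (h.cen_mem_rad χ (r := ⟨ζ, ha'.1⟩) ha')
      obtain ⟨m, hm⟩ := eq_sq_pow h.odd haP
      rw [show (⟨a, hRP ha⟩ : P) = ⟨a * a, mul_mem haP haP⟩ ^ m from Subtype.ext hm]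
      exact pow_mem hsq m
    refine MulEquiv.ext fun t => ?_
    induction t using QuotientGroup.induction_on with | H t => ?_
    obtain ⟨a, c, ha, hc, hzc', ht⟩ := hdec t t.2
    rw [show t = ⟨a, hRP ha⟩ * ⟨c, hc⟩ from Subtype.ext ht, QuotientGroup.mk_mul,
      (QuotientGroup.eq_one_iff _).2 (hRrad a ha), one_mul, h.act_mk, MulAut.one_apply]
    congr 1
    exact Subtype.ext (show z * c * z⁻¹ = c by rw [hzc'.eq, mul_inv_cancel_right])
  -- the exceptional case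
  have hq := eq_prime_of_pow h.prime hn2 hb
  have hfinW : Module.finrank k W = q := by omega
  have hA := h.isPairing χ
  have hcl2 : ∀ a : P ⧸ h.rad χ, ∃ (r c : P), (r : G) ∈ R ∧ Commute z (c : G) ∧
      a = (r : P ⧸ h.rad χ) * c ∧ σ (r : P ⧸ h.rad χ) = (r : P ⧸ h.rad χ)⁻¹ ∧
      σ (c : P ⧸ h.rad χ) = c := by
    intro a
    induction a using QuotientGroup.induction_on with | H t => ?_
    obtain ⟨a, c, ha, hc, hzc', ht⟩ := hdec t t.2
    refine ⟨⟨a, hRP ha⟩, ⟨c, hc⟩, ha, hzc', by rw [← QuotientGroup.mk_mul]; exact congrArg _ (Subtype.ext ht),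
      ?_, ?_⟩
    · rw [← hσz hzS, h.act_mk, ← mul_eq_one_iff_eq_inv, ← QuotientGroup.mk_mul, QuotientGroup.eq_one_iff]
      exact h.cen_mem_rad χ ((hR a).1 ha).2
    · rw [← hσz hzS, h.act_mk]
      congr 1
      exact Subtype.ext (show z * c * z⁻¹ = c by rw [hzc'.eq, mul_inv_cancel_right])
  have hfixinv : ∀ a : P ⧸ h.rad χ, σ a = a → σ a = a⁻¹ → a = 1 := fun a h1 h2 => by
    refine D2.eq_one_of_pow_two hA.odd ?_
    rw [pow_two]
    nth_rewrite 1 [h1.symm.trans h2]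
    exact inv_mul_cancel a
  have hmovR : ∀ a ∈ mov σ, ∃ r : P, (r : G) ∈ R ∧ (r : P ⧸ h.rad χ) = a := by
    intro a ha
    obtain ⟨r, c, hr, -, rfl, h1, h2⟩ := hcl2 a
    rw [mem_mov, map_mul, h1, h2, mul_inv, mul_right_inj] at ha
    exact ⟨r, hr, by rw [hfixinv _ h2 (h2.trans ha), mul_one]⟩
  choose rep hrepR hrep using hmovR
  have hcardle : Nat.card (mov σ) ≤ q ^ 2 := by
    have hli : LinearIndependent k (fun a : mov σ =>
        (ρW ⟨(rep a a.2 : G), hRG' (hrepR a a.2)⟩ : Module.End k W)) := by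
      rw [Fintype.linearIndependent_iff]
      intro g hg i
      refine hpre.indep (U₁ := W) hWU hext.hne hext.invR (fun a : mov σ => (rep a a.2 : G)) Finset.univ
        (fun a _ => hrepR a a.2) (fun a _ b _ hab hmem => hab ?_) g (fun w hw => ?_) i (Finset.mem_univ i)
      · obtain ⟨-, hP', hrad⟩ := (memX _).1 hmem
        refine Subtype.ext ?_
        rw [← hrep a a.2, ← hrep b b.2]
        exact QuotientGroup.eq.2 hrad
      · have := congrArg Subtype.val (LinearMap.congr_fun hg ⟨w, hw⟩)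
        simpa [hρW', LinearMap.sum_apply] using this
    have := hli.fintype_card_le_finrank
    rwa [Module.finrank_linearMap, hfinW, ← Nat.card_eq_fintype_card, ← pow_two] at this
  have hσp : Pres (h.form χ) σ := hσ ▸ (h.act_pres χ yS).pow _
  have hσ2 : σ * σ = 1 := by
    rw [← hσz hzS, ← map_mul]
    convert map_one (h.act χ)
    exact Subtype.ext hz2
  have hcard : Nat.card (mov σ) = q ^ 2 := by
    obtain ⟨i, hi⟩ := ((h.pgroup.to_quotient (h.rad χ)).to_subgroup (mov σ)).exists_card_eq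
    have h2i : 2 ≤ i := by
      by_contra hc
      have hcyc : IsCyclic (mov σ) := by
        rcases (show i = 0 ∨ i = 1 by omega) with rfl | rfl
        · haveI : Subsingleton (mov σ) := (Nat.card_eq_one_iff_unique.1 (by simpa using hi)).1
          infer_instance
        · exact isCyclic_of_prime_card (p := q) (by simpa using hi)
      obtain ⟨g, hg⟩ := IsCyclic.exists_monoid_generator (α := mov σ)
      refine hσ1 (MulEquiv.ext fun a => ?_)
      obtain ⟨r, c, -, -, rfl, h1, h2⟩ := hcl2 a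
      have hr1 : (r : P ⧸ h.rad χ) = 1 := hA.nd_mov hσp hσ2 h1 fun b hb => by
        obtain ⟨x₁, hx₁⟩ := Submonoid.mem_powers_iff _ _ |>.1 (hg ⟨_, h1⟩)
        obtain ⟨x₂, hx₂⟩ := Submonoid.mem_powers_iff _ _ |>.1 (hg ⟨b, hb⟩)
        rw [show (r : P ⧸ h.rad χ) = (g : P ⧸ h.rad χ) ^ x₁ from (congrArg Subtype.val hx₁).symm,
          show b = (g : P ⧸ h.rad χ) ^ x₂ from (congrArg Subtype.val hx₂).symm, hA.pow_left, hA.pow_right,
          hA.alt, one_pow, one_pow]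
      rw [map_mul, h2, hr1, map_one, MulAut.one_apply]
    rw [hi] at hcardle ⊢
    have := (Nat.pow_le_pow_iff_right h.prime.one_lt).1 hcardle
    rw [show i = 2 by omega]
  refine ⟨n, 2 ^ j, by rw [← pow_add]; congr 1; omega, hy ▸ hyS, ?_⟩
  have hact : h.act χ ⟨x ^ 2 ^ j, hy ▸ hyS⟩ = h.act χ yS := by
    congr 1; exact Subtype.ext (hy ▸ hyS'.symm)
  rw [hact]
  refine { pres := h.act_pres χ yS, pow := ?_, two_le := hn2, prime := h.prime, hq := hq, card := ?_, fix := ?_ }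
  · rw [← map_pow, show yS ^ 2 ^ n = 1 from Subtype.ext (by rw [SubmonoidClass.coe_pow, hyS', hy1]; rfl),
      map_one]
  · rw [← hσ]; exact hcard
  intro a ha
  rw [← hσ] at ha
  obtain ⟨r, c, hr, hzc', rfl, h1, h2⟩ := hcl2 a
  rw [map_mul, h1, h2, mul_left_inj] at ha
  rw [hfixinv _ (h1.trans ha) h1, one_mul]
  rw [h.act_mk, ← mul_inv_eq_one, ← QuotientGroup.mk_inv, ← QuotientGroup.mk_mul, QuotientGroup.eq_one_iff]
  obtain ⟨d, hd⟩ : ∃ d : P, (d : G) = y * c * y⁻¹ * (c : G)⁻¹ :=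
    ⟨⟨_, mul_mem (hPn y c c.2) (inv_mem c.2)⟩, rfl⟩
  suffices hdr : d ∈ h.rad χ by
    convert hdr using 1
    exact Subtype.ext (by rw [hd, ← hyS']; rfl)
  have hzy' : Commute z y := hTz y hyT
  have hzd : Commute z (d : G) := by
    rw [hd]; exact ((hzy'.mul_right hzc').mul_right hzy'.inv_right).mul_right hzc'.inv_right
  -- the vectors reached by equivariant maps
  obtain ⟨hsE, -⟩ : ∃ _ : Nat.find hex = 2 ^ n - 1, True := ⟨by omega, trivial⟩
  obtain ⟨M, hM⟩ : ∃ M : Set V, ∀ v, v ∈ M ↔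
      ∃ Φ : W →ₗ[k] V, (∀ w, Φ w ∈ U) ∧ Intertwines ρ R W Φ ∧ ∃ w, Φ w = v :=
    ⟨{v | ∃ Φ : W →ₗ[k] V, (∀ w, Φ w ∈ U) ∧ Intertwines ρ R W Φ ∧ ∃ w, Φ w = v}, fun _ => Iff.rfl⟩
  have hyWm : ∀ w ∈ W, ρ y w ∈ W := hext.invT y hyT
  have heq : ∀ Φ : W →ₗ[k] V, (∀ w, Φ w ∈ U) → Intertwines ρ R W Φ →
      ∀ w : W, ρ y (Φ w) = Φ ⟨ρ y w, hyWm w w.2⟩ := by
    obtain ⟨H, hH⟩ : ∃ H : Submodule k (↥W →ₗ[k] V),
        ∀ Φ, Φ ∈ H ↔ (∀ w, Φ w ∈ U) ∧ Intertwines ρ R W Φ :=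
      ⟨{ carrier := {Φ | (∀ w, Φ w ∈ U) ∧ Intertwines ρ R W Φ}
         add_mem' := fun {Φ Ψ} hΦ hΨ => ⟨fun w => U.add_mem (hΦ.1 w) (hΨ.1 w), fun r hr w hw => by
           rw [LinearMap.add_apply, LinearMap.add_apply, hΦ.2 r hr w hw, hΨ.2 r hr w hw, map_add]⟩
         zero_mem' := ⟨fun w => U.zero_mem, fun r _ w _ => by simp⟩
         smul_mem' := fun c Φ hΦ => ⟨fun w => U.smul_mem c (hΦ.1 w), fun r hr w hw => by
           rw [LinearMap.smul_apply, LinearMap.smul_apply, hΦ.2 r hr w hw, map_smul]⟩ }, fun _ => Iff.rfl⟩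
    obtain ⟨back, hback⟩ : ∃ back : W →ₗ[k] W, ∀ w : W, (back w : V) = ρ y⁻¹ (w : V) :=
      ⟨((ρ y⁻¹).comp W.subtype).codRestrict W fun w => hext.invT _ (inv_mem hyT) _ w.2, fun _ => rfl⟩
    obtain ⟨S₁, hS₁⟩ : ∃ S₁ : Module.End k (↥W →ₗ[k] V), ∀ Φ, S₁ Φ = (ρ y).comp (Φ.comp back) :=
      ⟨{ toFun := fun Φ => (ρ y).comp (Φ.comp back)
         map_add' := fun Φ Ψ => by ext w; simp
         map_smul' := fun c Φ => by ext w; simp }, fun _ => rfl⟩
    have hSapp : ∀ Φ (w : W), S₁ Φ ⟨ρ y w, hyWm w w.2⟩ = ρ y (Φ w) := fun Φ w => by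
      rw [hS₁, LinearMap.comp_apply, LinearMap.comp_apply]
      congr 2
      exact Subtype.ext (by rw [hback]; exact rep_inv_apply ρ y w)
    have hSinv : ∀ Φ ∈ H, S₁ Φ ∈ H := by
      intro Φ hΦ
      rw [hH] at hΦ ⊢
      refine ⟨fun w => by rw [hS₁]; exact hUy y hyS _ (hΦ.1 _), fun r' hr' w hw => ?_⟩
      have hr2 : y⁻¹ * r' * y ∈ R := by simpa using hTRc y⁻¹ (inv_mem hyT) r' hr'
      simp only [hS₁, LinearMap.comp_apply]
      rw [show back ⟨ρ r' w, hw⟩ = ⟨ρ (y⁻¹ * r' * y) (back w : V), hext.invR _ hr2 _ (back w).2⟩ from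
        Subtype.ext (by
          rw [hback]
          show ρ y⁻¹ (ρ r' w) = ρ (y⁻¹ * r' * y) (back w : V)
          rw [hback, ← Module.End.mul_apply, ← map_mul, ← Module.End.mul_apply, ← map_mul, mul_inv_cancel_right]),
        hΦ.2 _ hr2, ← Module.End.mul_apply, ← map_mul, ← Module.End.mul_apply, ← map_mul]
      congr 2; group
    have hS1 : ∀ (i : ℕ) (Φ : W →ₗ[k] V) (w : W),
        ((S₁ ^ i : Module.End k (↥W →ₗ[k] V)) Φ) w = ρ (y ^ i) (Φ ((back ^ i : Module.End k W) w)) := by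
      intro i
      induction i with
      | zero => intro Φ w; simp
      | succ i ih =>
        intro Φ w
        rw [pow_succ', Module.End.mul_apply, hS₁, LinearMap.comp_apply, LinearMap.comp_apply, ih, pow_succ' y,
          map_mul, Module.End.mul_apply, pow_succ, Module.End.mul_apply]
    have hnil : (S₁ - 1) ^ 2 ^ n = 0 := by
      rw [← Nat.sub_add_cancel (Nat.one_le_two_pow (n := n)), pow_succ, ← geom_two (k := k), geom_sum_mul, sub_eq_zero]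
      refine LinearMap.ext fun Φ => LinearMap.ext fun w => ?_
      have hb : ∀ i, (((back ^ i : Module.End k W) w : W) : V) = ρ (y⁻¹ ^ i) (w : V) := fun i => by
        induction i with
        | zero => simp
        | succ i ih => rw [pow_succ', Module.End.mul_apply, hback, ih, pow_succ', map_mul, Module.End.mul_apply]
      rw [hS1, hy1, map_one, Module.End.one_apply, Module.End.one_apply]
      congr 1
      exact Subtype.ext (by rw [hb, inv_pow, hy1, inv_one, map_one, Module.End.one_apply])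
    suffices hall : ∀ Φ ∈ H, S₁ Φ = Φ from fun Φ h1' h2' w => by
      rw [← hSapp Φ w, hall Φ ((hH Φ).2 ⟨h1', h2'⟩)]
    by_contra hc
    push Not at hc
    obtain ⟨Φ, hΦ, hΦ1⟩ := hc
    have hex2 : ∃ m, ((S₁ - 1) ^ m : Module.End k (↥W →ₗ[k] V)) Φ = 0 := ⟨2 ^ n, by rw [hnil]; rfl⟩
    have hm2 : 2 ≤ Nat.find hex2 := by
      by_contra hlt
      have hm' := Nat.find_spec hex2
      rcases (show Nat.find hex2 = 0 ∨ Nat.find hex2 = 1 by omega) with e' | e' <;> rw [e'] at hm'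
      · rw [pow_zero, Module.End.one_apply] at hm'
        exact hΦ1 (by rw [hm', map_zero])
      · rw [pow_one, LinearMap.sub_apply, Module.End.one_apply, sub_eq_zero] at hm'
        exact hΦ1 hm'
    obtain ⟨m, hm⟩ : ∃ m, Nat.find hex2 = m + 2 := ⟨_, (Nat.sub_add_cancel hm2).symm⟩
    obtain ⟨Φ₁, hΦ₁⟩ : ∃ Φ₁, Φ₁ = ((S₁ - 1) ^ m : Module.End k (↥W →ₗ[k] V)) Φ := ⟨_, rfl⟩
    obtain ⟨Φ₀, hΦ₀⟩ : ∃ Φ₀, Φ₀ = (S₁ - 1) Φ₁ := ⟨_, rfl⟩
    have hΦ₀0 : Φ₀ ≠ 0 := fun e' => Nat.find_min hex2 (show m + 1 < Nat.find hex2 by omega) (by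
      rw [pow_succ', Module.End.mul_apply, ← hΦ₁, ← hΦ₀, e'])
    have hΦ₀S : S₁ Φ₀ = Φ₀ := by
      have e' := Nat.find_spec hex2
      rw [hm, pow_succ', pow_succ', Module.End.mul_apply, Module.End.mul_apply, ← hΦ₁, ← hΦ₀,
        LinearMap.sub_apply, Module.End.one_apply, sub_eq_zero] at e'
      exact e'
    have hmem : ∀ i, ((S₁ - 1) ^ i : Module.End k (↥W →ₗ[k] V)) Φ ∈ H := fun i => by
      induction i with
      | zero => simpa using hΦ
      | succ i ih =>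
        rw [pow_succ', Module.End.mul_apply, LinearMap.sub_apply, Module.End.one_apply]
        exact sub_mem (hSinv _ ih) ih
    have hΦ₁H := (hH _).1 (hΦ₁ ▸ hmem m)
    have hΦ₀H : Φ₀ ∈ H := by
      rw [hΦ₀, LinearMap.sub_apply, Module.End.one_apply]
      exact sub_mem (hSinv _ ((hH _).2 hΦ₁H)) ((hH _).2 hΦ₁H)
    have hDy : ∀ w : W, ρW y' w = ⟨ρ y w, hyWm w w.2⟩ := fun w => Subtype.ext (by rw [hρW', hy'])
    have hblock := no_shift (ρ y) (ρW y') Φ₁ Φ₀ (fun w => by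
        rw [hDy, ← hSapp Φ₁ w, show S₁ Φ₁ = Φ₁ + Φ₀ by rw [hΦ₀, LinearMap.sub_apply, Module.End.one_apply]; abel]
        rfl)
      (fun w => by rw [hDy, ← hSapp Φ₀ w, hΦ₀S]) (2 ^ (n - 1) - 1) (fun w => by
        rw [show 2 * (2 ^ (n - 1) - 1) + 1 = 2 ^ n - 1 by
          have : 2 ^ n = 2 ^ (n - 1) * 2 := by rw [← pow_succ, Nat.sub_add_cancel hn1]
          omega]
        exact hzero _ (hU ▸ hΦ₁H.1 w)) (by
        rw [show 2 * (2 ^ (n - 1) - 1) + 1 = 2 ^ n - 1 by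
          have : 2 ^ n = 2 ^ (n - 1) * 2 := by rw [← pow_succ, Nat.sub_add_cancel hn1]
          omega]
        exact hs0)
    refine Nat.find_min hex (show 2 * (2 ^ (n - 1) - 1) < Nat.find hex by
      have : 2 ^ n = 2 ^ (n - 1) * 2 := by rw [← pow_succ, Nat.sub_add_cancel hn1]
      omega) (LinearMap.ext fun w => ?_)
    have e1 := hext.inj ((hH _).1 hΦ₀H).2 hΦ₀0 ((hblock w).trans (map_zero Φ₀).symm)
    refine Subtype.ext ?_
    have e2 := congrArg Subtype.val e1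
    rw [hρW', hy'] at e2
    rw [← rep_inv_apply ρ y (((((ρW y' - 1) ^ (2 * (2 ^ (n - 1) - 1)) : Module.End k W) w : W)) : V), e2]
    simp
  have hCM : ∀ c' ∈ P, Commute z c' → ∀ v ∈ M, ρ c' v ∈ M ∧ ρ y (ρ c' v) ∈ M := by
    intro c' hc' hzc'' v hv
    obtain ⟨Φ, hΦ1, hΦ2, w, rfl⟩ := (hM v).1 hv
    have hΨ : Intertwines ρ R W ((ρ c').comp Φ) := fun r' hr' u hu => by
      rw [LinearMap.comp_apply, LinearMap.comp_apply, hΦ2 r' hr' u hu, ← Module.End.mul_apply, ← map_mul,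
        (hCR c' hc' hzc'' r' hr').eq, map_mul, Module.End.mul_apply]
    refine ⟨(hM _).2 ⟨_, fun u => hUP c' hc' _ (hΦ1 u), hΨ, w, rfl⟩, (hM _).2 ⟨_, fun u => hUP c' hc' _ (hΦ1 u), hΨ, ⟨ρ y w, hyWm w w.2⟩, ?_⟩⟩
    exact (heq _ (fun u => hUP c' hc' _ (hΦ1 u)) hΨ w).symm
  have hyM : ∀ c' ∈ P, Commute z c' → ∀ v ∈ M, ρ y (ρ c' v) = ρ c' (ρ y v) := by
    intro c' hc' hzc'' v hv
    obtain ⟨Φ, hΦ1, hΦ2, w, rfl⟩ := (hM v).1 hv
    have hΨ : Intertwines ρ R W ((ρ c').comp Φ) := fun r' hr' u hu => by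
      rw [LinearMap.comp_apply, LinearMap.comp_apply, hΦ2 r' hr' u hu, ← Module.End.mul_apply, ← map_mul,
        (hCR c' hc' hzc'' r' hr').eq, map_mul, Module.End.mul_apply]
    have e' := heq _ (fun u => hUP c' hc' _ (hΦ1 u)) hΨ w
    rw [LinearMap.comp_apply, LinearMap.comp_apply] at e'
    rw [e', heq Φ hΦ1 hΦ2 w]
  have hyiM : ∀ v ∈ M, ρ y⁻¹ v ∈ M := by
    intro v hv
    obtain ⟨Φ, hΦ1, hΦ2, w, rfl⟩ := (hM v).1 hv
    refine (hM _).2 ⟨Φ, hΦ1, hΦ2, ⟨ρ y⁻¹ w, hext.invT _ (inv_mem hyT) _ w.2⟩, ?_⟩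
    conv_rhs => rw [show w = ⟨ρ y (ρ y⁻¹ w), hyWm _ (hext.invT _ (inv_mem hyT) _ w.2)⟩ from
      Subtype.ext (rep_apply_inv ρ y (w : V)).symm, ← heq Φ hΦ1 hΦ2 ⟨ρ y⁻¹ w, hext.invT _ (inv_mem hyT) _ w.2⟩,
      rep_inv_apply]
  have hdM : ∀ v ∈ M, ρ (d : G) v = v := by
    intro v hv
    have hc1 : ρ (c : G)⁻¹ v ∈ M := (hCM _ (inv_mem c.2) hzc'.inv_right v hv).1
    rw [hd, map_mul, map_mul, map_mul, Module.End.mul_apply, Module.End.mul_apply, Module.End.mul_apply,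
      hyM c c.2 hzc' _ (hyiM _ hc1), rep_apply_inv, rep_apply_inv]
  have hw₁M : w₁ ∈ M := (hM _).2 ⟨W.subtype, fun u => hWU u.2, fun r' _ u hu => rfl, ⟨w₁, hw₁⟩, rfl⟩
  intro s
  obtain ⟨a, c', ha', hc', hzc'', hs'⟩ := hdec s s.2
  rw [show s = ⟨a, hRP ha'⟩ * ⟨c', hc'⟩ from Subtype.ext hs', h.cm_mul_right, map_mul,
    show h.cm d ⟨a, hRP ha'⟩ = 1 from Subtype.ext
      (commutatorElement_eq_one_iff_commute.2 (hCR d d.2 hzd a ha')), map_one, one_mul]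
  refine h.cm_eq_one_of_fix χ (hU ▸ hWU hw₁) hw₁0 ?_
  show ρ ⁅(d : G), c'⁆ w₁ = w₁
  have hdi : ∀ v ∈ M, ρ (d : G)⁻¹ v = v := fun v hv => by
    conv_lhs => rw [← hdM v hv]
    exact rep_inv_apply ρ _ v
  have h3 := (hCM _ (inv_mem hc') hzc''.inv_right _ hw₁M).1
  rw [commutatorElement_def, map_mul, map_mul, map_mul, Module.End.mul_apply, Module.End.mul_apply,
    Module.End.mul_apply, hdi _ h3, hdM _ (hCM _ hc' hzc'' _ h3).1, rep_apply_inv]

end Setup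

end Cfsg.Agent.Solv.E2
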