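import Cfsg.Agent.Lib.Solv.ExponentTwo.Setup
import Cfsg.Agent.Lib.Solv.FrattiniModule

/-!
Representations over an extension of the field of two elements: base change, the section of two normal
subgroups, direct sums, factoring through a surjection.
-/

set_option autoImplicit false
set_option linter.style.haveILetI false
set_option linter.unusedSectionVars false

namespace Cfsg.Agent.Solv.E2

attribute [local instance] Fintype.ofFinite

open scoped commutatorElement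

universe u v

variable {G : Type u} [Group G] [Finite G] (k : Type) [Field k] [CharP k 2]

/-- Base change from the field of two elements. -/
theorem exists_base (m : ℕ) :
    ∃ Θ : Module.End (ZMod 2) (Fin m → ZMod 2) →+* Module.End k (Fin m → k), Function.Injective Θ := by
  haveI : Fact (Nat.Prime 2) := ⟨Nat.prime_two⟩
  refine ⟨(Matrix.toLinAlgEquiv' : Matrix _ _ k ≃ₐ[k] _).toRingEquiv.toRingHom.comp
    (((ZMod.castHom (dvd_refl 2) k)).mapMatrix.comp
      (LinearMap.toMatrixAlgEquiv' : _ ≃ₐ[ZMod 2] Matrix _ _ (ZMod 2)).toRingEquiv.toRingHom), ?_⟩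
  intro a b hab
  apply LinearMap.toMatrixAlgEquiv'.injective
  exact Matrix.map_injective (ZMod.castHom (dvd_refl 2) k).injective (Matrix.toLinAlgEquiv'.injective hab)

/-- The representation on an elementary abelian section. -/
theorem exists_norm_rep (Φ D : Subgroup G) [Φ.Normal] [D.Normal]
    (hab : ∀ a ∈ D, ∀ b ∈ D, ⁅a, b⁆ ∈ Φ) (hsq : ∀ a ∈ D, a * a ∈ Φ) :
    ∃ (m : ℕ) (ρ : G →* Module.End k (Fin m → k)),
      (∀ g, ρ g = 1 ↔ ∀ d ∈ D, ⁅g, d⁆ ∈ Φ) ∧
      ∀ g N, (∀ d ∈ D, (d * g) ^ N * (g ^ N)⁻¹ ∈ Φ) → ∑ i ∈ Finset.range N, ρ g ^ i = 0 := by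
  classical
  haveI : Fact (Nat.Prime 2) := ⟨Nat.prime_two⟩
  obtain ⟨π, hπ⟩ : ∃ π, π = QuotientGroup.mk' Φ := ⟨_, rfl⟩
  have hπs : Function.Surjective π := hπ ▸ QuotientGroup.mk'_surjective Φ
  have hπ1 : ∀ g, π g = 1 ↔ g ∈ Φ := fun g => by rw [hπ]; exact QuotientGroup.eq_one_iff g
  obtain ⟨A, hA⟩ : ∃ A, A = D.map π := ⟨_, rfl⟩
  haveI : A.Normal := hA ▸ Subgroup.Normal.map inferInstance π hπs
  have hAel : Cfsg.IsElementaryAbelian 2 A := by
    refine ⟨⟨⟨fun a b => Subtype.ext ?_⟩⟩, fun a ha => ?_⟩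
    · obtain ⟨x, hx, hxa⟩ := Subgroup.mem_map.1 (hA.le a.2)
      obtain ⟨y, hy, hyb⟩ := Subgroup.mem_map.1 (hA.le b.2)
      show (a : G ⧸ Φ) * b = b * a
      rw [← hxa, ← hyb, ← commutatorElement_eq_one_iff_mul_comm, ← map_commutatorElement, hπ1]
      exact hab x hx y hy
    · obtain ⟨x, hx, rfl⟩ := Subgroup.mem_map.1 (hA.le ha)
      rw [← map_pow, hπ1, pow_two]
      exact hsq x hx
  obtain ⟨m, ε, ρ₀, hεinj, hmem, hadd, hact⟩ := ThmB.exists_module A hAel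
  obtain ⟨Θ, hΘ⟩ := exists_base k m
  have hε0 : ε 0 = 1 := mul_eq_left.1 (by rw [← hadd, add_zero] : ε 0 * ε 0 = ε 0)
  have hlift : ∀ a, ∃ v ∈ D, π v = ε a := fun a => by
    have h1 : ε a ∈ A := (hmem _).2 ⟨a, rfl⟩
    rw [hA] at h1
    exact h1
  refine ⟨m, Θ.toMonoidHom.comp (ρ₀.comp π), fun g => ?_, fun g N hN => ?_⟩
  · show Θ (ρ₀ (π g)) = 1 ↔ _
    rw [← map_one Θ, hΘ.eq_iff]
    refine ⟨fun h d hd => ?_, fun h => LinearMap.ext fun a => hεinj ?_⟩
    · obtain ⟨a, ha⟩ := (hmem (π d)).1 (hA ▸ Subgroup.mem_map_of_mem π hd)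
      have h1 := hact (π g) a
      rw [h, Module.End.one_apply, ha] at h1
      rw [← hπ1, map_commutatorElement, commutatorElement_def, ← h1, mul_inv_cancel]
    · obtain ⟨v, hv, hva⟩ := hlift a
      have h1 := (hπ1 _).2 (h v hv)
      rw [map_commutatorElement, hva, commutatorElement_def, mul_inv_eq_one] at h1
      rw [hact, h1, Module.End.one_apply]
  · show ∑ i ∈ Finset.range N, Θ (ρ₀ (π g)) ^ i = 0
    simp only [← map_pow Θ, ← map_sum Θ]
    rw [← map_zero Θ]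
    congr 1
    refine LinearMap.ext fun a => hεinj ?_
    obtain ⟨v, hv, hva⟩ := hlift a
    have h1 := ThmB.mul_pow_module ε ρ₀ hadd hact (π g) a N
    have h2 := (hπ1 _).2 (hN v hv)
    rw [map_mul, map_inv, map_pow, map_pow, map_mul, hva, h1, mul_inv_cancel_right] at h2
    rw [LinearMap.zero_apply, h2, hε0]

/-- The direct sum of two representations. -/
theorem exists_sum {Q : Type*} [Monoid Q] {d₁ d₂ : ℕ} (σ₁ : Q →* Module.End k (Fin d₁ → k))
    (σ₂ : Q →* Module.End k (Fin d₂ → k)) :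
    ∃ (d : ℕ) (σ : Q →* Module.End k (Fin d → k)), (∀ y, σ y = 1 ↔ σ₁ y = 1 ∧ σ₂ y = 1) ∧
      ∀ y j, (σ y - 1) ^ j = 0 ↔ (σ₁ y - 1) ^ j = 0 ∧ (σ₂ y - 1) ^ j = 0 := by
  obtain ⟨d, hd⟩ : ∃ d, d = Module.finrank k ((Fin d₁ → k) × (Fin d₂ → k)) := ⟨_, rfl⟩
  obtain ⟨E, -⟩ : ∃ E : ((Fin d₁ → k) × (Fin d₂ → k)) ≃ₗ[k] (Fin d → k), True :=
    ⟨(hd ▸ Module.finBasis k _ : Module.Basis (Fin d) k _).equivFun, trivial⟩
  obtain ⟨Θ, hΘ⟩ : ∃ Θ : Module.End k (Fin d₁ → k) × Module.End k (Fin d₂ → k) →+* Module.End k (Fin d → k),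
      Function.Injective Θ :=
    ⟨E.conjRingEquiv.toRingHom.comp (LinearMap.prodMapRingHom k _ _), E.conjRingEquiv.injective.comp
      fun a b hab => Prod.ext (LinearMap.ext fun v => congrArg Prod.fst (LinearMap.congr_fun hab (v, 0)))
        (LinearMap.ext fun v => congrArg Prod.snd (LinearMap.congr_fun hab (0, v)))⟩
  refine ⟨d, Θ.toMonoidHom.comp (σ₁.prod σ₂), fun y => ?_, fun y j => ?_⟩
  · show Θ (σ₁ y, σ₂ y) = 1 ↔ _
    rw [← map_one Θ, hΘ.eq_iff]
    exact Prod.ext_iff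
  · show (Θ (σ₁ y, σ₂ y) - 1) ^ j = 0 ↔ _
    rw [← map_one Θ, ← map_sub, ← map_pow, ← map_zero Θ, hΘ.eq_iff]
    exact Prod.ext_iff

variable {k}

/-- Factoring through a surjection. -/
theorem exists_factor {Q : Type*} [Group Q] {W : Type*} [Monoid W] (f : G →* Q) (hf : Function.Surjective f)
    (ρ : G →* W) (h : ∀ g, f g = 1 → ρ g = 1) : ∃ σ : Q →* W, ∀ g, σ (f g) = ρ g := by
  refine ⟨(QuotientGroup.lift f.ker ρ fun g hg => MonoidHom.mem_ker.2 (h g hg)).comp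
    (QuotientGroup.quotientKerEquivOfSurjective f hf).symm.toMonoidHom, fun g => ?_⟩
  rw [MonoidHom.comp_apply]
  have e : (QuotientGroup.quotientKerEquivOfSurjective f hf).symm (f g) = QuotientGroup.mk g :=
    (QuotientGroup.quotientKerEquivOfSurjective f hf).injective (by rw [MulEquiv.apply_symm_apply]; rfl)
  show QuotientGroup.lift f.ker ρ _ ((QuotientGroup.quotientKerEquivOfSurjective f hf).symm (f g)) = _
  rw [e]
  rfl

end Cfsg.Agent.Solv.E2
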