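import Cfsg.Agent.Lib.Solv.ExponentTwo.Step
import Cfsg.Agent.Lib.Solv.ExponentTwo.Rep
import Cfsg.Agent.Lib.Solv.DerivedTwo.Facts
import Cfsg.Agent.Lib.Solv.PLengthExponent
import Cfsg.Agent.Lib.Solv.PLength
import Cfsg.Agent.Lib.Solv.PSolvHall
import Cfsg.Agent.Lib.Fusion.Cores
import Mathlib.FieldTheory.IsAlgClosed.AlgebraicClosure

/-!
The 2-length of a 2-soluble group is at most the exponent of its Sylow 2-subgroups.
-/

set_option autoImplicit false
set_option linter.style.haveILetI false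
set_option linter.unusedSectionVars false
set_option maxHeartbeats 1000000

namespace Cfsg.Agent.Solv.E2

attribute [local instance] Fintype.ofFinite

open scoped commutatorElement

universe u

variable {G : Type u} [Group G] [Finite G]

/-- The coefficient field. -/
abbrev K2 : Type := AlgebraicClosure (ZMod 2)

/-- An element and its power by the 2-part of its order. -/
theorem exists_odd_pow (g : G) : ∃ i, Odd (orderOf (g ^ 2 ^ i)) := by
  obtain ⟨i, l, hl, hgl⟩ := Nat.exists_eq_pow_mul_and_not_dvd (orderOf_pos g).ne' 2 (by norm_num)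
  refine ⟨i, ?_⟩
  rw [orderOf_pow_of_dvd (by positivity) (hgl ▸ dvd_mul_right _ _), hgl,
    Nat.mul_div_cancel_left _ (by positivity)]
  exact Nat.odd_iff.2 (by omega)

/-- A 2-element of the image of a surjection lifts to a 2-element. -/
theorem exists_two_lift {Q : Type u} [Group Q] (f : G →* Q) (hf : Function.Surjective f) {z : Q}
    (hz : ∃ j, z ^ 2 ^ j = 1) : ∃ x, f x = z ∧ ∃ j, x ^ 2 ^ j = 1 := by
  haveI : Fact (Nat.Prime 2) := ⟨Nat.prime_two⟩
  obtain ⟨j, hj⟩ := hz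
  obtain ⟨x, hx, hx2⟩ := PLE.exists_lift (p := 2) f.ker
    ((QuotientGroup.quotientKerEquivOfSurjective f hf).symm z) ⟨j, by rw [← map_pow, hj, map_one]⟩
  refine ⟨x, ?_, hx2⟩
  have e := congrArg (QuotientGroup.quotientKerEquivOfSurjective f hf) hx
  rwa [MulEquiv.apply_symm_apply] at e

/-- A normal subgroup of a 2-group together with squares and commutators is proper. -/
theorem exists_proper {D R R' : Subgroup G} (hD : IsPGroup 2 D) (hRD : R ≤ D) (hR' : R' ≤ R) (hne : R' ≠ R)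
    {M : Subgroup G} (hDM : D ≤ M) (hMD : ∀ g ∈ M, ∀ d ∈ D, g * d * g⁻¹ ∈ D)
    (hMR : ∀ g ∈ M, ∀ d ∈ R, g * d * g⁻¹ ∈ R) (hMR' : ∀ g ∈ M, ∀ d ∈ R', g * d * g⁻¹ ∈ R') :
    ∃ T : Subgroup G, R' ≤ T ∧ T ≤ R ∧ T ≠ R ∧ (∀ g ∈ M, ∀ d ∈ T, g * d * g⁻¹ ∈ T) ∧
      (∀ r ∈ R, ∀ d ∈ D, ⁅r, d⁆ ∈ T) ∧ ∀ r ∈ R, r * r ∈ T := by
  classical
  haveI : Fact (Nat.Prime 2) := ⟨Nat.prime_two⟩
  have conjmem : ∀ (S : Set G), (∀ g ∈ M, ∀ s ∈ S, g * s * g⁻¹ ∈ Subgroup.closure S) →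
      ∀ g ∈ M, ∀ s ∈ Subgroup.closure S, g * s * g⁻¹ ∈ Subgroup.closure S := by
    intro S hS g hg s hs
    have hle : Subgroup.closure S ≤ (Subgroup.closure S).comap (MulAut.conj g).toMonoidHom :=
      (Subgroup.closure_le _).2 fun s hs => by
        show MulAut.conj g s ∈ Subgroup.closure S
        rw [MulAut.conj_apply]
        exact hS g hg s hs
    simpa using hle hs
  obtain ⟨S₁, hS₁⟩ : ∃ S₁ : Set G, S₁ = (R' : Set G) ∪ {d | ∃ r ∈ R, d = r * r} := ⟨_, rfl⟩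
  obtain ⟨R₁, hR₁⟩ : ∃ R₁, R₁ = Subgroup.closure S₁ := ⟨_, rfl⟩
  have hR₁R : R₁ ≤ R := hR₁ ▸ (Subgroup.closure_le _).2 (by
    rw [hS₁]; rintro _ (hd | ⟨r, hr, rfl⟩)
    exacts [hR' hd, mul_mem hr hr])
  have hR₁M : ∀ g ∈ M, ∀ d ∈ R₁, g * d * g⁻¹ ∈ R₁ := hR₁ ▸ conjmem _ (by
    rw [hS₁]
    rintro g hg _ (hd | ⟨r, hr, rfl⟩)
    · exact Subgroup.subset_closure (Or.inl (hMR' g hg _ hd))
    · exact Subgroup.subset_closure (Or.inr ⟨_, hMR g hg r hr, by group⟩))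
  have hR₁ne : R₁ ≠ R := by
    intro e1
    rcases eq_top_or_exists_le_coatom (R'.subgroupOf R) with e2 | ⟨C, hC, hle⟩
    · exact hne (le_antisymm hR' (Subgroup.subgroupOf_eq_top.1 e2))
    haveI := coatom_normal (hD.to_le hRD) hC
    have hidx : C.index = 2 := coatom_index (hD.to_le hRD) hC
    have hmap : R₁ ≤ C.map R.subtype := hR₁ ▸ (Subgroup.closure_le _).2 (by
      rw [hS₁]; rintro _ (hd | ⟨r, hr, rfl⟩)
      · exact ⟨⟨_, hR' hd⟩, hle hd, rfl⟩
      · exact ⟨⟨r, hr⟩ * ⟨r, hr⟩, Subgroup.mul_self_mem_of_index_two hidx _, rfl⟩)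
    refine hC.1 ((Subgroup.eq_top_iff' C).2 fun r => ?_)
    obtain ⟨r', hr', e3⟩ := hmap (show (r : G) ∈ R₁ by rw [e1]; exact r.2)
    rwa [show r = r' from Subtype.ext e3.symm]
  obtain ⟨S₂, hS₂⟩ : ∃ S₂ : Set G, S₂ = (R₁ : Set G) ∪ {c | ∃ r ∈ R, ∃ d ∈ D, c = ⁅r, d⁆} := ⟨_, rfl⟩
  have hcommR : ∀ r ∈ R, ∀ d ∈ D, ⁅r, d⁆ ∈ R := fun r hr d hd => by
    rw [show ⁅r, d⁆ = r * (d * r⁻¹ * d⁻¹) by rw [commutatorElement_def]; group]
    exact mul_mem hr (hMR d (hDM hd) _ (inv_mem hr))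
  refine ⟨Subgroup.closure S₂, fun d hd => Subgroup.subset_closure (hS₂ ▸ Or.inl (hR₁ ▸
      Subgroup.subset_closure (hS₁ ▸ Or.inl hd))), (Subgroup.closure_le _).2 (by
        rw [hS₂]; rintro _ (hd | ⟨r, hr, d, hd, rfl⟩)
        exacts [hR₁R hd, hcommR r hr d hd]), fun e1 => ?_, conjmem _ (by
        rw [hS₂]
        rintro g hg _ (hd | ⟨r, hr, d, hd, rfl⟩)
        · exact Subgroup.subset_closure (Or.inl (hR₁M g hg _ hd))
        · exact Subgroup.subset_closure (Or.inr ⟨_, hMR g hg r hr, _, hMD g hg d hd,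
            by simp only [commutatorElement_def]; group⟩)),
    fun r hr d hd => Subgroup.subset_closure (hS₂ ▸ Or.inr ⟨r, hr, d, hd, rfl⟩),
    fun r hr => Subgroup.subset_closure (hS₂ ▸ Or.inl (hR₁ ▸ Subgroup.subset_closure (hS₁ ▸ Or.inr ⟨r, hr, rfl⟩)))⟩
  haveI hNn : (R₁.subgroupOf D).Normal := ⟨fun n hn g => hR₁M g (hDM g.2) n hn⟩
  obtain ⟨π, hπ⟩ : ∃ π, π = QuotientGroup.mk' (R₁.subgroupOf D) := ⟨_, rfl⟩
  haveI : Group.IsNilpotent (D ⧸ R₁.subgroupOf D) := (hD.to_quotient _).isNilpotent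
  obtain ⟨A, hA⟩ : ∃ A, A = (R.subgroupOf D).map π := ⟨_, rfl⟩
  have hAle : A ≤ ⁅A, (⊤ : Subgroup (D ⧸ R₁.subgroupOf D))⁆ := by
    have key : ∀ r ∈ Subgroup.closure S₂, ∃ hr : r ∈ D, π ⟨r, hr⟩ ∈ ⁅A, (⊤ : Subgroup (D ⧸ R₁.subgroupOf D))⁆ := by
      intro r hr
      induction hr using Subgroup.closure_induction with
      | mem r hr =>
        rw [hS₂] at hr
        rcases hr with hd | ⟨r', hr', d, hd, rfl⟩
        · refine ⟨hRD (hR₁R hd), ?_⟩
          rw [hπ, QuotientGroup.mk'_apply, (QuotientGroup.eq_one_iff _).2 (show (⟨r, _⟩ : D) ∈ R₁.subgroupOf D from hd)]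
          exact one_mem _
        · refine ⟨hRD (hcommR r' hr' d hd), ?_⟩
          rw [show (⟨⁅r', d⁆, _⟩ : D) = ⁅(⟨r', hRD hr'⟩ : D), (⟨d, hd⟩ : D)⁆ from rfl, map_commutatorElement]
          exact Subgroup.commutator_mem_commutator (hA ▸ ⟨_, hr', rfl⟩) (Subgroup.mem_top _)
      | one => exact ⟨one_mem D, by rw [show (⟨1, _⟩ : D) = 1 from rfl, map_one]; exact one_mem _⟩
      | mul a b _ _ iha ihb =>
        obtain ⟨ha, ha'⟩ := iha
        obtain ⟨hb, hb'⟩ := ihb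
        exact ⟨mul_mem ha hb, by
          rw [show (⟨a * b, _⟩ : D) = ⟨a, ha⟩ * ⟨b, hb⟩ from rfl, map_mul]; exact mul_mem ha' hb'⟩
      | inv a _ iha =>
        obtain ⟨ha, ha'⟩ := iha
        exact ⟨inv_mem ha, by
          rw [show (⟨a⁻¹, _⟩ : D) = (⟨a, ha⟩ : D)⁻¹ from rfl, map_inv]; exact inv_mem ha'⟩
    rw [hA]
    rintro _ ⟨⟨r, hrD⟩, hr, rfl⟩
    obtain ⟨hr', h'⟩ := key r (e1.symm ▸ hr)
    exact hA ▸ h'
  have hAlow : ∀ i, A ≤ (⊤ : Subgroup (D ⧸ R₁.subgroupOf D)).lowerCentralSeries i := by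
    intro i
    induction i with
    | zero => exact le_top
    | succ i ih => exact hAle.trans (Subgroup.commutator_mono ih le_rfl)
  obtain ⟨i, hi⟩ := Subgroup.nilpotent_iff_lowerCentralSeries.1 (inferInstance : Group.IsNilpotent (D ⧸ R₁.subgroupOf D))
  refine hR₁ne (le_antisymm hR₁R fun r hr => ?_)
  have h1 : π ⟨r, hRD hr⟩ ∈ A := hA ▸ ⟨_, hr, rfl⟩
  have h2 := (hi ▸ hAlow i) h1
  rw [Subgroup.mem_bot, hπ] at h2
  exact (QuotientGroup.eq_one_iff (N := R₁.subgroupOf D) (⟨r, hRD hr⟩ : D)).1 h2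

/-- The bound for trivial 2-core and a faithful representation without regular blocks. -/
theorem exponent_bound : ∀ (e : ℕ) (H : Type u) [Group H] [Finite H], Cfsg.IsPSolvable 2 H →
    Cfsg.pCore 2 H = ⊥ → ∀ (d : ℕ) (ρ : H →* Module.End K2 (Fin d → K2)), (∀ g, ρ g = 1 → g = 1) →
      NoBlock ρ (e + 1) → PLen.HasPSeries 2 e H := by
  intro e
  haveI : Fact (Nat.Prime 2) := ⟨Nat.prime_two⟩
  induction e with
  | zero =>
    intro H _ _ hH hcore d ρ hρ hnb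
    refine PLen.hasPSeries_of_coprime 0 ?_
    rw [Nat.coprime_comm, Nat.prime_two.coprime_iff_not_dvd]
    intro hdvd
    obtain ⟨g, hg⟩ := exists_prime_orderOf_dvd_card' 2 hdvd
    have h1 := (hnb g ⟨1, by rw [pow_one, ← hg, pow_orderOf_eq_one]⟩).2
    rw [show 2 ^ (0 + 1) - 1 = 1 from rfl, pow_one, sub_eq_zero] at h1
    rw [hρ g h1, orderOf_one] at hg
    omega
  | succ e ih =>
    intro H _ _ hH hcore d ρ hρ hnb
    classical
    obtain ⟨N, hN⟩ : ∃ N, N = 2 ^ (e + 1) := ⟨_, rfl⟩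
    haveI := Cfsg.pPrimeCore_normal 2 H
    obtain ⟨K, hK⟩ : ∃ K, K = Cfsg.pPrimeCore 2 H := ⟨_, rfl⟩
    haveI : K.Normal := hK ▸ inferInstance
    have hKodd : Odd (Nat.card K) := Nat.coprime_two_right.1 (hK ▸ pPrimeCore_coprime 2)
    have hCK : Subgroup.centralizer (K : Set H) ≤ K := hK ▸ centralizer_pPrimeCore_le hH hcore
    have hK2 : ∀ g ∈ K, ∀ j, g ^ 2 ^ j = 1 → g = 1 := fun g hg j hj =>
      congrArg Subtype.val (D2.eq_one_of_two_pow hKodd (x := (⟨g, hg⟩ : K)) (e := j) (Subtype.ext hj))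
    have hH1 : Cfsg.IsPSolvable 2 (H ⧸ K) :=
      isPSolvable_map Fact.out hH _ (QuotientGroup.mk'_surjective _)
    have hbot : Cfsg.pPrimeCore 2 (H ⧸ K) = ⊥ := by subst hK; exact Fusion.pPrimeCore_quotient_eq_bot
    haveI := Cfsg.pCore_normal 2 (H ⧸ K)
    obtain ⟨O, hO⟩ : ∃ O, O = Cfsg.pCore 2 (H ⧸ K) := ⟨_, rfl⟩
    haveI hOn : O.Normal := hO ▸ inferInstance
    have hOp : IsPGroup 2 O := hO ▸ pCore_isPGroup 2
    obtain ⟨π, hπ⟩ : ∃ π, π = QuotientGroup.mk' K := ⟨_, rfl⟩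
    have hπs : Function.Surjective π := hπ ▸ QuotientGroup.mk'_surjective K
    have hπ1 : ∀ g, π g = 1 ↔ g ∈ K := fun g => by rw [hπ]; exact QuotientGroup.eq_one_iff g
    obtain ⟨D, hD⟩ : ∃ D, D = O.comap π := ⟨_, rfl⟩
    haveI : D.Normal := hD ▸ hOn.comap π
    obtain ⟨T₀⟩ : Nonempty (Sylow 2 D) := inferInstance
    obtain ⟨D₀, hD₀⟩ : ∃ D₀, D₀ = (T₀ : Subgroup D).map D.subtype := ⟨_, rfl⟩
    have hD₀D : D₀ ≤ D := hD₀ ▸ Subgroup.map_subtype_le _
    have hD₀p : IsPGroup 2 D₀ := hD₀ ▸ T₀.isPGroup'.map _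
    have hmax : ∀ U : Subgroup H, IsPGroup 2 U → D₀ ≤ U → U ≤ D → U ≤ D₀ := by
      intro U hU h1 h2 u hu
      have h3 : (T₀ : Subgroup D) ≤ U.subgroupOf D := fun t ht => h1 (hD₀ ▸ ⟨t, ht, rfl⟩)
      have h4 := T₀.is_maximal' (hU.comap_of_injective D.subtype D.subtype_injective) h3
      rw [hD₀]
      exact ⟨⟨u, h2 hu⟩, h4 ▸ (show (⟨u, h2 hu⟩ : D) ∈ U.subgroupOf D from hu), rfl⟩
    have hπD : D₀.map π = O := by
      obtain ⟨f, hf⟩ : ∃ f : D →* O, ∀ x, (f x : H ⧸ K) = π x :=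
        ⟨(π.comp D.subtype).codRestrict O fun x => by
          have := x.2
          simp only [hD] at this
          exact this, fun _ => rfl⟩
      have hfs : Function.Surjective f := fun y => by
        obtain ⟨x, hx⟩ := hπs y
        exact ⟨⟨x, hD ▸ (show π x ∈ O from hx ▸ y.2)⟩, Subtype.ext ((hf _).trans hx)⟩
      have htop : ((T₀.mapSurjective hfs : Sylow 2 O) : Subgroup O) = ⊤ := by
        refine ((T₀.mapSurjective hfs).is_maximal' (Q := ⊤) (hOp.of_equiv Subgroup.topEquiv.symm) le_top).symm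
      rw [Sylow.coe_mapSurjective] at htop
      refine le_antisymm ?_ fun y hy => ?_
      · rintro _ ⟨x, hx, rfl⟩
        have := hD₀D hx
        rw [hD] at this
        exact this
      · obtain ⟨t, ht, hte⟩ := htop.ge (Subgroup.mem_top (⟨y, hy⟩ : O))
        exact ⟨t, hD₀ ▸ ⟨t, ht, rfl⟩, by rw [← hf, hte]⟩
    obtain ⟨N₀, hN₀⟩ : ∃ N₀, N₀ = Subgroup.normalizer (D₀ : Set H) := ⟨_, rfl⟩
    have hN₀c : ∀ g ∈ N₀, ∀ d ∈ D₀, g * d * g⁻¹ ∈ D₀ := fun g hg d hd =>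
      (Subgroup.mem_normalizer_iff.1 (hN₀ ▸ hg) d).1 hd
    have hDN₀ : D₀ ≤ N₀ := hN₀ ▸ Subgroup.le_normalizer
    have hKD₀ : ∀ g ∈ K, g ∈ N₀ → ∀ d ∈ D₀, Commute g d := by
      intro g hg hgN d hd
      refine commutatorElement_eq_one_iff_commute.1 ?_
      have h1 : ⁅g, d⁆ ∈ D₀ := by rw [commutatorElement_def]; exact mul_mem (hN₀c g hgN d hd) (inv_mem hd)
      have h2 : ⁅g, d⁆ ∈ K := by
        rw [commutatorElement_def, mul_assoc, mul_assoc]
        refine mul_mem hg ?_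
        rw [← mul_assoc]
        exact (inferInstance : K.Normal).conj_mem _ (inv_mem hg) d
      obtain ⟨j, hj⟩ := hD₀p ⟨_, h1⟩
      exact hK2 _ h2 j (congrArg Subtype.val hj)
    -- one representation for each invariant subgroup
    have chain : ∀ (c : ℕ) (R : Subgroup H), Nat.card R = c → R ≤ D₀ →
        (∀ g ∈ N₀, ∀ r ∈ R, g * r * g⁻¹ ∈ R) →
        ∃ (m : ℕ) (σ : H ⧸ K →* Module.End K2 (Fin m → K2)), (∀ y ∈ O, σ y = 1) ∧
          (∀ z : H ⧸ K, (∃ j, z ^ 2 ^ j = 1) → σ (z ^ N) = 1) ∧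
          ((∀ z : H ⧸ K, (∃ j, z ^ 2 ^ j = 1) → z ^ N ∈ O) →
            ∀ z : H ⧸ K, (∃ j, z ^ 2 ^ j = 1) → (σ z - 1) ^ (N - 1) = 0) ∧
          ∀ g ∈ N₀, Odd (orderOf g) → σ (π g) = 1 → ∀ r ∈ R, Commute g r := by
      intro c
      induction c using Nat.strong_induction_on with
      | _ c ihc =>
      intro R hc hRD hRn
      by_cases hRK : R ≤ Subgroup.centralizer (K : Set H)
      · refine ⟨0, 1, fun _ _ => rfl, fun _ _ => rfl, fun _ z _ => Subsingleton.elim _ _, fun g _ _ _ r hr => ?_⟩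
        obtain ⟨j, hj⟩ := hD₀p ⟨r, hRD hr⟩
        rw [hK2 r (hCK (hRK hr)) j (congrArg Subtype.val hj)]
        exact Commute.one_right g
      obtain ⟨S, hDS⟩ := hD₀p.exists_le_sylow
      -- a prime at which `R` acts nontrivially
      obtain ⟨q, hq, Q, hSQ, hNQ, r₀, hr₀, x₀, hx₀, hne₀⟩ : ∃ (q : ℕ) (_ : Fact q.Prime) (Q : Sylow q K),
          (S : Subgroup H) ≤ Subgroup.normalizer ((Q : Subgroup K).map K.subtype : Set H) ∧
          Subgroup.normalizer ((Q : Subgroup K).map K.subtype : Set H) ⊔ K = ⊤ ∧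
          ∃ r ∈ R, ∃ x ∈ (Q : Subgroup K), ¬ Commute r (x : H) := by
        by_contra hcon
        push Not at hcon
        refine hRK fun r hr => Subgroup.mem_centralizer_iff.2 fun x hx => ?_
        have htop := eq_top_of_forall_sylow_le ((Subgroup.centralizer ({r} : Set H)).subgroupOf K)
          fun q hqf => by
            obtain ⟨Q, h1, h2⟩ := D2.exists_normalized_sylow S K hKodd q
            exact ⟨Q, fun y hy => Subgroup.mem_subgroupOf.2
              (Subgroup.mem_centralizer_singleton_iff.2 ((hcon q hqf Q h1 h2 r hr y hy).eq.symm))⟩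
        have := Subgroup.mem_centralizer_singleton_iff.1
          (Subgroup.mem_subgroupOf.1 (htop ▸ Subgroup.mem_top (⟨x, hx⟩ : K)))
        exact this
      haveI := hq
      obtain ⟨QG, hQG⟩ : ∃ QG, QG = (Q : Subgroup K).map K.subtype := ⟨_, rfl⟩
      rw [← hQG] at hSQ hNQ
      have hQGK : QG ≤ K := hQG ▸ Subgroup.map_subtype_le _
      have hQp : IsPGroup q QG := hQG ▸ Q.isPGroup'.map _
      have hq2 : q ≠ 2 := by
        intro e2
        subst e2
        obtain ⟨j, hj⟩ := hQp ⟨x₀, hQG ▸ ⟨x₀, hx₀, rfl⟩⟩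
        exact hne₀ (by rw [hK2 (x₀ : H) x₀.2 j (congrArg Subtype.val hj :)]; exact Commute.one_right _)
      obtain ⟨C, hCc, -, hCcomm, hCcent⟩ := Fusion.exists_critical hQp
      haveI := hCc
      obtain ⟨P, hP⟩ : ∃ P, P = C.map QG.subtype := ⟨_, rfl⟩
      have hPQ : P ≤ QG := hP ▸ Subgroup.map_subtype_le _
      have hcharN : ∀ g ∈ Subgroup.normalizer (QG : Set H), ∀ r ∈ P, g * r * g⁻¹ ∈ P := by
        intro g hg r hr
        rw [hP] at hr ⊢
        obtain ⟨y, hy, rfl⟩ := hr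
        refine ⟨QG.normalizerMonoidHom ⟨g, hg⟩ y, ?_, rfl⟩
        rw [← Subgroup.characteristic_iff_map_eq.1 hCc (QG.normalizerMonoidHom ⟨g, hg⟩)]
        exact ⟨y, hy, rfl⟩
      have hNP : Subgroup.normalizer (QG : Set H) ≤ Subgroup.normalizer (P : Set H) := fun g hg =>
        Subgroup.mem_normalizer_iff.2 fun r => ⟨hcharN g hg r, fun hr => by
          simpa [mul_assoc] using hcharN g⁻¹ (inv_mem hg) _ hr⟩
      have hcl : ⁅P, P⁆ ≤ Subgroup.centralizer (P : Set H) := by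
        refine Subgroup.commutator_le.2 fun r hr s hs => Subgroup.mem_centralizer_iff.2 fun t ht => ?_
        rw [hP] at hr hs ht
        obtain ⟨r, hr', rfl⟩ := hr
        obtain ⟨s, -, rfl⟩ := hs
        obtain ⟨t, ht', rfl⟩ := ht
        exact congrArg Subtype.val ((Subgroup.mem_centralizer_iff.1
          (hCcomm (Subgroup.commutator_mem_commutator hr' (Subgroup.mem_top s))).2) t ht')
      obtain ⟨M, hM⟩ : ∃ M, M = Subgroup.normalizer (QG : Set H) ⊓ N₀ := ⟨_, rfl⟩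
      have hMP : M ≤ Subgroup.normalizer (P : Set H) := hM ▸ inf_le_left.trans hNP
      have hMN₀ : M ≤ N₀ := hM ▸ inf_le_right
      have hDM : D₀ ≤ M := hM ▸ le_inf (hDS.trans hSQ) hDN₀
      have hMK : ∀ g : H, ∃ m ∈ M, π m = π g := by
        intro g
        obtain ⟨n, hn, k', hk', rfl⟩ := Subgroup.mem_sup_of_normal_right.1
          (hNQ ▸ Subgroup.mem_top g : g ∈ Subgroup.normalizer (QG : Set H) ⊔ K)
        rw [map_mul, (hπ1 k').2 hk', mul_one]
        obtain ⟨NQ, hNQd⟩ : ∃ NQ, NQ = Subgroup.normalizer (QG : Set H) := ⟨_, rfl⟩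
        rw [← hNQd] at hn hSQ hM
        haveI : (D.subgroupOf NQ).Normal := inferInstance
        obtain ⟨T, hT⟩ := (hD₀p.comap_of_injective ((NQ.subtype).comp (D.subgroupOf NQ).subtype)
          (NQ.subtype_injective.comp (D.subgroupOf NQ).subtype_injective)).exists_le_sylow
        obtain ⟨T', hT'⟩ : ∃ T', T' = (T : Subgroup (D.subgroupOf NQ)).map (D.subgroupOf NQ).subtype := ⟨_, rfl⟩
        have hTeq : ∀ y : NQ, y ∈ T' ↔ (y : H) ∈ D₀ := by
          have hle : (T'.map NQ.subtype) ≤ D₀ := hmax _ ((hT' ▸ T.isPGroup'.map _ : IsPGroup 2 T').map _) (fun d hd => by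
            refine ⟨⟨d, hSQ (hDS hd)⟩, hT' ▸ ⟨⟨⟨d, hSQ (hDS hd)⟩, hD₀D hd⟩, hT hd, rfl⟩, rfl⟩) (by
            rintro _ ⟨y, hy, rfl⟩
            rw [hT'] at hy
            obtain ⟨y, -, rfl⟩ := hy
            exact y.2)
          refine fun y => ⟨fun hy => hle ⟨y, hy, rfl⟩, fun hy => ?_⟩
          rw [hT']
          exact ⟨⟨y, hD₀D hy⟩, hT hy, rfl⟩
        have hfr : Subgroup.normalizer (T' : Set NQ) ⊔ D.subgroupOf NQ = ⊤ := hT' ▸ Sylow.normalizer_sup_eq_top T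
        obtain ⟨m, hm, d, hd, hmd⟩ := Subgroup.mem_sup_of_normal_right.1
          (hfr ▸ Subgroup.mem_top (⟨n, hn⟩ : NQ) : (⟨n, hn⟩ : NQ) ∈ Subgroup.normalizer (T' : Set NQ) ⊔ D.subgroupOf NQ)
        have hmN₀ : (m : H) ∈ N₀ := by
          rw [hN₀]
          have key : ∀ m : NQ, m ∈ Subgroup.normalizer (T' : Set NQ) → ∀ x ∈ D₀, (m : H) * x * (m : H)⁻¹ ∈ D₀ :=
            fun m hm x hx => (hTeq (m * ⟨x, hSQ (hDS hx)⟩ * m⁻¹)).1
              ((Subgroup.mem_normalizer_iff.1 hm ⟨x, hSQ (hDS hx)⟩).1 ((hTeq _).2 hx))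
          refine Subgroup.mem_normalizer_iff.2 fun x => ⟨key m hm x, fun hx => ?_⟩
          simpa [mul_assoc] using key m⁻¹ (inv_mem hm) _ hx
        have hdD : π (d : H) ∈ O := by
          have hd' : (d : H) ∈ D := hd
          rw [hD] at hd'
          exact hd'
        rw [← hπD] at hdD
        obtain ⟨d₀, hd₀, hde⟩ := hdD
        refine ⟨m * d₀, hM ▸ mul_mem ⟨m.2, hmN₀⟩ ⟨hSQ (hDS hd₀), hDN₀ hd₀⟩, ?_⟩
        rw [map_mul, hde, ← map_mul]
        exact congrArg π (congrArg Subtype.val hmd)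
      have hMconj : ∀ (T : Subgroup H), T ≤ D₀ → (∀ g ∈ M, ∀ r ∈ T, g * r * g⁻¹ ∈ T) →
          ∀ g ∈ N₀, ∀ r ∈ T, g * r * g⁻¹ ∈ T := by
        intro T hT hTn g hg r hr
        obtain ⟨m, hm, hme⟩ := hMK g
        have hk : m⁻¹ * g ∈ K := (hπ1 _).1 (by rw [map_mul, map_inv, hme, inv_mul_cancel])
        have hc' := hKD₀ _ hk (mul_mem (inv_mem (hMN₀ hm)) hg) r (hT hr)
        have e1 : g * r * g⁻¹ = m * r * m⁻¹ := by
          rw [show g = m * (m⁻¹ * g) by group]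
          calc m * (m⁻¹ * g) * r * (m * (m⁻¹ * g))⁻¹ = m * ((m⁻¹ * g) * r * (m⁻¹ * g)⁻¹) * m⁻¹ := by group
            _ = m * r * m⁻¹ := by rw [hc'.eq, mul_inv_cancel_right]
        rw [e1]
        exact hTn m hm r hr
      -- the step
      obtain ⟨G', hG'⟩ : ∃ G', G' = Subgroup.normalizer (P : Set H) := ⟨_, rfl⟩
      have hPG' : P ≤ G' := hG' ▸ Subgroup.le_normalizer
      rw [← hG'] at hMP
      have hset : Setup (ρ.comp G'.subtype) (P.subgroupOf G') q (e + 1 + 1) :=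
        { faith := fun g hg => Subtype.ext (hρ _ hg)
          pgroup := (hQp.to_le hPQ).comap_of_injective G'.subtype G'.subtype_injective
          prime := hq.out
          two_ne := hq2
          normal := by subst hG'; exact Subgroup.normal_in_normalizer
          cl := Subgroup.commutator_le.2 fun a ha b hb => Subgroup.mem_centralizer_iff.2 fun t ht =>
            Subtype.ext (Subgroup.mem_centralizer_iff.1 (hcl (Subgroup.commutator_mem_commutator ha hb)) t ht)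
          one_le := by omega
          noBlock := fun g ⟨j, hj⟩ => by
            have := hnb (g : H) ⟨j, by rw [← SubmonoidClass.coe_pow, hj]; rfl⟩
            exact ⟨Subtype.ext (by rw [SubmonoidClass.coe_pow, this.1]; rfl), this.2⟩ }
      have hnot : ∃ r ∈ R.subgroupOf G', ∃ p ∈ P.subgroupOf G', ¬ Commute r p := by
        by_contra hcon
        push Not at hcon
        obtain ⟨j, hj⟩ := hD₀p ⟨r₀, hRD hr₀⟩
        have hrQ : r₀ ∈ Subgroup.normalizer (QG : Set H) := hSQ (hDS (hRD hr₀))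
        obtain ⟨a, ha⟩ : ∃ a, a = QG.normalizerMonoidHom ⟨r₀, hrQ⟩ := ⟨_, rfl⟩
        have hao : (orderOf a).Coprime q := by
          refine Nat.Coprime.coprime_dvd_left ?_
            (((Nat.coprime_primes Nat.prime_two hq.out).2 (Ne.symm hq2)).pow_left j)
          refine orderOf_dvd_of_pow_eq_one ?_
          rw [ha, ← map_pow, show (⟨r₀, hrQ⟩ : Subgroup.normalizer (QG : Set H)) ^ 2 ^ j = 1 from
            Subtype.ext (congrArg Subtype.val hj :), map_one]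
        have hrG : r₀ ∈ G' := hMP (hDM (hRD hr₀))
        have ha1 := Fusion.aut_eq_one_of_fix hQp hCcent a hao fun y hy => Subtype.ext (by
          rw [ha]
          show r₀ * (y : H) * r₀⁻¹ = y
          have hyP : (y : H) ∈ P := hP ▸ ⟨y, hy, rfl⟩
          exact mul_inv_eq_iff_eq_mul.2 (congrArg Subtype.val (hcon ⟨r₀, hrG⟩ hr₀ ⟨y, hPG' hyP⟩ hyP).eq :))
        have h2 := congrArg (fun f : MulAut QG => ((f ⟨x₀, hQG ▸ ⟨x₀, hx₀, rfl⟩⟩ : QG) : H)) ha1
        rw [ha] at h2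
        exact hne₀ (mul_inv_eq_iff_eq_mul.1 h2)
      have hsub : ∀ T : Subgroup H, (∀ g ∈ M, ∀ r ∈ T, g * r * g⁻¹ ∈ T) →
          M.subgroupOf G' ≤ Subgroup.normalizer ((T.subgroupOf G' : Subgroup G') : Set G') :=
        fun T hT m hm => Subgroup.mem_normalizer_iff.2 fun r => ⟨fun hr => hT m hm r hr, fun hr => by
          have := hT (m : H)⁻¹ (inv_mem (show (m : H) ∈ M from hm)) _ hr
          show (r : H) ∈ T
          simpa [mul_assoc] using this⟩
      have hRM : ∀ g ∈ M, ∀ r ∈ R, g * r * g⁻¹ ∈ R := fun g hg => hRn g (hMN₀ hg)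
      have hMD₀ : ∀ g ∈ M, ∀ r ∈ D₀, g * r * g⁻¹ ∈ D₀ := fun g hg => hN₀c g (hMN₀ hg)
      obtain ⟨R'', hR''le, hR''ne, hR''n, hstep1, hstep2⟩ := hset.exists_step (M := M.subgroupOf G')
        (D := D₀.subgroupOf G') (R := R.subgroupOf G') (hD₀p.comap_of_injective G'.subtype G'.subtype_injective)
        (Subgroup.comap_mono hRD) (Subgroup.comap_mono hDM) (hsub D₀ hMD₀) (hsub R hRM) hnot
      rw [show 2 ^ (e + 1 + 1 - 1) = N by rw [hN]; rfl] at hstep1 hstep2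
      obtain ⟨R', hR'⟩ : ∃ R', R' = R''.map G'.subtype := ⟨_, rfl⟩
      have hR'R : R' ≤ R := by
        rw [hR']
        rintro _ ⟨r, hr, rfl⟩
        exact hR''le hr
      have hR'ne : R' ≠ R := fun e' => hR''ne (le_antisymm hR''le fun r hr => by
        obtain ⟨r', hr', e''⟩ := (hR'.symm.trans e').ge (show (r : H) ∈ R from hr)
        rwa [show r = r' from Subtype.ext e''.symm])
      have hR'M : ∀ g ∈ M, ∀ r ∈ R', g * r * g⁻¹ ∈ R' := by
        intro g hg r hr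
        rw [hR'] at hr ⊢
        obtain ⟨r, hr, rfl⟩ := hr
        exact ⟨_, hR''n ⟨g, hMP hg⟩ hg r hr, rfl⟩
      have hRDp : IsPGroup 2 D₀ := hD₀p
      obtain ⟨T, hR'T, hTR, hTne, hTM, hTcomm, hTsq⟩ :=
        exists_proper hRDp hRD hR'R hR'ne hDM hMD₀ hRM hR'M
      haveI : (T.subgroupOf M).Normal := ⟨fun n hn g => hTM g g.2 n hn⟩
      haveI : (R.subgroupOf M).Normal := ⟨fun n hn g => hRM g g.2 n hn⟩
      obtain ⟨m₁, ρ₁, hker, hnorm⟩ := exists_norm_rep K2 (T.subgroupOf M) (R.subgroupOf M)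
        (fun a ha b hb => hTcomm a ha b (hRD hb)) (fun a ha => hTsq a ha)
      have hcent : ∀ g : M, (g : H) ∈ K → ρ₁ g = 1 := fun g hg => (hker g).2 fun d hd => by
        have h1 : ⁅(g : H), (d : H)⁆ = 1 :=
          commutatorElement_eq_one_iff_commute.2 (hKD₀ _ hg (hMN₀ g.2) _ (hRD hd))
        show ⁅(g : H), (d : H)⁆ ∈ T
        rw [h1]
        exact one_mem T
      have hπM : Function.Surjective (π.comp M.subtype) := fun y => by
        obtain ⟨g, rfl⟩ := hπs y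
        obtain ⟨m, hm, hme⟩ := hMK g
        exact ⟨⟨m, hm⟩, hme⟩
      obtain ⟨σ₁, hσ₁⟩ := exists_factor (π.comp M.subtype) hπM ρ₁ fun g hg => hcent g ((hπ1 _).1 hg)
      have hσ₁' : ∀ g : M, σ₁ (π (g : H)) = ρ₁ g := hσ₁
      obtain ⟨m₂, σ₂, h21, h22, h23, h24⟩ := ihc (Nat.card T)
        (hc ▸ lt_of_le_of_ne (Subgroup.card_le_of_le hTR) fun e' => hTne (Subgroup.eq_of_le_of_card_ge hTR e'.ge))
        T rfl (hTR.trans hRD) (hMconj T (hTR.trans hRD) hTM)
      obtain ⟨m, σ, hσ, hσpow⟩ := exists_sum K2 σ₁ σ₂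
      refine ⟨m, σ, fun y hy => (hσ y).2 ⟨?_, h21 y hy⟩, fun z hz => (hσ _).2 ⟨?_, h22 z hz⟩,
        fun hall z hz => (hσpow z (N - 1)).2 ⟨?_, h23 hall z hz⟩, fun g hg hodd hσg r hr => ?_⟩
      · rw [← hπD] at hy
        obtain ⟨d, hd, rfl⟩ := hy
        rw [hσ₁' ⟨d, hDM hd⟩]
        refine (hker _).2 fun r hr => ?_
        show ⁅d, (r : H)⁆ ∈ T
        rw [← commutatorElement_inv]
        exact inv_mem (hTcomm r hr d hd)
      · obtain ⟨x, rfl, hx⟩ := exists_two_lift (π.comp M.subtype) hπM hz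
        rw [← map_pow, hσ₁]
        refine (hker _).2 fun r hr => hR'T ?_
        rw [hR']
        obtain ⟨j, hj⟩ := hx
        refine ⟨_, hstep1 ⟨x, hMP x.2⟩ x.2 ⟨j, Subtype.ext (congrArg Subtype.val hj :)⟩
          ⟨r, hMP r.2⟩ hr, ?_⟩
        simp [commutatorElement_def]
      · obtain ⟨x, rfl, hx⟩ := exists_two_lift (π.comp M.subtype) hπM hz
        rw [hσ₁, show N - 1 = 2 ^ (e + 1) - 1 by rw [hN], ← geom_two (k := K2)]
        refine hnorm x _ fun r hr => hR'T ?_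
        rw [hR']
        obtain ⟨j, hj⟩ := hx
        have hallG : ∀ y ∈ M.subgroupOf G', (∃ j, y ^ 2 ^ j = 1) → y ^ N ∈ D₀.subgroupOf G' := by
          intro y hy ⟨i, hi⟩
          have hy2 : ((y : H)) ^ 2 ^ i = 1 := congrArg Subtype.val hi
          have hyO : π ((y : H) ^ N) ∈ O := by
            rw [map_pow]; exact hall _ ⟨i, by rw [← map_pow, hy2, map_one]⟩
          have hyD : (y : H) ^ N ∈ D := hD ▸ hyO
          have hU : IsPGroup 2 ↥(D₀ ⊔ Subgroup.zpowers ((y : H) ^ N)) :=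
            isPGroup_sup_zpowers hD₀p (hN₀ ▸ pow_mem (hMN₀ hy) N)
              ⟨i, by rw [← pow_mul, mul_comm, pow_mul, hy2, one_pow]⟩
          have := hmax _ hU le_sup_left (sup_le hD₀D (Subgroup.zpowers_le.2 hyD))
            (Subgroup.mem_sup_right (Subgroup.mem_zpowers _))
          exact Subgroup.mem_subgroupOf.2 (by rw [SubmonoidClass.coe_pow]; exact this)
        refine ⟨_, hstep2 hallG ⟨x, hMP x.2⟩ x.2 ⟨j, Subtype.ext (congrArg Subtype.val hj :)⟩
          ⟨r, hMP r.2⟩ hr, ?_⟩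
        simp [hN]
      · obtain ⟨h1, h2⟩ := (hσ _).1 hσg
        obtain ⟨m', hm', hme⟩ := hMK g
        rw [← hme, hσ₁' ⟨m', hm'⟩] at h1
        have hk : m'⁻¹ * g ∈ K := (hπ1 _).1 (by rw [map_mul, map_inv, hme, inv_mul_cancel])
        have hck := hKD₀ _ hk (mul_mem (inv_mem (hMN₀ hm')) hg) r (hRD hr)
        have e1 : g * r * g⁻¹ = m' * r * m'⁻¹ := by
          rw [show g = m' * (m'⁻¹ * g) by group]
          calc m' * (m'⁻¹ * g) * r * (m' * (m'⁻¹ * g))⁻¹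
              = m' * ((m'⁻¹ * g) * r * (m'⁻¹ * g)⁻¹) * m'⁻¹ := by group
            _ = m' * r * m'⁻¹ := by rw [hck.eq, mul_inv_cancel_right]
        obtain ⟨d, hd⟩ : ∃ d, d = ⁅g, r⁆ := ⟨_, rfl⟩
        have hdT : d ∈ T := by
          rw [hd, commutatorElement_def, e1, ← commutatorElement_def]
          exact (hker ⟨m', hm'⟩).1 h1 ⟨r, hDM (hRD hr)⟩ hr
        have hcd : Commute g d := h24 g hg hodd h2 d hdT
        have hi : ∀ i : ℕ, g ^ i * r = d ^ i * r * g ^ i := by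
          intro i
          induction i with
          | zero => simp
          | succ i ih' =>
            have e' : g * r = d * r * g := by rw [hd, commutatorElement_def]; group
            rw [pow_succ', mul_assoc, ih', ← mul_assoc, ← mul_assoc, (hcd.pow_right i).eq, mul_assoc (d ^ i), e',
              pow_succ]
            simp only [mul_assoc]
        have h5 := hi (orderOf g)
        rw [pow_orderOf_eq_one, one_mul, mul_one, right_eq_mul] at h5
        obtain ⟨j, hj⟩ := hD₀p ⟨d, hRD (hTR hdT)⟩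
        have h6 : d = 1 := orderOf_eq_one_iff.1 (Nat.eq_one_of_dvd_coprimes
          ((Nat.coprime_two_left.2 hodd).pow_left j) (orderOf_dvd_of_pow_eq_one (congrArg Subtype.val hj :))
          (orderOf_dvd_of_pow_eq_one h5))
        exact commutatorElement_eq_one_iff_commute.1 (hd ▸ h6)
    obtain ⟨m, σ, hσO, hσz, hσ2, hσk⟩ := chain _ D₀ rfl le_rfl hN₀c
    obtain ⟨S, hDS⟩ := hD₀p.exists_le_sylow
    -- the kernel is the 2-core
    have hN₀s : ∀ y : H ⧸ K, ∃ g ∈ N₀, π g = y := by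
      intro y
      obtain ⟨g, rfl⟩ := hπs y
      have htop : N₀ ⊔ D = ⊤ := by rw [hN₀, hD₀]; exact Sylow.normalizer_sup_eq_top T₀
      obtain ⟨n, hn, d, hd, rfl⟩ := Subgroup.mem_sup_of_normal_right.1 (htop ▸ Subgroup.mem_top g : g ∈ N₀ ⊔ D)
      have hdO : π d ∈ O := by rw [hD] at hd; exact hd
      rw [← hπD] at hdO
      obtain ⟨d₀, hd₀, hde⟩ := hdO
      exact ⟨n * d₀, mul_mem hn (hDN₀ hd₀), by rw [map_mul, map_mul, hde]⟩
    obtain ⟨Φ, hΦn, A, -, -, -, hAmem, hCA, -⟩ := ThmB.exists_frattini_section hH1 hbot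
    have hcentO : ∀ y : H ⧸ K, (∀ u ∈ O, Commute y u) → y ∈ O := by
      intro y hy
      rw [hO]
      refine (hAmem y).1 (hCA (Subgroup.mem_centralizer_iff.2 fun v hv => ?_))
      obtain ⟨u, rfl⟩ := QuotientGroup.mk'_surjective Φ v
      exact ((hy u (hO ▸ (hAmem u).1 hv)).map (QuotientGroup.mk' Φ)).eq.symm
    have hkerO : ∀ y, σ y = 1 → y ∈ O := by
      have h2 : IsPGroup 2 σ.ker := by
        intro y
        obtain ⟨g, hg, hgy⟩ := hN₀s y
        obtain ⟨i, hi⟩ := exists_odd_pow g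
        have hy' : π (g ^ 2 ^ i) ∈ O := by
          refine hcentO _ fun u hu => ?_
          rw [← hπD] at hu
          obtain ⟨d', hd', rfl⟩ := hu
          exact (hσk _ (pow_mem hg _) hi (by rw [map_pow, hgy, map_pow, MonoidHom.mem_ker.1 y.2, one_pow]) d' hd').map π
        obtain ⟨j, hj⟩ := hOp ⟨_, hy'⟩
        refine ⟨i + j, Subtype.ext ?_⟩
        rw [SubmonoidClass.coe_pow, ← hgy, pow_add, pow_mul, ← map_pow]
        exact congrArg Subtype.val hj
      exact fun y hy => hO ▸ (normal_le_pCore h2 : σ.ker ≤ _) (MonoidHom.mem_ker.2 hy)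
    have hzO : ∀ z : H ⧸ K, (∃ j, z ^ 2 ^ j = 1) → z ^ N ∈ O := fun z hz => hkerO _ (hσz z hz)
    obtain ⟨τ, hτ⟩ : ∃ τ : (H ⧸ K) ⧸ O →* Module.End K2 (Fin m → K2), ∀ y, τ (QuotientGroup.mk' O y) = σ y :=
      ⟨QuotientGroup.lift O σ fun y hy => MonoidHom.mem_ker.2 (hσO y hy), fun _ => rfl⟩
    have hser : PLen.HasPSeries 2 e ((H ⧸ K) ⧸ O) := by
      refine ih _ (isPSolvable_map Fact.out hH1 _ (QuotientGroup.mk'_surjective _))
        (by subst hO; exact Fusion.pCore_quotient_eq_bot) m τ (fun y hy => ?_) fun y hy => ?_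
      · obtain ⟨y, rfl⟩ := QuotientGroup.mk'_surjective O y
        rw [hτ] at hy
        exact (QuotientGroup.eq_one_iff y).2 (hkerO y hy)
      · obtain ⟨z, rfl, hz⟩ := PLE.exists_lift (p := 2) O y hy
        refine ⟨?_, ?_⟩
        · rw [← map_pow, ← hN]
          exact (QuotientGroup.eq_one_iff _).2 (hzO z hz)
        · rw [hτ, ← hN]
          exact hσ2 hzO z hz
    subst hK
    exact PLen.HasPSeries.lift_pPrime _ (pPrimeCore_coprime 2) (PLen.HasPSeries.lift_p O hOp hser)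

/-- The 2-length is at most the exponent of the Sylow 2-subgroups. -/
theorem two_length_le_exponent (hG : Cfsg.IsPSolvable 2 G) (e : ℕ) (he : PLE.ExpLE 2 e G) :
    PLen.HasPSeries 2 e G := by
  haveI : Fact (Nat.Prime 2) := ⟨Nat.prime_two⟩
  rcases e with _ | e
  · exact PLen.hasPSeries_of_coprime 0 he.coprime_zero
  haveI := Cfsg.pPrimeCore_normal 2 G
  haveI := Cfsg.pCore_normal 2 (G ⧸ Cfsg.pPrimeCore 2 G)
  have hG1 : Cfsg.IsPSolvable 2 (G ⧸ Cfsg.pPrimeCore 2 G) :=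
    isPSolvable_map Fact.out hG _ (QuotientGroup.mk'_surjective _)
  obtain ⟨k, σ, hσ, hz, -⟩ := PLE.exists_faithful_module hG1 Fusion.pPrimeCore_quotient_eq_bot (he.quotient _)
  obtain ⟨Θ, hΘ⟩ := exists_base K2 k
  refine PLen.HasPSeries.lift_pPrime _ (pPrimeCore_coprime 2)
    (PLen.HasPSeries.lift_p _ (pCore_isPGroup 2) ?_)
  refine exponent_bound e _ (isPSolvable_map Fact.out hG1 _ (QuotientGroup.mk'_surjective _))
    Fusion.pCore_quotient_eq_bot k (Θ.toMonoidHom.comp σ) (fun g hg => hσ (hΘ ?_)) fun z hz' =>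
      ⟨(he.quotient _).quotient _ z hz', ?_⟩
  · show Θ (σ g) = Θ (σ 1)
    rw [map_one σ, map_one Θ]
    exact hg
  · show (Θ (σ z) - 1) ^ (2 ^ (e + 1) - 1) = 0
    rw [← map_one Θ, ← map_sub, ← map_pow, hz z hz', map_zero]

end Cfsg.Agent.Solv.E2
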