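import Cfsg.Agent.Lib.Solv.DerivedTwo.Class
import Cfsg.Agent.Lib.Solv.PGroupPhi

/-!
Automorphisms of an abelian group of odd order preserving a nondegenerate alternating pairing, which have
2-power order, invert a plane and fix its orthogonal complement: two of them inside a common 2-group have
equal or orthogonal planes.
-/

set_option autoImplicit false
set_option linter.style.haveILetI false
set_option linter.unusedSectionVars false

namespace Cfsg.Agent.Solv.E2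

attribute [local instance] Fintype.ofFinite

open Cfsg.Agent.Solv.D2 (fixSub mem_fixSub exists_split eq_one_of_two_pow eq_one_of_pow_two)

universe u v

variable {A : Type u} [CommGroup A] [Finite A] {k : Type v} [Field k] [CharP k 2]

/-- A nondegenerate alternating pairing. -/
structure IsPairing (f : A → A → k) : Prop where
  odd : Odd (Nat.card A)
  mul_left : ∀ a b c, f (a * b) c = f a c * f b c
  mul_right : ∀ a b c, f a (b * c) = f a b * f a c
  alt : ∀ a, f a a = 1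
  nd : ∀ a, (∀ b, f a b = 1) → a = 1

/-- The elements inverted by an automorphism. -/
def mov (σ : MulAut A) : Subgroup A where
  carrier := {a | σ a = a⁻¹}
  one_mem' := by simp
  mul_mem' := fun {a b} (ha : σ a = a⁻¹) (hb : σ b = b⁻¹) =>
    (show σ (a * b) = (a * b)⁻¹ by rw [map_mul, ha, hb, mul_inv])
  inv_mem' := fun {a} (ha : σ a = a⁻¹) => (show σ a⁻¹ = a⁻¹⁻¹ by rw [map_inv, ha])

theorem mem_mov {σ : MulAut A} {a : A} : a ∈ mov σ ↔ σ a = a⁻¹ := Iff.rfl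

/-- The automorphism preserves the pairing. -/
def Pres (f : A → A → k) (σ : MulAut A) : Prop := ∀ a b, f (σ a) (σ b) = f a b

theorem Pres.mul {f : A → A → k} {σ τ : MulAut A} (hσ : Pres f σ) (hτ : Pres f τ) : Pres f (σ * τ) :=
  fun a b => by rw [MulAut.mul_apply, MulAut.mul_apply, hσ, hτ]

theorem Pres.inv {f : A → A → k} {σ : MulAut A} (hσ : Pres f σ) : Pres f σ⁻¹ := fun a b => by
  rw [← hσ]
  simp

theorem Pres.one {f : A → A → k} : Pres f (1 : MulAut A) := fun _ _ => rfl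

theorem Pres.pow {f : A → A → k} {σ : MulAut A} (hσ : Pres f σ) : ∀ i : ℕ, Pres f (σ ^ i)
  | 0 => Pres.one
  | i + 1 => by rw [pow_succ]; exact (Pres.pow hσ i).mul hσ

theorem eq_one_of_sq {c : k} (h : c ^ 2 = 1) : c = 1 := by
  have h1 : (c - 1) ^ 2 = 0 := by
    have h2 : (2 : k) = 0 := CharP.cast_eq_zero k 2
    linear_combination h + (1 - c) * h2
  exact sub_eq_zero.1 (pow_eq_zero_iff two_ne_zero |>.1 h1)

theorem eq_one_of_pow {c : k} : ∀ {j : ℕ}, c ^ 2 ^ j = 1 → c = 1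
  | 0, h => by simpa using h
  | j + 1, h => eq_one_of_pow (j := j) (eq_one_of_sq (by rw [← pow_mul, ← pow_succ]; exact h))

namespace IsPairing

variable {f : A → A → k} (h : IsPairing f)

include h

theorem one_left (b : A) : f 1 b = 1 := by
  have e := h.mul_left 1 1 b
  rw [one_mul] at e
  rcases eq_or_ne (f 1 b) 0 with h0 | h0
  · have e2 := h.mul_left b b⁻¹ b
    have e3 := h.alt b
    rw [mul_inv_cancel, h0, e3, one_mul] at e2
    have e4 := h.mul_left 1 b b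
    rw [one_mul, h0, e3, zero_mul] at e4
    exact absurd e4 one_ne_zero
  · exact (mul_eq_right₀ h0).1 e.symm

theorem swap (a b : A) : f a b * f b a = 1 := by
  have e := h.alt (a * b)
  rw [h.mul_left, h.mul_right, h.mul_right, h.alt, h.alt, one_mul, mul_one] at e
  exact e

theorem ne_zero (a b : A) : f a b ≠ 0 := fun h0 => one_ne_zero (α := k) (by
  rw [← h.swap a b, h0, zero_mul])

theorem one_right (a : A) : f a 1 = 1 := by
  have e := h.swap 1 a
  rw [h.one_left, one_mul] at e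
  exact e

theorem symm_one {a b : A} (e : f a b = 1) : f b a = 1 := by
  have e2 := h.swap a b
  rwa [e, one_mul] at e2

theorem inv_left (a b : A) : f a⁻¹ b = (f a b)⁻¹ := by
  refine eq_inv_of_mul_eq_one_left ?_
  rw [← h.mul_left, inv_mul_cancel, h.one_left]

theorem inv_right (a b : A) : f a b⁻¹ = (f a b)⁻¹ := by
  refine eq_inv_of_mul_eq_one_left ?_
  rw [← h.mul_right, inv_mul_cancel, h.one_right]

theorem pow_left (a b : A) : ∀ i : ℕ, f (a ^ i) b = f a b ^ i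
  | 0 => by rw [pow_zero, pow_zero, h.one_left]
  | i + 1 => by rw [pow_succ, pow_succ, h.mul_left, pow_left a b i]

theorem pow_right (a b : A) : ∀ i : ℕ, f a (b ^ i) = f a b ^ i
  | 0 => by rw [pow_zero, pow_zero, h.one_right]
  | i + 1 => by rw [pow_succ, pow_succ, h.mul_right, pow_right a b i]

/-- Fixed and inverted elements are orthogonal. -/
theorem orth {σ : MulAut A} (hσ : Pres f σ) {a b : A} (ha : σ a = a) (hb : σ b = b⁻¹) : f a b = 1 := by
  refine eq_one_of_sq ?_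
  have e := hσ a b
  rw [ha, hb, h.inv_right] at e
  rw [pow_two]
  nth_rewrite 1 [← e]
  exact inv_mul_cancel₀ (h.ne_zero a b)

/-- An element orthogonal to all inverted elements is fixed. -/
theorem fix_of_orth {σ : MulAut A} (hσ : Pres f σ) (h2 : σ * σ = 1) {a : A}
    (ha : ∀ b ∈ mov σ, f a b = 1) : σ a = a := by
  obtain ⟨c, p, hc, hp, rfl⟩ := exists_split h.odd σ h2 a
  suffices p = 1 by rw [this, mul_one, hc]
  refine h.nd _ fun x => ?_
  obtain ⟨c', p', hc', hp', rfl⟩ := exists_split h.odd σ h2 x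
  have e := ha p' hp'
  rw [h.mul_left, h.orth hσ hc hp', one_mul] at e
  rw [h.mul_right, h.symm_one (h.orth hσ hc' hp), e, one_mul]

/-- The inverted elements are nondegenerate. -/
theorem nd_mov {σ : MulAut A} (hσ : Pres f σ) (h2 : σ * σ = 1) {a : A} (ha : a ∈ mov σ)
    (hab : ∀ b ∈ mov σ, f a b = 1) : a = 1 := by
  refine eq_one_of_pow_two h.odd ?_
  rw [pow_two]
  nth_rewrite 1 [← h.fix_of_orth hσ h2 hab]
  rw [mem_mov.1 ha, inv_mul_cancel]

end IsPairing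

/-- The automorphisms in question. -/
structure IsY (f : A → A → k) (n q : ℕ) (y : MulAut A) : Prop where
  pres : Pres f y
  pow : y ^ 2 ^ n = 1
  two_le : 2 ≤ n
  prime : q.Prime
  hq : q + 1 = 2 ^ n
  card : Nat.card (mov (y ^ 2 ^ (n - 1))) = q ^ 2
  fix : ∀ a, (y ^ 2 ^ (n - 1)) a = a → y a = a

variable {f : A → A → k}

theorem IsY.zsq {n q : ℕ} {y : MulAut A} (hy : IsY f n q y) :
    y ^ 2 ^ (n - 1) * y ^ 2 ^ (n - 1) = 1 := by
  have := hy.two_le
  rw [← pow_add, show 2 ^ (n - 1) + 2 ^ (n - 1) = 2 ^ n by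
    rw [← two_mul, ← pow_succ', Nat.sub_add_cancel (by omega)], hy.pow]

theorem IsY.zpres {n q : ℕ} {y : MulAut A} (hy : IsY f n q y) : Pres f (y ^ 2 ^ (n - 1)) := hy.pres.pow _

theorem IsY.zne {n q : ℕ} {y : MulAut A} (hy : IsY f n q y) (h : IsPairing f) :
    y ^ 2 ^ (n - 1) ≠ 1 := fun e => by
  have hc := hy.card
  rw [e] at hc
  have hbot : mov (1 : MulAut A) = ⊥ := (Subgroup.eq_bot_iff_forall _).2 fun a ha => by
    rw [mem_mov, MulAut.one_apply] at ha
    refine eq_one_of_pow_two h.odd ?_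
    rw [pow_two]
    nth_rewrite 1 [ha]
    exact inv_mul_cancel a
  rw [hbot, Subgroup.card_bot] at hc
  have h2 := hy.prime.two_le
  have h1 : 2 ^ 2 ≤ q ^ 2 := Nat.pow_le_pow_left h2 2
  omega

theorem IsY.apply_mem_mov {n q : ℕ} {y : MulAut A} (hy : IsY f n q y) {a : A}
    (ha : a ∈ mov (y ^ 2 ^ (n - 1))) : y a ∈ mov (y ^ 2 ^ (n - 1)) := by
  rw [mem_mov] at ha ⊢
  rw [← MulAut.mul_apply, (Commute.pow_self y _).eq, MulAut.mul_apply, ha, map_inv]

theorem IsY.fix_orth {n q : ℕ} {y : MulAut A} (hy : IsY f n q y) (h : IsPairing f) {a : A}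
    (ha : ∀ b ∈ mov (y ^ 2 ^ (n - 1)), f a b = 1) : y a = a :=
  hy.fix a (h.fix_of_orth hy.zpres hy.zsq ha)

theorem conj_pow_apply (g σ : MulAut A) (a : A) (i : ℕ) :
    ((g * σ * g⁻¹) ^ i) (g a) = g ((σ ^ i) a) := by
  rw [conj_pow, MulAut.mul_apply, MulAut.mul_apply]
  simp

theorem mem_mov_conj {g σ : MulAut A} {a : A} (i : ℕ) :
    g a ∈ mov ((g * σ * g⁻¹) ^ i) ↔ a ∈ mov (σ ^ i) := by
  rw [mem_mov, mem_mov, conj_pow_apply, ← map_inv, g.injective.eq_iff]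

theorem IsY.conj {n q : ℕ} {y : MulAut A} (hy : IsY f n q y) {g : MulAut A} (hg : Pres f g) :
    IsY f n q (g * y * g⁻¹) where
  pres := (hg.mul hy.pres).mul hg.inv
  pow := by rw [conj_pow, hy.pow, mul_one, mul_inv_cancel]
  two_le := hy.two_le
  prime := hy.prime
  hq := hy.hq
  card := by
    rw [← hy.card]
    refine (Nat.card_congr (g.toEquiv.subtypeEquiv fun a => ?_)).symm
    exact (mem_mov_conj _).symm
  fix a ha := by
    obtain ⟨b, rfl⟩ := g.surjective a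
    rw [conj_pow_apply] at ha
    have := conj_pow_apply g y b 1
    rw [pow_one, pow_one] at this
    rw [this, hy.fix b (g.injective ha)]

section Semiregular

variable (h : IsPairing f) {q : ℕ} (hq : q.Prime) {P : Subgroup A} (hP : Nat.card P = q ^ 2)
  (hnd : ∀ a ∈ P, (∀ b ∈ P, f a b = 1) → a = 1)

include h hq hP hnd

/-- An element of 2-power order on a nondegenerate plane with a fixed point is trivial there. -/
theorem semiregular {t : MulAut A} (ht : Pres f t) (hinv : ∀ a ∈ P, t a ∈ P) {i : ℕ}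
    (hord : ∀ a ∈ P, (t ^ 2 ^ i) a = a) {v : A} (hv : v ∈ P) (hv1 : v ≠ 1) (hfix : t v = v) :
    ∀ a ∈ P, t a = a := by
  classical
  obtain ⟨F, hF⟩ : ∃ F, F = P ⊓ fixSub t := ⟨_, rfl⟩
  have hFP : F ≤ P := hF ▸ inf_le_left
  suffices F = P from fun a ha => mem_fixSub.1 ((hF ▸ this.ge) ha).2
  by_contra hne
  have hcard : Nat.card F = q := by
    have h1 : Nat.card F ∣ q ^ 2 := hP ▸ Subgroup.card_dvd_of_le hFP
    obtain ⟨j, hj, hj'⟩ := (Nat.dvd_prime_pow hq).1 h1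
    have h2 : j ≠ 2 := fun e => hne (Subgroup.eq_of_le_of_card_ge hFP (by rw [hP, hj', e]))
    have h3 : j ≠ 0 := fun e => by
      rw [e, pow_zero, Subgroup.card_eq_one] at hj'
      exact hv1 (Subgroup.mem_bot.1 (hj' ▸ (hF ▸ ⟨hv, mem_fixSub.2 hfix⟩ : v ∈ F)))
    rw [hj', show j = 1 by omega, pow_one]
  haveI : Fact q.Prime := ⟨hq⟩
  haveI : IsCyclic F := isCyclic_of_prime_card hcard
  have hiso : ∀ a ∈ F, ∀ b ∈ F, f a b = 1 := by
    obtain ⟨g, hg⟩ := IsCyclic.exists_monoid_generator (α := F)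
    intro a ha b hb
    obtain ⟨x, hx⟩ := Submonoid.mem_powers_iff _ _ |>.1 (hg ⟨a, ha⟩)
    obtain ⟨y, hy⟩ := Submonoid.mem_powers_iff _ _ |>.1 (hg ⟨b, hb⟩)
    rw [show a = (g : A) ^ x from (congrArg Subtype.val hx).symm,
      show b = (g : A) ^ y from (congrArg Subtype.val hy).symm, h.pow_left, h.pow_right, h.alt,
      one_pow, one_pow]
  obtain ⟨N, hN⟩ : ∃ N : A → A, ∀ a, N a = ∏ l ∈ Finset.range (2 ^ i), (t ^ l) a :=
    ⟨_, fun _ => rfl⟩
  have hpowP : ∀ (l : ℕ), ∀ a ∈ P, (t ^ l) a ∈ P := by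
    intro l
    induction l with
    | zero => intro a ha; simpa using ha
    | succ l ih => intro a ha; rw [pow_succ', MulAut.mul_apply]; exact hinv _ (ih a ha)
  have hNF : ∀ a ∈ P, N a ∈ F := fun a ha => by
    rw [hF]
    refine ⟨hN a ▸ Subgroup.prod_mem P fun l _ => hpowP l a ha, mem_fixSub.2 ?_⟩
    rw [hN, map_prod]
    have e1 := Finset.prod_range_succ' (fun l => (t ^ l) a) (2 ^ i)
    rw [Finset.prod_range_succ, hord a ha, pow_zero, MulAut.one_apply] at e1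
    simp only [← MulAut.mul_apply, ← pow_succ']
    exact (mul_right_cancel e1).symm
  refine hv1 (hnd v hv fun y hy => ?_)
  refine h.symm_one (eq_one_of_pow (j := i) ?_)
  have hvF : v ∈ F := hF ▸ ⟨hv, mem_fixSub.2 hfix⟩
  rw [← hiso (N y) (hNF y hy) v hvF]
  let φ : A →* k := MonoidHom.mk ⟨fun a => f a v, h.one_left v⟩ fun a b => h.mul_left a b v
  show φ y ^ 2 ^ i = φ (N y)
  rw [hN, map_prod, Finset.prod_congr rfl (fun l _ => show φ ((t ^ l) y) = φ y by
    show f ((t ^ l) y) v = f y v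
    have hvl : ∀ l : ℕ, (t ^ l) v = v := fun l => by
      induction l with
      | zero => rfl
      | succ l ih => rw [pow_succ', MulAut.mul_apply, ih, hfix]
    conv_lhs => rw [← hvl l]
    exact ht.pow l y v), Finset.prod_const, Finset.card_range]

/-- An involution on a nondegenerate plane inverts it or is trivial there. -/
theorem invol {t : MulAut A} (ht : Pres f t) (hinv : ∀ a ∈ P, t a ∈ P)
    (h2 : ∀ a ∈ P, t (t a) = a) : (∀ a ∈ P, t a = a) ∨ ∀ a ∈ P, t a = a⁻¹ := by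
  by_cases hc : ∀ a ∈ P, t a * a = 1
  · exact Or.inr fun a ha => mul_eq_one_iff_eq_inv.1 (hc a ha)
  push Not at hc
  obtain ⟨a, ha, hne⟩ := hc
  refine Or.inl (semiregular h hq hP hnd ht hinv (i := 1) (fun b hb => ?_) (mul_mem (hinv a ha) ha) hne ?_)
  · rw [pow_one, pow_two, MulAut.mul_apply, h2 b hb]
  · rw [map_mul, h2 a ha, mul_comm]

end Semiregular

theorem IsY.semireg {n q : ℕ} {y : MulAut A} (hy : IsY f n q y) (h : IsPairing f) {t : MulAut A}
    (ht : Pres f t) (hinv : ∀ a ∈ mov (y ^ 2 ^ (n - 1)), t a ∈ mov (y ^ 2 ^ (n - 1))) {i : ℕ}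
    (hord : t ^ 2 ^ i = 1) {v : A} (hv : v ∈ mov (y ^ 2 ^ (n - 1))) (hv1 : v ≠ 1) (hfix : t v = v) :
    ∀ a ∈ mov (y ^ 2 ^ (n - 1)), t a = a :=
  semiregular h hy.prime hy.card (fun _ ha hab => h.nd_mov hy.zpres hy.zsq ha hab) ht hinv
    (fun a _ => by rw [hord]; rfl) hv hv1 hfix

theorem IsY.invol_plane {n q : ℕ} {y : MulAut A} (hy : IsY f n q y) (h : IsPairing f) {t : MulAut A}
    (ht : Pres f t) (hinv : ∀ a ∈ mov (y ^ 2 ^ (n - 1)), t a ∈ mov (y ^ 2 ^ (n - 1)))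
    (h2 : ∀ a ∈ mov (y ^ 2 ^ (n - 1)), t (t a) = a) :
    (∀ a ∈ mov (y ^ 2 ^ (n - 1)), t a = a) ∨ ∀ a ∈ mov (y ^ 2 ^ (n - 1)), t a = a⁻¹ :=
  invol h hy.prime hy.card (fun _ ha hab => h.nd_mov hy.zpres hy.zsq ha hab) ht hinv h2

/-- The planes are orthogonal. -/
def Perp (f : A → A → k) (z z' : MulAut A) : Prop := ∀ a ∈ mov z, ∀ b ∈ mov z', f a b = 1

theorem Perp.symm {z z' : MulAut A} (hp : Perp f z z') (h : IsPairing f) : Perp f z' z :=
  fun a ha b hb => h.symm_one (hp b hb a ha)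

theorem Perp.not_mem {z z' : MulAut A} (hp : Perp f z z') (h : IsPairing f) (hz : Pres f z)
    (hz2 : z * z = 1) {a : A} (ha : a ∈ mov z) (ha' : a ∈ mov z') : a = 1 :=
  h.nd_mov hz hz2 ha fun b hb => h.symm_one (hp b hb a ha')

theorem z_eq {z z' : MulAut A} (h : IsPairing f) (hz : Pres f z) (hz2 : z * z = 1)
    (hz' : Pres f z') (hz'2 : z' * z' = 1) (e : mov z' = mov z) : z' = z := by
  refine MulEquiv.ext fun a => ?_
  obtain ⟨c, p, hc, hp, rfl⟩ := exists_split h.odd z hz2 a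
  have h1 : z' p = p⁻¹ := (e ▸ (mem_mov.2 hp) : p ∈ mov z')
  have h2 : z' c = c := h.fix_of_orth hz' hz'2 fun b hb => h.orth hz hc (e ▸ hb : b ∈ mov z)
  rw [map_mul, map_mul, h1, h2, hc, hp]

theorem IsY.perp_fix {n n' q' : ℕ} {y y' : MulAut A} (hy' : IsY f n' q' y') (h : IsPairing f)
    (hp : Perp f (y ^ 2 ^ (n - 1)) (y' ^ 2 ^ (n' - 1))) {a : A} (ha : a ∈ mov (y ^ 2 ^ (n - 1))) :
    y' a = a :=
  hy'.fix_orth h fun b hb => hp a ha b hb

/-- Orthogonal planes: the automorphisms commute. -/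
theorem IsY.commute_of_perp {n q n' q' : ℕ} {y y' : MulAut A} (hy : IsY f n q y) (hy' : IsY f n' q' y')
    (h : IsPairing f) (hp : Perp f (y ^ 2 ^ (n - 1)) (y' ^ 2 ^ (n' - 1))) : Commute y y' := by
  refine MulEquiv.ext fun a => ?_
  rw [MulAut.mul_apply, MulAut.mul_apply]
  obtain ⟨c, p, hc, hpm, rfl⟩ := exists_split h.odd _ hy.zsq a
  obtain ⟨c', p', hc', hpm', rfl⟩ := exists_split h.odd _ hy'.zsq c
  have h1 : y p' = p' := hy.fix_orth h fun b hb => h.symm_one (hp b hb p' hpm')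
  have h2 : y' p = p := hy'.perp_fix h hp (a := p) hpm
  have h3 : y (c' * p') = c' * p' := hy.fix _ hc
  have h4 : y c' = c' := by
    rw [map_mul, h1] at h3
    exact mul_right_cancel h3
  have h5 : y (y' p') = y' p' := hy.fix_orth h fun b hb => h.symm_one (hp b hb _ (hy'.apply_mem_mov hpm'))
  have h6 : y' (y p) = y p := hy'.perp_fix h hp (hy.apply_mem_mov hpm)
  simp only [map_mul, h1, h2, h4, h5, h6, hy'.fix c' hc']

/-- Two such automorphisms in a common 2-group have equal or orthogonal planes. -/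
theorem eq_or_perp (h : IsPairing f) {n q : ℕ} : ∀ (N : ℕ) (S : Subgroup (MulAut A)), Nat.card S = N →
    IsPGroup 2 S → (∀ s ∈ S, Pres f s) → ∀ y ∈ S, ∀ y' ∈ S, IsY f n q y → IsY f n q y' →
      y' ^ 2 ^ (n - 1) = y ^ 2 ^ (n - 1) ∨ Perp f (y ^ 2 ^ (n - 1)) (y' ^ 2 ^ (n - 1)) := by
  haveI : Fact (Nat.Prime 2) := ⟨Nat.prime_two⟩
  intro N
  induction N using Nat.strong_induction_on with
  | _ N ih =>
  intro S hN hS hpres y hyS y' hy'S hy hy'
  obtain ⟨z, hz⟩ : ∃ z, z = y ^ 2 ^ (n - 1) := ⟨_, rfl⟩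
  obtain ⟨z', hz'⟩ : ∃ z', z' = y' ^ 2 ^ (n - 1) := ⟨_, rfl⟩
  rw [← hz, ← hz']
  have hn2 := hy.two_le
  -- the conjugates of `y` have pairwise equal or orthogonal planes
  have hO : ∀ g ∈ S, ∀ g' ∈ S, (g' * y * g'⁻¹) ^ 2 ^ (n - 1) = (g * y * g⁻¹) ^ 2 ^ (n - 1) ∨
      Perp f ((g * y * g⁻¹) ^ 2 ^ (n - 1)) ((g' * y * g'⁻¹) ^ 2 ^ (n - 1)) := by
    intro g hg g' hg'
    by_cases hcyc : Subgroup.zpowers y = S
    · have hcomm : ∀ l ∈ S, l * y * l⁻¹ = y := fun l hl => by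
        obtain ⟨i, rfl⟩ := Subgroup.mem_zpowers_iff.1 (hcyc ▸ hl)
        rw [(Commute.zpow_self y i).eq, mul_inv_cancel_right]
      rw [hcomm g hg, hcomm g' hg']
      exact Or.inl rfl
    obtain ⟨M', hM', hyM'⟩ : ∃ M' : Subgroup S, IsCoatom M' ∧ (⟨y, hyS⟩ : S) ∈ M' := by
      rcases eq_top_or_exists_le_coatom (Subgroup.zpowers (⟨y, hyS⟩ : S)) with hb | ⟨M, hM, hle⟩
      · refine absurd (le_antisymm ((Subgroup.zpowers_le).2 hyS) fun s hs => ?_) hcyc
        obtain ⟨i, hi⟩ := Subgroup.mem_zpowers_iff.1 (hb ▸ Subgroup.mem_top (⟨s, hs⟩ : S))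
        exact Subgroup.mem_zpowers_iff.2 ⟨i, (SubgroupClass.coe_zpow (⟨y, hyS⟩ : S) i).symm.trans (congrArg Subtype.val hi)⟩
      · exact ⟨M, hM, hle (Subgroup.mem_zpowers _)⟩
    haveI := coatom_normal hS hM'
    obtain ⟨S₁, hS₁⟩ : ∃ S₁, S₁ = M'.map S.subtype := ⟨_, rfl⟩
    have hle : S₁ ≤ S := hS₁ ▸ Subgroup.map_subtype_le M'
    have hconj : ∀ l ∈ S, l * y * l⁻¹ ∈ S₁ := fun l hl => hS₁ ▸
      ⟨⟨l, hl⟩ * ⟨y, hyS⟩ * ⟨l, hl⟩⁻¹, (inferInstance : M'.Normal).conj_mem _ hyM' _, rfl⟩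
    refine ih (Nat.card S₁) ?_ S₁ rfl (hS.to_le hle) (fun s hs => hpres s (hle hs)) _ (hconj g hg) _
      (hconj g' hg') (hy.conj (hpres g hg)) (hy.conj (hpres g' hg'))
    rw [← hN, hS₁, Subgroup.card_map_of_injective S.subtype_injective]
    refine lt_of_le_of_ne (Subgroup.card_le_card_group _) fun e => hM'.1 ?_
    exact (Subgroup.card_eq_iff_eq_top _).1 e
  have h1 : ∀ g ∈ S, ∀ a ∈ mov z, g a ∈ mov ((g * y * g⁻¹) ^ 2 ^ (n - 1)) :=
    fun g _ a ha => (mem_mov_conj _).2 (hz ▸ ha)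
  obtain ⟨w, hw⟩ : ∃ w, w = (y' * y * y'⁻¹) ^ 2 ^ (n - 1) := ⟨_, rfl⟩
  have hP : ∀ a ∈ mov z, y' a ∈ mov w := fun a ha => hw ▸ h1 y' hy'S a ha
  have hz2 : z * z = 1 := hz ▸ hy.zsq
  have hzp : Pres f z := hz ▸ hy.zpres
  have hO1 := hO 1 (one_mem S) y' hy'S
  rw [one_mul, inv_one, mul_one, ← hw, ← hz] at hO1
  rcases hO1 with he | hperp
  · -- `y'` stabilises the plane
    rw [he] at hP
    have hz'P : ∀ a ∈ mov z, z' a ∈ mov z := by
      intro a ha
      rw [hz']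
      have : ∀ l : ℕ, (y' ^ l) a ∈ mov z := fun l => by
        induction l with
        | zero => simpa using ha
        | succ l ih => rw [pow_succ', MulAut.mul_apply]; exact hP _ ih
      exact this _
    rcases (hz ▸ hy.invol_plane h (t := z') (hz' ▸ hy'.zpres) (hz ▸ hz'P) (fun a _ => by
        rw [← MulAut.mul_apply, hz', hy'.zsq]; rfl) :
        (∀ a ∈ mov z, z' a = a) ∨ ∀ a ∈ mov z, z' a = a⁻¹) with hfix | hinv
    · exact Or.inr fun a ha b hb => h.orth (hz' ▸ hy'.zpres) (hfix a ha) hb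
    · refine Or.inl (z_eq h hzp hz2 (hz' ▸ hy'.zpres) (hz' ▸ hy'.zsq) ?_)
      refine (Subgroup.eq_of_le_of_card_ge (fun a ha => hinv a ha) ?_).symm
      rw [hz, hy.card, hz', hy'.card]
  -- `y'` cannot move the plane to an orthogonal one
  exfalso
  have hy'z : ∀ a, (y' ^ 2 ^ (n - 1)) (y' a) = y' ((y' ^ 2 ^ (n - 1)) a) := fun a => by
    rw [← MulAut.mul_apply, (Commute.pow_self y' _).eq, MulAut.mul_apply]
  have hinj : ∀ a ∈ mov z, y' a = a → a = 1 := fun a ha e =>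
    hperp.not_mem h hzp hz2 ha (e ▸ hP a ha)
  have hmem : ∀ a ∈ mov z, y' a * a⁻¹ ∈ mov z' := fun a _ => by
    obtain ⟨c, p, hc, hp, rfl⟩ := exists_split h.odd _ hy'.zsq a
    rw [map_mul, hy'.fix c hc, mul_inv, mul_mul_mul_comm, mul_inv_cancel, one_mul, hz']
    exact mul_mem (hy'.apply_mem_mov hp) (inv_mem hp)
  let φ : mov z → mov z' := fun a => ⟨y' (a : A) * (a : A)⁻¹, hmem a a.2⟩
  have hφ : Function.Bijective φ := by
    refine (Nat.bijective_iff_injective_and_card φ).2 ⟨fun a b e => Subtype.ext ?_, by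
      rw [hz, hy.card, hz', hy'.card]⟩
    have e' : y' (a : A) * (a : A)⁻¹ = y' (b : A) * (b : A)⁻¹ := congrArg Subtype.val e
    refine mul_inv_eq_one.1 (hinj _ (mul_mem a.2 (inv_mem b.2)) ?_)
    rw [map_mul, map_inv]
    calc y' (a : A) * (y' (b : A))⁻¹ = (y' (a : A) * (a : A)⁻¹) * a * (y' (b : A))⁻¹ := by group
      _ = (y' (b : A) * (b : A)⁻¹) * a * (y' (b : A))⁻¹ := by rw [e']
      _ = (a : A) * (b : A)⁻¹ := by rw [mul_comm (y' (b : A)), mul_right_comm, mul_assoc (b : A)⁻¹,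
        mul_inv_cancel, mul_one, mul_comm]
  obtain ⟨v, hv, hv1⟩ : ∃ v ∈ mov z, v ≠ 1 := by
    by_contra hc
    push Not at hc
    have h0 : mov z = ⊥ := (Subgroup.eq_bot_iff_forall _).2 hc
    have hcd := hy.card
    rw [← hz, h0, Subgroup.card_bot] at hcd
    have h4 := hy.prime.two_le
    have h3 : 2 ^ 2 ≤ q ^ 2 := Nat.pow_le_pow_left h4 2
    omega
  obtain ⟨e, he⟩ : ∃ e, e = y' v * v⁻¹ := ⟨_, rfl⟩
  have he' : e ∈ mov z' := he ▸ hmem v hv
  obtain ⟨⟨u, hu⟩, hue⟩ := hφ.2 ⟨y' e, by subst hz'; exact hy'.apply_mem_mov he'⟩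
  have hue' : y' u * u⁻¹ = y' (y' v) * (y' v)⁻¹ := by
    have := congrArg Subtype.val hue
    rw [show (φ ⟨u, hu⟩ : A) = y' u * u⁻¹ from rfl] at this
    rw [this, ← map_inv, ← map_mul, ← he]
  -- the square of `y'` moves the plane back
  obtain ⟨w₂, hw₂⟩ : ∃ w, w = (y' * y' * y * (y' * y')⁻¹) ^ 2 ^ (n - 1) := ⟨_, rfl⟩
  have hv2 : y' (y' v) ∈ mov w₂ := hw₂ ▸ h1 _ (mul_mem hy'S hy'S) v hv
  have hw : Pres f w := hw ▸ (hy.conj (hpres y' hy'S)).zpres
  have hO2 := hO 1 (one_mem S) _ (mul_mem hy'S hy'S)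
  rw [one_mul, inv_one, mul_one, ← hw₂, ← hz] at hO2
  rcases hO2 with e2 | hp2
  · rw [e2] at hv2
    have hA : y' (y' v) * u = y' u * y' v :=
      (div_eq_div_iff_mul_eq_mul.1 (by simpa [div_eq_mul_inv] using hue')).symm
    have h5 : y' (y' v) * u = 1 := hperp.not_mem h hzp hz2 (mul_mem hv2 hu)
      (hA ▸ mul_mem (hP u hu) (hP v hv))
    have h6 : y' u * y' v = 1 := hA ▸ h5
    rw [← map_mul, map_eq_one_iff _ y'.injective] at h6
    have h7 : y' (y' v) = v := by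
      rw [mul_eq_one_iff_eq_inv] at h5 h6
      rw [h5, h6, inv_inv]
    have h8 : (y' ^ 2 ^ (n - 1)) v = v := by
      rw [show n - 1 = n - 2 + 1 by omega, pow_succ', pow_mul, pow_two]
      generalize 2 ^ (n - 2) = l
      induction l with
      | zero => rfl
      | succ l ih => rw [pow_succ, MulAut.mul_apply, MulAut.mul_apply, h7, ih]
    have h9 : e = e⁻¹ := by
      rw [← mem_mov.1 he', hz', he, map_mul, hy'z, map_inv, h8]
    refine hv1 (hinj v hv (mul_inv_eq_one.1 (he ▸ eq_one_of_pow_two h.odd ?_)))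
    rw [pow_two]
    nth_rewrite 2 [h9]
    exact mul_inv_cancel e
  · have h5 : u = 1 := by
      refine h.nd_mov hzp hz2 hu fun b hb => ?_
      have e1 : f (y' u * u⁻¹) b = f (y' (y' v) * (y' v)⁻¹) b := by rw [hue']
      rw [h.mul_left, h.mul_left, h.inv_left, h.inv_left, h.symm_one (hperp b hb _ (hP u hu)),
        h.symm_one (hperp b hb _ (hP v hv)), h.symm_one (hp2 b hb _ hv2), one_mul, inv_one, mul_one] at e1
      rwa [inv_eq_one] at e1
    rw [h5, map_one, inv_one, mul_one] at hue'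
    exact hv1 (hinj v hv (y'.injective (mul_inv_eq_one.1 hue'.symm)))

theorem IsY.eq_or_perp {n q : ℕ} {y y' : MulAut A} (hy : IsY f n q y) (hy' : IsY f n q y')
    (h : IsPairing f) (S : Subgroup (MulAut A)) (hS : IsPGroup 2 S) (hpres : ∀ s ∈ S, Pres f s)
    (hyS : y ∈ S) (hy'S : y' ∈ S) :
    y' ^ 2 ^ (n - 1) = y ^ 2 ^ (n - 1) ∨ Perp f (y ^ 2 ^ (n - 1)) (y' ^ 2 ^ (n - 1)) :=
  E2.eq_or_perp h (Nat.card S) S rfl hS hpres y hyS y' hy'S hy hy'

/-- The involution of one commutes with that of the other when the planes are equal or orthogonal. -/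
theorem IsY.commute_z {n q : ℕ} {y y' : MulAut A} (hy : IsY f n q y) (hy' : IsY f n q y')
    (h : IsPairing f) (S : Subgroup (MulAut A)) (hS : IsPGroup 2 S) (hpres : ∀ s ∈ S, Pres f s)
    (hyS : y ∈ S) (hy'S : y' ∈ S) : Commute (y ^ 2 ^ (n - 1)) (y' ^ 2 ^ (n - 1)) := by
  rcases hy.eq_or_perp hy' h S hS hpres hyS hy'S with e | e
  · rw [e]
  · exact (hy.commute_of_perp hy' h e).pow_pow _ _

end Cfsg.Agent.Solv.E2
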