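import Cfsg.Agent.Lib.Solv.ExponentTwo.Pairing
import Cfsg.Agent.Lib.Solv.FrattiniModule

/-!
A normal subgroup of odd order and class two in a group with a faithful representation in characteristic two:
the pairing of a character of its centre, and the action of the stabiliser of the character.
-/

set_option autoImplicit false
set_option linter.style.haveILetI false
set_option linter.unusedSectionVars false

namespace Cfsg.Agent.Solv.E2

attribute [local instance] Fintype.ofFinite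

open scoped commutatorElement
open Cfsg.Agent.Solv.D2 (wt proj proj_mem_wt proj_of_mem proj_of_mem_ne sum_proj tw tw_apply proj_tw)
open Solv.CRep (rep_inv_apply rep_apply_inv)

universe u v

variable {G : Type u} [Group G] [Finite G] {k : Type} [Field k] [IsAlgClosed k] [CharP k 2]
  {V : Type v} [AddCommGroup V] [Module k V] [FiniteDimensional k V]

/-- All 2-elements have order dividing `2 ^ e` and no regular block. -/
def NoBlock (ρ : G →* Module.End k V) (e : ℕ) : Prop :=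
  ∀ x : G, (∃ j, x ^ 2 ^ j = 1) → x ^ 2 ^ e = 1 ∧ (ρ x - 1) ^ (2 ^ e - 1) = 0

/-- The sum of the powers, in characteristic two. -/
theorem geom_two {R : Type*} [Ring R] [Algebra k R] (T : R) (n : ℕ) :
    ∑ i ∈ Finset.range (2 ^ n), T ^ i = (T - 1) ^ (2 ^ n - 1) := by
  haveI : Fact (Nat.Prime 2) := ⟨Nat.prime_two⟩
  letI : Algebra (ZMod 2) R := ((algebraMap k R).comp (ZMod.castHom (dvd_refl 2) k)).toAlgebra'
    fun c x => Algebra.commutes _ x
  exact ThmB.sum_pow_eq (p := 2) T n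

/-- An element without a regular block on an abelian group of odd order: the involution fixes the weights. -/
theorem orbit_fix (ρ : G →* Module.End k V) {Y : Subgroup G} (hY : Odd (Nat.card Y)) {W : Submodule k V}
    (hWY : ∀ y ∈ Y, ∀ w ∈ W, ρ y w ∈ W) (hcom : ∀ y ∈ ⁅Y, Y⁆, ∀ w ∈ W, ρ y w = w) {g : G}
    (hgY : g ∈ Subgroup.normalizer (Y : Set G)) (hgW : ∀ w ∈ W, ρ g w ∈ W) {n : ℕ} (hn : 1 ≤ n)
    (hz : ∀ w ∈ W, ((ρ g - 1) ^ (2 ^ n - 1) : Module.End k V) w = 0) :
    ∀ y ∈ Y, ∀ w ∈ W, ρ (g ^ 2 ^ (n - 1) * y * (g ^ 2 ^ (n - 1))⁻¹) w = ρ y w := by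
  classical
  haveI : Fact (Nat.Prime 2) := ⟨Nat.prime_two⟩
  have hfix : ∀ w ∈ W, ρ (g ^ 2 ^ n) w = w := fun w hw => by
    have h1 : (ρ g - 1) ^ 2 ^ n = ρ g ^ 2 ^ n - 1 := by
      have hsum := geom_sum_mul (ρ g) (2 ^ n)
      rw [geom_two (k := k), ← pow_succ, Nat.sub_add_cancel Nat.one_le_two_pow] at hsum
      exact hsum
    have h2 : ((ρ g - 1) ^ 2 ^ n : Module.End k V) w = 0 := by
      rw [← Nat.sub_add_cancel (Nat.one_le_two_pow (n := n)), pow_succ', Module.End.mul_apply, hz w hw,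
        map_zero]
    rwa [h1, LinearMap.sub_apply, Module.End.one_apply, sub_eq_zero, ← map_pow] at h2
  intro y hy w hw
  obtain ⟨z, hzdef⟩ : ∃ z, z = g ^ 2 ^ (n - 1) := ⟨_, rfl⟩
  rw [← hzdef]
  have hzY : z ∈ Subgroup.normalizer (Y : Set G) := hzdef ▸ pow_mem hgY _
  have hsum := sum_proj (k := k) ρ hY (w := w) fun c hc => hcom c hc w hw
  conv_lhs => rw [← hsum, map_sum]
  conv_rhs => rw [← hsum, map_sum]
  refine Finset.sum_congr rfl fun μ _ => ?_
  obtain ⟨v, hv⟩ : ∃ v, v = proj ρ Y μ w := ⟨_, rfl⟩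
  rw [← hv]
  have hvwt : v ∈ wt ρ Y μ := hv ▸ proj_mem_wt ρ μ w
  have hvW : v ∈ W := hv ▸ D2.proj_mem hWY μ hw
  by_cases hv0 : v = 0
  · rw [hv0, map_zero, map_zero]
  have hy' : z⁻¹ * (z * y * z⁻¹) * z = y := by group
  have hzy : z * y * z⁻¹ ∈ Y := (Subgroup.mem_normalizer_iff.1 hzY y).1 hy
  suffices hμ : tw Y z μ = μ by
    rw [hvwt ⟨_, hzy⟩, hvwt ⟨y, hy⟩]
    congr 2
    conv_lhs => rw [← hμ]
    exact tw_apply hzY μ _ ⟨y, hy⟩ hy'.symm
  by_contra hμ
  -- the weights of the orbit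
  have htop : tw Y (g ^ 2 ^ n) μ = μ := by
    by_contra hne
    refine hv0 ?_
    have e := proj_tw ρ (pow_mem hgY (2 ^ n)) μ v
    rw [proj_of_mem ρ hY hvwt, hfix v hvW] at e
    rw [← e]
    exact proj_of_mem_ne ρ (Ne.symm hne) hvwt
  have hfree : ∀ i, 0 < i → i < 2 ^ n → tw Y (g ^ i) μ ≠ μ := by
    intro i hi0 hin hi
    refine hμ ?_
    let Stab : Subgroup G :=
      { carrier := {a | a ∈ Subgroup.normalizer (Y : Set G) ∧ tw Y a μ = μ}
        one_mem' := ⟨one_mem _, D2.tw_one Y μ⟩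
        mul_mem' := fun {a b} ha hb => ⟨mul_mem ha.1 hb.1, by rw [D2.tw_mul ha.1 hb.1, hb.2, ha.2]⟩
        inv_mem' := fun {a} ha => ⟨inv_mem ha.1, by
          conv_lhs => rw [← ha.2, ← D2.tw_mul (inv_mem ha.1) ha.1, inv_mul_cancel, D2.tw_one]⟩ }
    have h1 : g ^ i ∈ Stab := ⟨pow_mem hgY i, hi⟩
    have h2 : g ^ 2 ^ n ∈ Stab := ⟨pow_mem hgY _, htop⟩
    have h3 : g ^ Nat.gcd i (2 ^ n) ∈ Stab := by
      have e := Nat.gcd_eq_gcd_ab i (2 ^ n)
      rw [← zpow_natCast, e, zpow_add, zpow_mul, zpow_mul, zpow_natCast, zpow_natCast]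
      exact mul_mem (zpow_mem h1 _) (zpow_mem h2 _)
    obtain ⟨m, hm, hm'⟩ := (Nat.dvd_prime_pow Nat.prime_two).1 (Nat.gcd_dvd_right i (2 ^ n))
    have hmn : m < n := by
      by_contra hc
      have : 2 ^ n ≤ i := (Nat.pow_le_pow_right two_pos (not_lt.1 hc)).trans
        (hm' ▸ Nat.le_of_dvd hi0 (Nat.gcd_dvd_left i (2 ^ n)))
      omega
    have h4 : g ^ 2 ^ (n - 1) ∈ Stab := by
      rw [show n - 1 = m + (n - 1 - m) by omega, pow_add, pow_mul, ← hm']
      exact pow_mem h3 _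
    rw [hzdef]; exact h4.2
  have e := hz v hvW
  rw [← geom_two (k := k), LinearMap.sum_apply] at e
  have e2 := congrArg (proj ρ Y μ) e
  rw [map_sum, map_zero, Finset.sum_eq_single 0] at e2
  · rw [pow_zero, Module.End.one_apply, proj_of_mem ρ hY hvwt] at e2
    exact hv0 e2
  · intro i hi hi0
    rw [Finset.mem_range] at hi
    rw [← map_pow]
    refine proj_of_mem_ne ρ (χ := tw Y (g ^ i) μ) (hfree i (by omega) hi) ?_
    rw [← proj_of_mem ρ hY hvwt, ← proj_tw ρ (pow_mem hgY i)]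
    exact proj_mem_wt ρ _ _
  · intro h0
    exact absurd (Finset.mem_range.2 (by positivity)) h0

/-- The standing hypotheses. -/
structure Setup (ρ : G →* Module.End k V) (P : Subgroup G) (q e : ℕ) : Prop where
  faith : ∀ g, ρ g = 1 → g = 1
  pgroup : IsPGroup q P
  prime : q.Prime
  two_ne : q ≠ 2
  normal : P.Normal
  cl : ⁅P, P⁆ ≤ Subgroup.centralizer (P : Set G)
  one_le : 1 ≤ e
  noBlock : NoBlock ρ e

/-- The centre of `P`. -/
def cen (P : Subgroup G) : Subgroup G := P ⊓ Subgroup.centralizer (P : Set G)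

theorem mem_cen {P : Subgroup G} {z : G} : z ∈ cen P ↔ z ∈ P ∧ ∀ r ∈ P, Commute z r := by
  rw [cen, Subgroup.mem_inf, Subgroup.mem_centralizer_iff]
  exact and_congr_right fun _ => forall₂_congr fun _ _ => eq_comm

theorem commute_cen {P : Subgroup G} (c : cen P) {r : G} (hr : r ∈ P) : (c : G) * r = r * c :=
  ((mem_cen.1 c.2).2 r hr).eq

theorem cen_conj_mem {P : Subgroup G} [hn : P.Normal] (g : G) {z : G} (hz : z ∈ cen P) :
    g * z * g⁻¹ ∈ cen P := by
  rw [mem_cen] at hz ⊢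
  refine ⟨hn.conj_mem z hz.1 g, fun r hr => ?_⟩
  have e := (hz.2 (g⁻¹ * r * g) (by simpa using hn.conj_mem r hr g⁻¹)).eq
  calc g * z * g⁻¹ * r = g * (z * (g⁻¹ * r * g)) * g⁻¹ := by group
    _ = g * ((g⁻¹ * r * g) * z) * g⁻¹ := by rw [e]
    _ = r * (g * z * g⁻¹) := by group

variable {ρ : G →* Module.End k V} {P : Subgroup G} {q e : ℕ}

namespace Setup

variable (h : Setup ρ P q e)

include h

theorem odd : Odd (Nat.card P) := by
  haveI : Fact q.Prime := ⟨h.prime⟩
  obtain ⟨j, hj⟩ := h.pgroup.exists_card_eq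
  rw [hj]
  exact (h.prime.odd_of_ne_two h.two_ne).pow

theorem odd_cen : Odd (Nat.card (cen P)) := D2.odd_card_of_le inf_le_left h.odd

theorem normalizer_cen (g : G) : g ∈ Subgroup.normalizer ((cen P : Subgroup G) : Set G) := by
  haveI := h.normal
  refine Subgroup.mem_normalizer_iff.2 fun z => ⟨cen_conj_mem g, fun hz => ?_⟩
  simpa [mul_assoc] using cen_conj_mem g⁻¹ hz

theorem commutator_mem (r s : P) : ⁅(r : G), (s : G)⁆ ∈ cen P := by
  refine ⟨?_, h.cl (Subgroup.commutator_mem_commutator r.2 s.2)⟩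
  rw [commutatorElement_def]
  exact P.mul_mem (P.mul_mem (P.mul_mem r.2 s.2) (P.inv_mem r.2)) (P.inv_mem s.2)

/-- Commutators as central elements. -/
def cm (r s : P) : cen P := ⟨⁅(r : G), (s : G)⁆, h.commutator_mem r s⟩

theorem cm_mul_left (a b s : P) : h.cm (a * b) s = h.cm a s * h.cm b s := by
  refine Subtype.ext ?_
  show ⁅((a * b : P) : G), (s : G)⁆ = ⁅(a : G), (s : G)⁆ * ⁅(b : G), (s : G)⁆
  have e : (⁅(b : G), (s : G)⁆) * a = a * ⁅(b : G), (s : G)⁆ := commute_cen (h.cm b s) a.2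
  have e' : (⁅(b : G), (s : G)⁆) * ⁅(a : G), (s : G)⁆ = ⁅(a : G), (s : G)⁆ * ⁅(b : G), (s : G)⁆ :=
    commute_cen (h.cm b s) (h.commutator_mem a s).1
  rw [← e', Subgroup.coe_mul]
  calc ⁅(a : G) * b, (s : G)⁆ = a * ⁅(b : G), (s : G)⁆ * (a : G)⁻¹ * ⁅(a : G), (s : G)⁆ := by
        simp only [commutatorElement_def]; group
    _ = _ := by rw [← e, mul_inv_cancel_right]

theorem cm_swap (r s : P) : h.cm s r = (h.cm r s)⁻¹ :=
  Subtype.ext (commutatorElement_inv (r : G) (s : G)).symm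

theorem cm_mul_right (r s t : P) : h.cm r (s * t) = h.cm r s * h.cm r t := by
  have hc : h.cm t r * h.cm s r = h.cm s r * h.cm t r :=
    Subtype.ext (commute_cen (h.cm t r) (h.commutator_mem s r).1)
  rw [h.cm_swap (s * t) r, h.cm_mul_left, h.cm_swap s r, h.cm_swap t r, mul_inv_rev]
  exact (Commute.inv_inv hc).eq

theorem cm_self (r : P) : h.cm r r = 1 := Subtype.ext (commutatorElement_self (r : G))

theorem cm_cen (c : P) (hc : (c : G) ∈ cen P) (s : P) : h.cm c s = 1 :=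
  Subtype.ext (commutatorElement_eq_one_iff_mul_comm.2 (commute_cen ⟨_, hc⟩ s.2))

/-- The radical of the pairing of a character. -/
def rad (χ : ↥(cen P) →* kˣ) : Subgroup P where
  carrier := {r | ∀ s : P, χ (h.cm r s) = 1}
  one_mem' s := by rw [h.cm_cen 1 (one_mem _) s, map_one]
  mul_mem' {a b} ha hb s := by rw [h.cm_mul_left, map_mul, ha s, hb s, one_mul]
  inv_mem' {a} ha s := by
    have e := h.cm_mul_left a⁻¹ a s
    rw [inv_mul_cancel, h.cm_cen 1 (one_mem _) s] at e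
    have e2 := congrArg χ e
    rw [map_one, map_mul, ha s, mul_one] at e2
    exact e2.symm

theorem mem_rad {χ : ↥(cen P) →* kˣ} {r : P} : r ∈ h.rad χ ↔ ∀ s : P, χ (h.cm r s) = 1 := Iff.rfl

theorem cen_mem_rad (χ : ↥(cen P) →* kˣ) {r : P} (hr : (r : G) ∈ cen P) : r ∈ h.rad χ := fun s => by
  rw [h.cm_cen r hr, map_one]

theorem commutator_mem_rad (χ : ↥(cen P) →* kˣ) (r s : P) : ⁅r, s⁆ ∈ h.rad χ :=
  h.cen_mem_rad χ (h.commutator_mem r s)

end Setup

instance rad_normal {h : Setup ρ P q e} {χ : ↥(cen P) →* kˣ} : (h.rad χ).Normal := ⟨fun n hn g => by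
  simpa [commutatorElement_def] using mul_mem (h.commutator_mem_rad χ g n) hn⟩

instance quotCommGroup {h : Setup ρ P q e} {χ : ↥(cen P) →* kˣ} : CommGroup (P ⧸ h.rad χ) :=
  { (inferInstance : Group (P ⧸ h.rad χ)) with
    mul_comm := fun a b => by
      obtain ⟨a, rfl⟩ := QuotientGroup.mk'_surjective (h.rad χ) a
      obtain ⟨b, rfl⟩ := QuotientGroup.mk'_surjective (h.rad χ) b
      rw [← commutatorElement_eq_one_iff_mul_comm, ← map_commutatorElement]
      exact (QuotientGroup.eq_one_iff _).2 (h.commutator_mem_rad χ a b) }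

namespace Setup

variable (h : Setup ρ P q e) (χ : ↥(cen P) →* kˣ)

include h

/-- The pairing. -/
noncomputable def form (a b : P ⧸ h.rad χ) : k := (χ (h.cm a.out b.out) : k)

theorem form_mk (r s : P) : h.form χ (r : P ⧸ h.rad χ) s = (χ (h.cm r s) : k) := by
  obtain ⟨x, hx⟩ := QuotientGroup.mk_out_eq_mul (h.rad χ) r
  obtain ⟨y, hy⟩ := QuotientGroup.mk_out_eq_mul (h.rad χ) s
  have e2 : χ (h.cm r y) = 1 := by rw [h.cm_swap (y : P) r, map_inv, y.2 r, inv_one]
  rw [form, hx, hy, h.cm_mul_left, map_mul, x.2, mul_one, h.cm_mul_right, map_mul, e2, mul_one]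

theorem isPairing : IsPairing (h.form χ) where
  odd := Odd.of_dvd_nat h.odd (Subgroup.card_quotient_dvd_card _)
  mul_left a b c := by
    induction a using QuotientGroup.induction_on with | H a => ?_
    induction b using QuotientGroup.induction_on with | H b => ?_
    induction c using QuotientGroup.induction_on with | H c => ?_
    rw [← QuotientGroup.mk_mul, h.form_mk, h.form_mk, h.form_mk, h.cm_mul_left, map_mul, Units.val_mul]
  mul_right a b c := by
    induction a using QuotientGroup.induction_on with | H a => ?_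
    induction b using QuotientGroup.induction_on with | H b => ?_
    induction c using QuotientGroup.induction_on with | H c => ?_
    rw [← QuotientGroup.mk_mul, h.form_mk, h.form_mk, h.form_mk, h.cm_mul_right, map_mul, Units.val_mul]
  alt a := by
    induction a using QuotientGroup.induction_on with | H a => ?_
    rw [h.form_mk, h.cm_self, map_one, Units.val_one]
  nd a ha := by
    induction a using QuotientGroup.induction_on with | H a => ?_
    refine (QuotientGroup.eq_one_iff a).2 fun s => Units.ext ?_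
    rw [← h.form_mk, ha, Units.val_one]

/-- The stabiliser of the character. -/
def stab : Subgroup G where
  carrier := {g | ∀ z : cen P, χ ⟨g * z * g⁻¹, (Subgroup.mem_normalizer_iff.1 (h.normalizer_cen g) z).1 z.2⟩ = χ z}
  one_mem' z := congrArg χ (Subtype.ext (by simp))
  mul_mem' {a b} ha hb z := by
    rw [← hb z, ← ha ⟨b * z * b⁻¹, (Subgroup.mem_normalizer_iff.1 (h.normalizer_cen b) z).1 z.2⟩]
    exact congrArg χ (Subtype.ext (by simp [mul_assoc]))
  inv_mem' {a} ha z := by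
    rw [← ha ⟨a⁻¹ * z * a⁻¹⁻¹, (Subgroup.mem_normalizer_iff.1 (h.normalizer_cen a⁻¹) z).1 z.2⟩]
    exact congrArg χ (Subtype.ext (by simp [mul_assoc]))

theorem mem_stab {g : G} : g ∈ h.stab χ ↔ ∀ z : cen P,
    χ ⟨g * z * g⁻¹, (Subgroup.mem_normalizer_iff.1 (h.normalizer_cen g) z).1 z.2⟩ = χ z := Iff.rfl

/-- Elements centralising the centre stabilise every character. -/
theorem mem_stab_of_commute {g : G} (hg : ∀ z ∈ cen P, Commute g z) : g ∈ h.stab χ := fun z =>
  congrArg χ (Subtype.ext (show g * (z : G) * g⁻¹ = z by rw [(hg z z.2).eq, mul_inv_cancel_right]))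

/-- A moved weight space meets the weight space trivially. -/
theorem proj_stab {g : G} (w : V) (hw : w ∈ wt ρ (cen P) χ) :
    (g ∈ h.stab χ → ρ g w ∈ wt ρ (cen P) χ) ∧ (g ∉ h.stab χ → proj ρ (cen P) χ (ρ g w) = 0) := by
  have hg := h.normalizer_cen g
  have hmem : ρ g w ∈ wt ρ (cen P) (tw (cen P) g χ) := by
    rw [← proj_of_mem ρ h.odd_cen hw, ← proj_tw ρ hg]
    exact proj_mem_wt ρ _ _
  have hiff : tw (cen P) g χ = χ ↔ g ∈ h.stab χ := by
    constructor
    · intro he z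
      conv_lhs => rw [← he]
      exact tw_apply hg χ _ z (by simp [mul_assoc])
    · intro he
      refine MonoidHom.ext fun z => ?_
      have hz' : g⁻¹ * (z : G) * g ∈ cen P := D2.conj_mem_of_normalizer hg z.2
      rw [tw_apply hg χ z ⟨_, hz'⟩ rfl, ← he ⟨_, hz'⟩]
      exact congrArg χ (Subtype.ext (by simp [mul_assoc]))
  exact ⟨fun hs => by rwa [hiff.2 hs] at hmem, fun hs => proj_of_mem_ne ρ (fun he => hs (hiff.1 he)) hmem⟩

theorem invP {r : G} (hr : r ∈ P) {w : V} (hw : w ∈ wt ρ (cen P) χ) : ρ r w ∈ wt ρ (cen P) χ :=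
  (h.proj_stab χ w hw).1 (h.mem_stab_of_commute χ fun _ hz => ((mem_cen.1 hz).2 r hr).symm)

theorem conj_cm {g : G} (hg : g ∈ h.stab χ) (r s : P) (hr : g * r * g⁻¹ ∈ P) (hs : g * s * g⁻¹ ∈ P) :
    χ (h.cm ⟨_, hr⟩ ⟨_, hs⟩) = χ (h.cm r s) := by
  rw [← hg (h.cm r s)]
  exact congrArg χ (Subtype.ext (by
    show ⁅g * (r : G) * g⁻¹, g * s * g⁻¹⁆ = g * ⁅(r : G), (s : G)⁆ * g⁻¹
    simp only [commutatorElement_def]; group))

theorem rad_conj {g : G} (hg : g ∈ h.stab χ) {r : P} (hr : r ∈ h.rad χ) (hr' : g * r * g⁻¹ ∈ P) :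
    (⟨_, hr'⟩ : P) ∈ h.rad χ := fun s => by
  haveI := h.normal
  have hs : g⁻¹ * s * g ∈ P := by simpa using h.normal.conj_mem s s.2 g⁻¹
  rw [← hr ⟨_, hs⟩, ← h.conj_cm χ hg r ⟨_, hs⟩ hr' (by simp [mul_assoc])]
  congr 2
  exact Subtype.ext (by simp [mul_assoc])

/-- The action of the stabiliser. -/
noncomputable def act : ↥(h.stab χ) →* MulAut (P ⧸ h.rad χ) :=
  have hP : ∀ (g : h.stab χ) (r : P), (g : G) * r * (g : G)⁻¹ ∈ P := fun g r => h.normal.conj_mem r r.2 g
  let f : h.stab χ → (P ⧸ h.rad χ →* P ⧸ h.rad χ) := fun g => QuotientGroup.map _ _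
    { toFun := fun r => ⟨_, hP g r⟩
      map_one' := Subtype.ext (by simp)
      map_mul' := fun r s => Subtype.ext (by simp [mul_assoc]) }
    fun r hr => h.rad_conj χ g.2 hr _
  have hf : ∀ g (r : P), f g (r : P ⧸ h.rad χ) = ((⟨_, hP g r⟩ : P) : P ⧸ h.rad χ) := fun _ _ => rfl
  have hmul : ∀ g g' a, f (g * g') a = f g (f g' a) := fun g g' a => by
    induction a using QuotientGroup.induction_on with | H a => ?_
    rw [hf, hf, hf]
    exact congrArg _ (Subtype.ext (by simp [mul_assoc]))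
  have hone : ∀ a, f 1 a = a := fun a => by
    induction a using QuotientGroup.induction_on with | H a => ?_
    rw [hf]
    exact congrArg _ (Subtype.ext (by simp))
  { toFun := fun g =>
      { toFun := f g
        invFun := f g⁻¹
        left_inv := fun a => by rw [← hmul, inv_mul_cancel, hone]
        right_inv := fun a => by rw [← hmul, mul_inv_cancel, hone]
        map_mul' := map_mul (f g) }
    map_one' := MulEquiv.ext hone
    map_mul' := fun g g' => MulEquiv.ext (hmul g g') }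

theorem act_mk (g : h.stab χ) (r : P) : h.act χ g (r : P ⧸ h.rad χ) =
    ((⟨(g : G) * r * (g : G)⁻¹, h.normal.conj_mem r r.2 g⟩ : P) : P ⧸ h.rad χ) := rfl

theorem act_pres (g : h.stab χ) : Pres (h.form χ) (h.act χ g) := fun a b => by
  induction a using QuotientGroup.induction_on with | H a => ?_
  induction b using QuotientGroup.induction_on with | H b => ?_
  rw [h.act_mk, h.act_mk, h.form_mk, h.form_mk, h.conj_cm χ g.2]

theorem act_eq_one {g : h.stab χ} :
    h.act χ g = 1 ↔ ∀ r : P, (⟨⁅(g : G), (r : G)⁆, by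
      rw [commutatorElement_def]; exact mul_mem (h.normal.conj_mem r r.2 g) (inv_mem r.2)⟩ : P) ∈ h.rad χ := by
  have key : ∀ r : P, h.act χ g (r : P ⧸ h.rad χ) = r ↔ (⟨⁅(g : G), (r : G)⁆, by
      rw [commutatorElement_def]; exact mul_mem (h.normal.conj_mem r r.2 g) (inv_mem r.2)⟩ : P) ∈ h.rad χ := fun r => by
    rw [h.act_mk, ← mul_inv_eq_one, ← QuotientGroup.mk_inv, ← QuotientGroup.mk_mul, QuotientGroup.eq_one_iff]
    rfl
  exact ⟨fun h1 r => (key r).1 (by rw [h1]; rfl), fun h1 => MulEquiv.ext fun a => by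
    induction a using QuotientGroup.induction_on with | H a => ?_
    exact (key a).2 (h1 a)⟩

/-- A 2-element centralises the centre through its involution. -/
theorem inv_commute {x : G} (hx : ∃ j, x ^ 2 ^ j = 1) {z : G} (hz : z ∈ cen P) :
    Commute (x ^ 2 ^ (e - 1)) z := by
  have hfix := orbit_fix ρ (W := ⊤) h.odd_cen (fun _ _ _ _ => trivial) (fun y hy w _ => by
      have h1 : ⁅cen P, cen P⁆ = ⊥ := Subgroup.commutator_eq_bot_iff_le_centralizer.2 fun a ha =>
        Subgroup.mem_centralizer_iff.2 fun b hb => ((mem_cen.1 ha).2 b (mem_cen.1 hb).1).eq.symm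
      rw [h1, Subgroup.mem_bot] at hy
      rw [hy, map_one, Module.End.one_apply])
    (h.normalizer_cen x) (fun _ _ => trivial) h.one_le
    (fun w _ => by rw [(h.noBlock x hx).2, LinearMap.zero_apply]) z hz
  obtain ⟨y, hy⟩ : ∃ y, y = x ^ 2 ^ (e - 1) := ⟨_, rfl⟩
  rw [← hy] at hfix ⊢
  have h1 : ρ (y * z * y⁻¹ * z⁻¹) = 1 := LinearMap.ext fun w => by
    rw [map_mul, Module.End.mul_apply, hfix _ trivial, rep_apply_inv, Module.End.one_apply]
  exact commutatorElement_eq_one_iff_commute.1 (h.faith _ h1)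

theorem inv_mem_stab {x : G} (hx : ∃ j, x ^ 2 ^ j = 1) : x ^ 2 ^ (e - 1) ∈ h.stab χ :=
  h.mem_stab_of_commute χ fun _ hz => h.inv_commute hx hz

/-- An element of 2-power order acting trivially for every character centralises `P`. -/
theorem commute_of_act {c : G} (hc : ∃ j, c ^ 2 ^ j = 1) (hcZ : ∀ z ∈ cen P, Commute c z)
    (hall : ∀ χ : ↥(cen P) →* kˣ, wt ρ (cen P) χ ≠ ⊥ →
      h.act χ ⟨c, h.mem_stab_of_commute χ hcZ⟩ = 1) :
    ∀ r ∈ P, Commute c r := by
  haveI := h.normal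
  obtain ⟨j, hj⟩ := hc
  have hS : IsPGroup 2 (Subgroup.zpowers c) := by
    haveI : Fact (Nat.Prime 2) := ⟨Nat.prime_two⟩
    obtain ⟨i, -, hi⟩ := (Nat.dvd_prime_pow Nat.prime_two).1 (orderOf_dvd_of_pow_eq_one hj)
    exact IsPGroup.of_card (n := i) (by rw [Nat.card_zpowers, hi])
  refine D2.commute_of_trivMod h.faith hS h.odd (Subgroup.normalizer_eq_top P ▸ le_top) h.cl
    (Z := cen P) (fun _ => mem_cen) (Subgroup.mem_zpowers c) hcZ fun χ X hne hX r hr => ?_
  have h1 := (h.act_eq_one χ).1 (hall χ hne) ⟨r, hr⟩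
  have h2 := inv_mem h1
  rw [hX]
  refine ⟨?_, fun s hs v hv => ?_⟩
  · rw [show ⁅r, c⁆ = r * (c * r⁻¹ * c⁻¹) by rw [commutatorElement_def]; group]
    exact mul_mem hr (h.normal.conj_mem _ (inv_mem hr) c)
  · have h3 := h2 ⟨s, hs⟩
    rw [← commutatorElement_inv c r]
    refine (hv (h.cm ⟨⁅c, r⁆⁻¹, ?_⟩ ⟨s, hs⟩)).trans ?_
    · refine P.inv_mem ?_
      rw [commutatorElement_def]
      exact P.mul_mem (h.normal.conj_mem r hr c) (P.inv_mem hr)
    · exact (congrArg (fun u : kˣ => (u : k) • v) h3).trans (one_smul k v)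

end Setup

end Cfsg.Agent.Solv.E2
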