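import Cfsg.Agent.Lib.Solv.ExponentTwo.Pairing

/-!
The value `(b y) ^ H (y ^ H)⁻¹` lies in a subgroup containing the squares of a normal 2-subgroup.
-/

set_option autoImplicit false
set_option linter.style.haveILetI false
set_option linter.unusedSectionVars false
set_option maxHeartbeats 1000000

namespace Cfsg.Agent.Solv.E2

attribute [local instance] Fintype.ofFinite

open Cfsg.Agent.Solv.D2 (fixSub mem_fixSub exists_split eq_one_of_two_pow eq_one_of_pow_two)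
open scoped commutatorElement

universe u v

variable {A : Type u} [CommGroup A] [Finite A] {k : Type v} [Field k] [CharP k 2] {f : A → A → k}

theorem IsY.pow_four {q : ℕ} {y : MulAut A} (hy : IsY f 2 q y) : y ^ 4 = 1 := by simpa using hy.pow

theorem zsq_two {q : ℕ} {y : MulAut A} (hy : IsY f 2 q y) : y ^ 2 * y ^ 2 = 1 := by
  rw [← pow_add]; exact hy.pow_four

/-- Each element of a plane of order nine has order dividing three. -/
theorem plane_cube {y : MulAut A} (hy : IsY f 2 3 y) (h : IsPairing f) {v : A} (hv : v ∈ mov (y ^ 2)) :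
    v ^ 3 = 1 := by
  have hcard : Nat.card (mov (y ^ 2)) = 3 ^ 2 := by simpa using hy.card
  have hle : Subgroup.zpowers v ≤ mov (y ^ 2) := Subgroup.zpowers_le.2 hv
  have h1 : orderOf v ∣ 3 ^ 2 := hcard ▸ Nat.card_zpowers v ▸ Subgroup.card_dvd_of_le hle
  obtain ⟨j, hj, hj'⟩ := (Nat.dvd_prime_pow Nat.prime_three).1 h1
  refine orderOf_dvd_iff_pow_eq_one.1 ?_
  rcases Nat.lt_or_ge j 2 with h2 | h2
  · interval_cases j <;> simp [hj']
  exfalso
  have heq : Subgroup.zpowers v = mov (y ^ 2) := Subgroup.eq_of_le_of_card_ge hle (by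
    rw [hcard, Nat.card_zpowers, hj']
    exact Nat.pow_le_pow_right (by norm_num) h2)
  have hv1 : v = 1 := h.nd_mov (hy.pres.pow 2) (zsq_two hy) hv fun b hb => by
    obtain ⟨l, rfl⟩ := (mem_powers_iff_mem_zpowers (x := v)).2 (heq ▸ hb : b ∈ Subgroup.zpowers v)
    rw [h.pow_right, h.alt, one_pow]
  rw [hv1, orderOf_one] at hj'
  have h3 : 3 ^ 2 ≤ 3 ^ j := Nat.pow_le_pow_right (by norm_num) h2
  omega

/-- An element of 2-power order on a plane of order nine has order dividing four there. -/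
theorem plane_four {y t : MulAut A} (hy : IsY f 2 3 y) (h : IsPairing f) (ht : Pres f t) {i : ℕ}
    (hord : t ^ 2 ^ i = 1) (hinv : ∀ a ∈ mov (y ^ 2), t a ∈ mov (y ^ 2)) :
    ∀ a ∈ mov (y ^ 2), (t ^ 4) a = a := by
  have hz : y ^ 2 ^ (2 - 1) = y ^ 2 := by norm_num
  have hpowP : ∀ (l : ℕ), ∀ a ∈ mov (y ^ 2), (t ^ l) a ∈ mov (y ^ 2) := by
    intro l
    induction l with
    | zero => intro a ha; simpa using ha
    | succ l ih => intro a ha; rw [pow_succ' t l, MulAut.mul_apply]; exact hinv _ (ih a ha)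
  obtain ⟨v, hv, hv1⟩ : ∃ v ∈ mov (y ^ 2), v ≠ 1 := by
    by_contra hc
    push Not at hc
    have h0 : mov (y ^ 2) = ⊥ := (Subgroup.eq_bot_iff_forall _).2 hc
    have hcard : Nat.card (mov (y ^ 2)) = 3 ^ 2 := by simpa using hy.card
    rw [h0, Subgroup.card_bot] at hcard
    omega
  suffices (t ^ 4) v = v from fun a ha => hy.semireg h (t := t ^ 4) (ht.pow 4)
    (by rw [hz]; exact hpowP 4) (i := i) (by rw [← pow_mul, mul_comm, pow_mul, hord, one_pow])
    (v := v) (by rw [hz]; exact hv) hv1 this a (by rw [hz]; exact ha)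
  have hper : ∀ (s : MulAut A), (s ^ 3) v = v → (s ^ 2 ^ i) v = v → s v = v := by
    intro s h3 h2
    have hiter : ∀ m : ℕ, (s ^ (3 * m)) v = v := fun m => by
      induction m with
      | zero => rfl
      | succ m ih => rw [mul_add, mul_one, pow_add, MulAut.mul_apply, h3, ih]
    have hmod : 2 ^ i % 3 ≠ 0 := fun e => by
      have h4 : (3 : ℕ) ∣ 2 := Nat.prime_three.dvd_of_dvd_pow (Nat.dvd_of_mod_eq_zero e)
      norm_num at h4
    have hlt : 2 ^ i % 3 < 3 := Nat.mod_lt _ (by norm_num)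
    rw [← Nat.mod_add_div (2 ^ i) 3, pow_add, MulAut.mul_apply, hiter] at h2
    rcases (show 2 ^ i % 3 = 1 ∨ 2 ^ i % 3 = 2 by omega) with e | e <;> rw [e] at h2
    · simpa using h2
    · nth_rewrite 1 [← h2]
      rw [← MulAut.mul_apply, ← pow_succ', h3]
  have h6 : (t ^ 6) v = v → (t ^ 4) v = v := fun e => by
    have e2 : (t ^ 2) v = v := hper (t ^ 2) (by rw [← pow_mul]; exact e)
      (by rw [← pow_mul, mul_comm, pow_mul, hord, one_pow]; rfl)
    rw [show (4 : ℕ) = 2 + 2 from rfl, pow_add, MulAut.mul_apply, e2, e2]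
  obtain ⟨w, hw⟩ : ∃ w, w = t v := ⟨_, rfl⟩
  have hwP : w ∈ mov (y ^ 2) := hw ▸ hinv v hv
  have hv3 := plane_cube hy h hv
  have hw3 := plane_cube hy h hwP
  have hov : orderOf v = 3 := by
    haveI : Fact (Nat.Prime 3) := ⟨Nat.prime_three⟩
    exact orderOf_eq_prime hv3 hv1
  by_cases hwv : ∃ l : ℕ, w = v ^ l
  · obtain ⟨l, hl⟩ := hwv
    have hl' : w = v ^ (l % 3) := by rw [hl, ← pow_mod_orderOf v l, hov]
    have hlt : l % 3 < 3 := Nat.mod_lt _ (by norm_num)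
    rcases (show l % 3 = 0 ∨ l % 3 = 1 ∨ l % 3 = 2 by omega) with e | e | e <;> rw [e] at hl'
    · rw [pow_zero, hw] at hl'
      exact absurd ((map_eq_one_iff _ t.injective).1 hl') hv1
    · rw [pow_one, hw] at hl'
      simp [pow_succ, hl']
    · rw [hw] at hl'
      have e2 : t (t v) = v := by
        rw [hl', map_pow, hl', ← pow_mul, show 2 * 2 = 3 + 1 from rfl, pow_succ, hv3, one_mul]
      simp [pow_succ, e2]
  push Not at hwv
  -- `v, w` generate the plane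
  have hcard : Nat.card (mov (y ^ 2)) = 3 ^ 2 := by simpa using hy.card
  have how : orderOf w = 3 := by
    haveI : Fact (Nat.Prime 3) := ⟨Nat.prime_three⟩
    exact orderOf_eq_prime hw3 fun e => hwv 0 (by rw [e, pow_zero])
  have hgen : ∀ x ∈ mov (y ^ 2), ∃ a b : ℕ, a < 3 ∧ b < 3 ∧ x = v ^ a * w ^ b := by
    obtain ⟨C, hC⟩ : ∃ C, C = Subgroup.closure ({v, w} : Set A) := ⟨_, rfl⟩
    have hCle : C ≤ mov (y ^ 2) := hC ▸ (Subgroup.closure_le _).2 (by
      rintro _ (rfl | rfl)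
      exacts [hv, hwP])
    have hCtop : C = mov (y ^ 2) := by
      obtain ⟨j, hj, hj'⟩ := (Nat.dvd_prime_pow Nat.prime_three).1 (hcard ▸ Subgroup.card_dvd_of_le hCle)
      refine Subgroup.eq_of_le_of_card_ge hCle ?_
      by_contra hlt
      have hvC : Subgroup.zpowers v ≤ C := Subgroup.zpowers_le.2 (hC ▸ Subgroup.subset_closure (Or.inl rfl))
      have heq : Subgroup.zpowers v = C := Subgroup.eq_of_le_of_card_ge hvC (by
        rw [Nat.card_zpowers, hov, hj']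
        rcases (show j = 0 ∨ j = 1 ∨ j = 2 by omega) with rfl | rfl | rfl
        · norm_num
        · norm_num
        · exact absurd (le_of_eq (hcard.trans hj'.symm)) hlt)
      have hwC : w ∈ Subgroup.zpowers v := heq ▸ hC ▸ Subgroup.subset_closure (Or.inr rfl)
      obtain ⟨l, hl⟩ := (mem_powers_iff_mem_zpowers (x := v)).2 hwC
      exact hwv l hl.symm
    intro x hx
    rw [← hCtop, hC, Subgroup.mem_closure_pair] at hx
    obtain ⟨m, l, rfl⟩ := hx
    refine ⟨(m % 3).toNat, (l % 3).toNat, by omega, by omega, ?_⟩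
    rw [← zpow_natCast v, ← zpow_natCast w, Int.toNat_of_nonneg (Int.emod_nonneg _ (by norm_num)),
      Int.toNat_of_nonneg (Int.emod_nonneg _ (by norm_num))]
    have e1 := zpow_mod_orderOf v m
    have e2 := zpow_mod_orderOf w l
    rw [hov] at e1
    rw [how] at e2
    rw [← e1, ← e2]
    rfl
  have hc1 : f v w ≠ 1 := fun e => hv1 (h.nd_mov (hy.pres.pow 2) (zsq_two hy) hv fun x hx => by
    obtain ⟨a, b, -, -, rfl⟩ := hgen x hx
    rw [h.mul_right, h.pow_right, h.pow_right, h.alt, e, one_pow, one_pow, mul_one])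
  obtain ⟨a, b, ha, hb, htw⟩ := hgen (t w) (hinv w hwP)
  have hinvar : f v w ^ a * f v w = 1 := by
    have e := ht v w
    rw [← hw, htw, h.mul_right, h.pow_right, h.pow_right, h.alt, one_pow, mul_one] at e
    calc f v w ^ a * f v w = f v w ^ a * f w v ^ a := by rw [e]
      _ = 1 := by rw [← mul_pow, h.swap, one_pow]
  have ha2 : a = 2 := by
    rcases (show a = 0 ∨ a = 1 ∨ a = 2 by omega) with rfl | rfl | rfl
    · exact absurd (by simpa using hinvar) hc1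
    · exact absurd (eq_one_of_sq (by rw [pow_one, ← pow_two] at hinvar; exact hinvar)) hc1
    · rfl
  rw [ha2] at htw
  have hvinv : v⁻¹ = v ^ 2 := inv_eq_of_mul_eq_one_right (by rw [← pow_succ']; exact hv3)
  rw [← hvinv] at htw
  have htv : t v = w := hw.symm
  rcases (show b = 0 ∨ b = 1 ∨ b = 2 by omega) with rfl | rfl | rfl
  · rw [pow_zero, mul_one] at htw
    simp [pow_succ, htv, htw, map_inv]
  all_goals refine h6 ?_
  · rw [pow_one] at htw
    simp [pow_succ, htv, htw, map_inv, map_mul]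
  · have hwinv : w ^ 2 = w⁻¹ := (inv_eq_of_mul_eq_one_right (by rw [← pow_succ']; exact hw3)).symm
    rw [hwinv] at htw
    simp [pow_succ, htv, htw, map_inv, map_mul]

/-- In dimension two the cyclic subgroup is normal. -/
theorem plane_normal {n q : ℕ} {y : MulAut A} (hy : IsY f n q y) (h : IsPairing f)
    (S : Subgroup (MulAut A)) (hS : IsPGroup 2 S) (hpres : ∀ s ∈ S, Pres f s) (hyS : y ∈ S)
    {w : MulAut A} (hw : w ∈ S) (hwP : ∀ a ∈ mov (y ^ 2 ^ (n - 1)), w a ∈ mov (y ^ 2 ^ (n - 1))) :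
    ∀ a ∈ mov (y ^ 2 ^ (n - 1)), (⁅y, ⁅y, w⁆⁆ : MulAut A) a = a := by
  classical
  haveI : Fact (Nat.Prime 2) := ⟨Nat.prime_two⟩
  obtain ⟨P, hP⟩ : ∃ P, P = mov (y ^ 2 ^ (n - 1)) := ⟨_, rfl⟩
  rw [← hP] at hwP ⊢
  have hyP : ∀ a ∈ P, y a ∈ P := fun a ha => by rw [hP] at ha ⊢; exact hy.apply_mem_mov ha
  obtain ⟨S', hS'⟩ : ∃ S' : Subgroup (MulAut A), ∀ s, s ∈ S' ↔ s ∈ S ∧ ∀ a, s a ∈ P ↔ a ∈ P :=
    ⟨{ carrier := {s | s ∈ S ∧ ∀ a, s a ∈ P ↔ a ∈ P}
       one_mem' := ⟨one_mem S, fun _ => Iff.rfl⟩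
       mul_mem' := fun {s t} hs ht => ⟨mul_mem hs.1 ht.1, fun a => by
         rw [MulAut.mul_apply, hs.2, ht.2]⟩
       inv_mem' := fun {s} hs => ⟨inv_mem hs.1, fun a => by rw [← hs.2]; simp⟩ }, fun _ => Iff.rfl⟩
  have hiff : ∀ t : MulAut A, (∀ a ∈ P, t a ∈ P) → ∀ a, t a ∈ P ↔ a ∈ P := fun t ht a => by
    refine ⟨fun ha => ?_, ht a⟩
    obtain ⟨⟨x, hx⟩, hxa⟩ := (Finite.injective_iff_surjective (f := fun a : P => (⟨t a, ht a a.2⟩ : P))).1
      (fun a b e => Subtype.ext (t.injective (congrArg Subtype.val e))) ⟨t a, ha⟩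
    rwa [← t.injective (congrArg Subtype.val hxa : t x = t a)]
  obtain ⟨φ, hφ⟩ : ∃ φ : S' →* MulAut P, ∀ s a, ((φ s a : P) : A) = (s : MulAut A) a := by
    refine ⟨{ toFun := fun s =>
                { toFun := fun a => ⟨(s : MulAut A) a, (((hS' _).1 s.2).2 a).2 a.2⟩
                  invFun := fun a => ⟨(s : MulAut A)⁻¹ a,
                    (((hS' _).1 (inv_mem s.2)).2 a).2 a.2⟩
                  left_inv := fun a => Subtype.ext (by simp)
                  right_inv := fun a => Subtype.ext (by simp)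
                  map_mul' := fun a b => Subtype.ext (map_mul (s : MulAut A) (a : A) b) }
              map_one' := MulEquiv.ext fun a => Subtype.ext rfl
              map_mul' := fun s t => MulEquiv.ext fun a => Subtype.ext rfl }, fun _ _ => rfl⟩
  have hS'p : IsPGroup 2 S' := hS.to_le fun s hs => ((hS' s).1 hs).1
  have hR : IsPGroup 2 φ.range := hS'p.of_surjective φ.rangeRestrict φ.rangeRestrict_surjective
  letI : MulAction φ.range {a : P // a ≠ 1} :=
    { smul := fun r a => ⟨(r : MulAut P) a, fun e => a.2 ((map_eq_one_iff _ (r : MulAut P).injective).1 e)⟩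
      one_smul := fun a => Subtype.ext rfl
      mul_smul := fun r r' a => Subtype.ext rfl }
  have hfree : ∀ a : {a : P // a ≠ 1}, MulAction.stabilizer φ.range a = ⊥ := by
    intro a
    refine (Subgroup.eq_bot_iff_forall _).2 ?_
    rintro ⟨_, s, rfl⟩ hr
    rw [MulAction.mem_stabilizer_iff] at hr
    have hfix : (s : MulAut A) ((a : P) : A) = ((a : P) : A) := by
      rw [← hφ]; exact congrArg (fun x : {a : P // a ≠ 1} => ((x : P) : A)) hr
    obtain ⟨i, hi⟩ := hS'p s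
    refine Subtype.ext (MulEquiv.ext fun x => Subtype.ext ?_)
    show ((φ s x : P) : A) = (x : A)
    rw [hφ]
    refine hy.semireg h (t := (s : MulAut A)) (hpres _ ((hS' _).1 s.2).1) (fun b hb => ?_) (i := i)
      (by rw [← SubmonoidClass.coe_pow, hi]; rfl) (v := ((a : P) : A)) ?_ ?_ hfix x ?_
    · rw [← hP] at hb ⊢; exact ((((hS' _).1 s.2).2) b).2 hb
    · rw [← hP]; exact (a : P).2
    · exact fun e => a.2 (Subtype.ext e)
    · rw [← hP]; exact x.2
  have hdvd : Nat.card φ.range ∣ q ^ 2 - 1 := by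
    have e := Nat.card_congr (MulAction.selfEquivOrbitsQuotientProd hfree)
    rw [Nat.card_prod] at e
    have hc : Nat.card {a : P // a ≠ 1} = q ^ 2 - 1 := by
      rw [Nat.card_eq_fintype_card, Fintype.card_subtype_compl, Fintype.card_subtype_eq,
        ← Nat.card_eq_fintype_card, hP, hy.card]
    exact ⟨_, (hc.symm.trans e).trans (mul_comm _ _)⟩
  have hle : Nat.card φ.range ≤ 2 ^ (n + 1) := by
    obtain ⟨j, hj⟩ := hR.exists_card_eq
    rw [hj] at hdvd ⊢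
    refine Nat.le_of_dvd (by positivity) ?_
    have hn := hy.two_le
    have e : q ^ 2 - 1 = 2 ^ (n + 1) * (2 ^ (n - 1) - 1) := by
      have hq := hy.hq
      obtain ⟨m, rfl⟩ : ∃ m, n = m + 1 := ⟨n - 1, by omega⟩
      obtain ⟨d, hd⟩ : ∃ d, 2 ^ m = d + 1 := ⟨2 ^ m - 1, (Nat.sub_add_cancel Nat.one_le_two_pow).symm⟩
      rw [pow_succ, hd] at hq
      obtain rfl : q = 2 * d + 1 := by omega
      rw [pow_two, pow_succ, pow_succ, Nat.add_sub_cancel, hd, Nat.add_sub_cancel]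
      rw [show (2 * d + 1) * (2 * d + 1) = (d + 1) * 2 * 2 * d + 1 by ring, Nat.add_sub_cancel]
    rw [e] at hdvd
    refine (Nat.Coprime.dvd_mul_right ?_).1 hdvd
    refine Nat.Coprime.pow_left j (Nat.coprime_two_left.2 ?_)
    obtain ⟨m, hm⟩ : ∃ m, n - 1 = m + 1 := ⟨n - 2, by omega⟩
    rw [hm, pow_succ]
    exact ⟨2 ^ m - 1, by have : 1 ≤ 2 ^ m := Nat.one_le_two_pow; omega⟩
  obtain ⟨y', hy'⟩ : ∃ y' : S', (y' : MulAut A) = y := ⟨⟨y, (hS' _).2 ⟨hyS, hiff y hyP⟩⟩, rfl⟩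
  obtain ⟨w', hw'⟩ : ∃ w' : S', (w' : MulAut A) = w := ⟨⟨w, (hS' _).2 ⟨hw, hiff w hwP⟩⟩, rfl⟩
  obtain ⟨Y, hY⟩ : ∃ Y : φ.range, Y = φ.rangeRestrict y' := ⟨_, rfl⟩
  have hord : orderOf Y = 2 ^ n := by
    have hn := hy.two_le
    obtain ⟨m, hm⟩ : ∃ m, n = m + 1 := ⟨n - 1, by omega⟩
    subst hm
    refine orderOf_eq_prime_pow (fun e => hy.zne h ?_) ?_
    · rw [Nat.add_sub_cancel]
      refine MulEquiv.ext fun a => ?_
      obtain ⟨c, p, hc, hp, rfl⟩ := exists_split h.odd _ hy.zsq a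
      rw [Nat.add_sub_cancel] at hc hp
      have hpP : p ∈ P := by rw [hP, Nat.add_sub_cancel]; exact hp
      have hp' : (y ^ 2 ^ m) p = p := by
        have := congrArg (fun r : φ.range => (((r : MulAut P) ⟨p, hpP⟩ : P) : A)) e
        simp only [hY, SubmonoidClass.coe_pow, MonoidHom.coe_rangeRestrict, ← map_pow, hφ, hy'] at this
        exact this
      rw [map_mul, hc, hp', MulAut.one_apply]
    · rw [hY, ← map_pow, show y' ^ 2 ^ (m + 1) = 1 from Subtype.ext (by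
        rw [SubmonoidClass.coe_pow, hy', hy.pow]; rfl), map_one]
  haveI : (Subgroup.zpowers Y).Normal := by
    have h1 := (Subgroup.zpowers Y).card_mul_index
    rw [Nat.card_zpowers, hord] at h1
    have h2 : (Subgroup.zpowers Y).index ≤ 2 := by
      have h3 : 2 ^ n * (Subgroup.zpowers Y).index ≤ 2 ^ n * 2 := by rw [h1, ← pow_succ]; exact hle
      exact Nat.le_of_mul_le_mul_left h3 (by positivity)
    rcases (show (Subgroup.zpowers Y).index = 1 ∨ (Subgroup.zpowers Y).index = 2 by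
      have := (Subgroup.zpowers Y).index_ne_zero_of_finite; omega) with e | e
    · rw [Subgroup.index_eq_one.1 e]; infer_instance
    · exact Subgroup.normal_of_index_eq_two e
  have hmem : ⁅Y, φ.rangeRestrict w'⁆ ∈ Subgroup.zpowers Y := by
    rw [commutatorElement_def, mul_assoc, mul_assoc]
    refine mul_mem (Subgroup.mem_zpowers Y) ?_
    rw [← mul_assoc]
    exact (inferInstance : (Subgroup.zpowers Y).Normal).conj_mem _ (inv_mem (Subgroup.mem_zpowers Y)) _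
  obtain ⟨i, hi⟩ := Subgroup.mem_zpowers_iff.1 hmem
  have hone : ⁅Y, ⁅Y, φ.rangeRestrict w'⁆⁆ = 1 := by
    rw [← hi, commutatorElement_eq_one_iff_commute]
    exact (Commute.refl Y).zpow_right i
  intro a ha
  rw [hY, ← map_commutatorElement, ← map_commutatorElement] at hone
  have := congrArg (fun r : φ.range => (((r : MulAut P) ⟨a, ha⟩ : P) : A)) hone
  simp only [MonoidHom.coe_rangeRestrict, hφ, commutatorElement_def, Subgroup.coe_mul, InvMemClass.coe_inv,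
    hy', hw'] at this
  rw [commutatorElement_def, commutatorElement_def]
  exact this

variable {S I N : Subgroup (MulAut A)} {n q : ℕ} {y b : MulAut A}

/-- The involution centralises modulo squares. -/
theorem step_one (hy : IsY f n q y) (h : IsPairing f) (hS : IsPGroup 2 S) (hpres : ∀ s ∈ S, Pres f s)
    (hyS : y ∈ S) (hIS : I ≤ S) (hyI : y ∈ Subgroup.normalizer (I : Set (MulAut A)))
    (hsq : ∀ i ∈ I, i * i ∈ N) (hb : b ∈ I) : ⁅y ^ 2 ^ (n - 1), b⁆ ∈ N := by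
  have hn := hy.two_le
  have hbS := hIS hb
  have hbp := hpres b hbS
  obtain ⟨y', hy'⟩ : ∃ y', y' = b * y * b⁻¹ := ⟨_, rfl⟩
  have hy'Y : IsY f n q y' := hy' ▸ hy.conj hbp
  have e1 : ⁅y ^ 2 ^ (n - 1), b⁆ = y ^ 2 ^ (n - 1) * (y' ^ 2 ^ (n - 1))⁻¹ := by
    rw [hy', conj_pow, commutatorElement_def]; group
  rw [e1]
  rcases hy.eq_or_perp hy'Y h S hS hpres hyS (hy' ▸ mul_mem (mul_mem hbS hyS) (inv_mem hbS)) with e | e
  · rw [e, mul_inv_cancel]
    have := hsq 1 (one_mem I)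
    rwa [one_mul] at this
  · rw [← inv_pow, ← ((hy.commute_of_perp hy'Y h e).inv_right).mul_pow]
    have hu : y * y'⁻¹ ∈ I := by
      rw [hy', show y * (b * y * b⁻¹)⁻¹ = (y * b * y⁻¹) * b⁻¹ by group]
      exact mul_mem ((Subgroup.mem_normalizer_iff.1 hyI b).1 hb) (inv_mem hb)
    obtain ⟨m, hm⟩ : ∃ m, n - 1 = m + 1 := ⟨n - 2, by omega⟩
    rw [hm, pow_succ, pow_mul, pow_two]
    exact hsq _ (pow_mem hu _)

/-- The value, for `n ≥ 3`. -/
theorem value_high (hy : IsY f n q y) (hn : 3 ≤ n) (h : IsPairing f) (hS : IsPGroup 2 S)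
    (hpres : ∀ s ∈ S, Pres f s) (hyS : y ∈ S) (hIS : I ≤ S) (hyI : y ∈ Subgroup.normalizer (I : Set (MulAut A)))
    (hsq : ∀ i ∈ I, i * i ∈ N) (hyN : ∀ x ∈ N, y * x * y⁻¹ ∈ N) (hIN : I ≤ Subgroup.normalizer (N : Set (MulAut A)))
    (hb : b ∈ I) : (b * y) ^ 2 ^ (n - 1) * (y ^ 2 ^ (n - 1))⁻¹ ∈ N := by
  have hbS := hIS hb
  have hbp := hpres b hbS
  have htriple : ⁅y, ⁅y, ⁅y, b⁆⁆⁆ = 1 := by
    obtain ⟨y', hy'⟩ : ∃ y', y' = b * y * b⁻¹ := ⟨_, rfl⟩
    have hy'Y : IsY f n q y' := hy' ▸ hy.conj hbp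
    have hy'S : y' ∈ S := hy' ▸ mul_mem (mul_mem hbS hyS) (inv_mem hbS)
    have e1 : ⁅y, b⁆ = y * y'⁻¹ := by rw [hy', commutatorElement_def]; group
    rw [e1]
    rcases hy.eq_or_perp hy'Y h S hS hpres hyS hy'S with e | e
    · rw [commutatorElement_eq_one_iff_commute]
      have hfix : ∀ a, (y ^ 2 ^ (n - 1)) a = a → (⁅y, y * y'⁻¹⁆ : MulAut A) a = a := by
        intro a ha
        have h1 : y a = a := hy.fix a ha
        have h2 : y' a = a := hy'Y.fix a (e.symm ▸ ha)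
        have h3 : y⁻¹ a = a := y.injective (by simp [h1])
        have h4 : y'⁻¹ a = a := y'.injective (by simp [h2])
        simp [commutatorElement_def, mul_inv_rev, MulAut.mul_apply, h1, h2, h3, h4]
      have hP : ∀ a ∈ mov (y ^ 2 ^ (n - 1)), (y * y'⁻¹) a ∈ mov (y ^ 2 ^ (n - 1)) := by
        intro a ha
        rw [MulAut.mul_apply]
        refine hy.apply_mem_mov ?_
        rw [← e] at ha ⊢
        rw [mem_mov] at ha ⊢
        rw [← MulAut.mul_apply, ((Commute.pow_self y' _).inv_right).eq, MulAut.mul_apply, ha, map_inv]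
      have hone := plane_normal hy h S hS hpres hyS (mul_mem hyS (inv_mem hy'S)) hP
      rw [← commutatorElement_eq_one_iff_commute]
      refine MulEquiv.ext fun a => ?_
      obtain ⟨c, p, hc, hp, rfl⟩ := exists_split h.odd _ hy.zsq a
      have h5 := hfix c hc
      have h6 : y c = c := hy.fix c hc
      have h7 : y⁻¹ c = c := y.injective (by simp [h6])
      have h8 : (⁅y, y * y'⁻¹⁆⁻¹ : MulAut A) c = c := by
        refine (⁅y, y * y'⁻¹⁆ : MulAut A).injective ?_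
        rw [← MulAut.mul_apply, mul_inv_cancel, MulAut.one_apply, h5]
      rw [MulAut.one_apply, map_mul, hone p hp]
      congr 1
      rw [commutatorElement_def y ⁅y, y * y'⁻¹⁆, MulAut.mul_apply, MulAut.mul_apply, MulAut.mul_apply, h8, h7,
        h5, h6]
    · have hc : Commute y (y * y'⁻¹) := (Commute.refl y).mul_right (hy.commute_of_perp hy'Y h e).inv_right
      rw [commutatorElement_eq_one_iff_commute.2 hc, commutatorElement_one_right]
  have hb' : ∀ i : ℕ, y ^ i * b * (y ^ i)⁻¹ ∈ I := fun i =>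
    (Subgroup.mem_normalizer_iff.1 (pow_mem hyI i) b).1 hb
  obtain ⟨N', hN'⟩ : ∃ N' : Subgroup I, N' = N.subgroupOf I := ⟨_, rfl⟩
  haveI : N'.Normal := hN' ▸ Subgroup.normal_subgroupOf_of_le_normalizer hIN
  obtain ⟨β, hβ⟩ : ∃ β : ℕ → I ⧸ N', ∀ i, β i = QuotientGroup.mk ⟨y ^ i * b * (y ^ i)⁻¹, hb' i⟩ :=
    ⟨_, fun _ => rfl⟩
  have hπ : ∀ x : I, (x : I ⧸ N') = 1 ↔ (x : MulAut A) ∈ N := fun x => by
    rw [QuotientGroup.eq_one_iff, hN', Subgroup.mem_subgroupOf]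
  have htwo : ∀ x : I ⧸ N', x * x = 1 := fun x => by
    obtain ⟨x, rfl⟩ := QuotientGroup.mk'_surjective N' x
    rw [QuotientGroup.mk'_apply, ← QuotientGroup.mk_mul, hπ]
    exact hsq _ x.2
  have hinv : ∀ x : I ⧸ N', x⁻¹ = x := fun x => inv_eq_of_mul_eq_one_right (htwo x)
  have hcomm : ∀ x z : I ⧸ N', x * z = z * x := fun x z => by
    rw [← hinv (x * z), mul_inv_rev, hinv, hinv]
  letI : CommGroup (I ⧸ N') := { (inferInstance : Group (I ⧸ N')) with mul_comm := hcomm }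
  have hself : ∀ x z : I ⧸ N', x * (x * z) = z := fun x z => by rw [← mul_assoc, htwo, one_mul]
  have hfour : β 0 * β 1 * β 2 * β 3 = 1 := by
    have e : (((⟨y ^ 3 * b * (y ^ 3)⁻¹, hb' 3⟩ : I) * ⟨y ^ 2 * b * (y ^ 2)⁻¹, hb' 2⟩⁻¹ *
        (⟨y ^ 2 * b * (y ^ 2)⁻¹, hb' 2⟩ * ⟨y ^ 1 * b * (y ^ 1)⁻¹, hb' 1⟩⁻¹)⁻¹ *
        ((⟨y ^ 2 * b * (y ^ 2)⁻¹, hb' 2⟩ * ⟨y ^ 1 * b * (y ^ 1)⁻¹, hb' 1⟩⁻¹) *
          (⟨y ^ 1 * b * (y ^ 1)⁻¹, hb' 1⟩ * ⟨y ^ 0 * b * (y ^ 0)⁻¹, hb' 0⟩⁻¹)⁻¹)⁻¹ : I) : MulAut A) =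
        ⁅y, ⁅y, ⁅y, b⁆⁆⁆ := by
      simp only [commutatorElement_def, Subgroup.coe_mul, InvMemClass.coe_inv, pow_succ, pow_zero]
      group
    rw [htriple] at e
    have e2 := (hπ _).2 (e.symm ▸ one_mem N)
    simp only [QuotientGroup.mk_mul, QuotientGroup.mk_inv, ← hβ, hinv] at e2
    rw [← e2]
    simp only [mul_assoc, mul_comm, mul_left_comm, hself]
  have h4 : (b * y) ^ 4 * (y ^ 4)⁻¹ ∈ N := by
    have e : (((⟨y ^ 0 * b * (y ^ 0)⁻¹, hb' 0⟩ : I) * ⟨y ^ 1 * b * (y ^ 1)⁻¹, hb' 1⟩ *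
        ⟨y ^ 2 * b * (y ^ 2)⁻¹, hb' 2⟩ * ⟨y ^ 3 * b * (y ^ 3)⁻¹, hb' 3⟩ : I) : MulAut A) =
        (b * y) ^ 4 * (y ^ 4)⁻¹ := by
      simp only [Subgroup.coe_mul, pow_succ, pow_zero]
      group
    rw [← e, ← hπ]
    simp only [QuotientGroup.mk_mul, ← hβ, hfour]
  have hyN4 : ∀ x ∈ N, y ^ 4 * x * (y ^ 4)⁻¹ ∈ N := fun x hx => by
    have := hyN _ (hyN _ (hyN _ (hyN x hx)))
    rw [show y ^ 4 = y * y * y * y by simp [pow_succ]]
    convert this using 1
    group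
  obtain ⟨m, hm⟩ : ∃ m, 2 ^ (n - 1) = 4 * m := ⟨2 ^ (n - 3), by
    rw [show (4 : ℕ) = 2 ^ 2 from rfl, ← pow_add]; congr 1; omega⟩
  rw [hm]
  clear hm
  induction m with
  | zero => simp
  | succ m ih =>
    have e : (b * y) ^ (4 * (m + 1)) * (y ^ (4 * (m + 1)))⁻¹ =
        (b * y) ^ 4 * (y ^ 4)⁻¹ * (y ^ 4 * ((b * y) ^ (4 * m) * (y ^ (4 * m))⁻¹) * (y ^ 4)⁻¹) := by
      rw [show 4 * (m + 1) = 4 + 4 * m by ring, pow_add, pow_add, mul_inv_rev,
        show (y ^ (4 * m))⁻¹ * (y ^ 4)⁻¹ = (y ^ (4 * m))⁻¹ * (y ^ 4)⁻¹ from rfl]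
      group
    rw [e]
    exact mul_mem h4 (hyN4 _ ih)

/-- A plane is not moved by `b` if some conjugate involution does not commute with its involution. -/
theorem exclude (hy : IsY f 2 q y) (h : IsPairing f) (hS : IsPGroup 2 S)
    (hpres : ∀ s ∈ S, Pres f s) (hyS : y ∈ S) (hIS : I ≤ S) (hyI : y ∈ Subgroup.normalizer (I : Set (MulAut A)))
    (hb : b ∈ I) (hb4 : (b * y) ^ 4 = 1) {y₀ : MulAut A} (hy₀ : IsY f 2 q y₀)
    (hne : ¬ Commute (y ^ 2) (y₀ ^ 2)) (hz₀S : y₀ ^ 2 ∈ S) {S₀ : Subgroup (MulAut A)} (hS₀ : IsPGroup 2 S₀)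
    (hpres₀ : ∀ s ∈ S₀, Pres f s) (hy₀S : y₀ ∈ S₀) (hIS₀ : I ≤ S₀)
    (hy₀I : y₀ ∈ Subgroup.normalizer (I : Set (MulAut A)))
    (hperp : Perp f (y ^ 2) ((b * y * b⁻¹) ^ 2)) : False := by
  classical
  have hq3 : q = 3 := by have := hy.hq; omega
  have e21 : (2 : ℕ) ^ (2 - 1) = 2 := by norm_num
  obtain ⟨z₀, hz₀⟩ : ∃ z₀, z₀ = y₀ ^ 2 := ⟨_, rfl⟩
  obtain ⟨z, hz⟩ : ∃ z, z = y ^ 2 := ⟨_, rfl⟩
  obtain ⟨yR, hyR⟩ : ∃ yR, yR = z₀ * y * z₀⁻¹ := ⟨_, rfl⟩
  obtain ⟨zR, hzR⟩ : ∃ zR, zR = yR ^ 2 := ⟨_, rfl⟩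
  have hbS := hIS hb
  have hbp := hpres b hbS
  have hz₀p : Pres f z₀ := hz₀ ▸ hy₀.pres.pow 2
  have hzp : Pres f z := hz ▸ hy.pres.pow 2
  have hyRY : IsY f 2 q yR := hyR ▸ hy.conj hz₀p
  have hzRp : Pres f zR := hzR ▸ hyRY.pres.pow 2
  have hz2 : z * z = 1 := hz ▸ zsq_two hy
  have hz₀2 : z₀ * z₀ = 1 := hz₀ ▸ zsq_two hy₀
  have hzR2 : zR * zR = 1 := hzR ▸ zsq_two hyRY
  have hz₀i : ∀ a, z₀ (z₀ a) = a := fun a => by rw [← MulAut.mul_apply, hz₀2, MulAut.one_apply]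
  have hyRS : yR ∈ S := hyR ▸ mul_mem (mul_mem (hz₀ ▸ hz₀S) hyS) (inv_mem (hz₀ ▸ hz₀S))
  have hPR : Perp f z zR := by
    rcases hy.eq_or_perp hyRY h S hS hpres hyS hyRS with e | e
    · rw [e21, ← hz, hyR, conj_pow, ← hz, mul_inv_eq_iff_eq_mul] at e
      exact absurd (show z * z₀ = z₀ * z from e.symm) (by rw [hz, hz₀]; exact hne)
    · rwa [e21, ← hz, ← hzR] at e
  -- conjugating by elements
  have hmap : ∀ (g σ : MulAut A) (a : A), a ∈ mov (σ ^ 2) → g a ∈ mov ((g * σ * g⁻¹) ^ 2) :=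
    fun g σ a ha => (mem_mov_conj 2).2 ha
  have hz₀R : ∀ a ∈ mov z, z₀ a ∈ mov zR := fun a ha => by
    rw [hzR, hyR]; exact hmap z₀ y a (hz ▸ ha)
  have hz₀P : ∀ a ∈ mov zR, z₀ a ∈ mov z := fun a ha => by
    rw [hzR, hyR] at ha
    obtain ⟨x, rfl⟩ := z₀.surjective a
    rw [hz₀i]
    exact hz ▸ (mem_mov_conj 2).1 ha
  have hsep : ∀ p ∈ mov z, ∀ r ∈ mov zR, (∀ x ∈ mov z, f (p * r) x = 1) →
      (∀ x ∈ mov zR, f (p * r) x = 1) → p = 1 ∧ r = 1 := fun p hp r hr h1 h2 =>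
    ⟨h.nd_mov hzp hz2 hp fun x hx => by
        have e := h1 x hx
        rwa [h.mul_left, h.symm_one (hPR x hx r hr), mul_one] at e,
      h.nd_mov hzRp hzR2 hr fun x hx => by
        have e := h2 x hx
        rwa [h.mul_left, hPR p hp x hx, one_mul] at e⟩
  have hdiv : ∀ a ∈ mov z, a * (z₀ a)⁻¹ ∈ mov z₀ := fun a _ => by
    rw [mem_mov, map_mul, map_inv, hz₀i, mul_inv, inv_inv, mul_comm]
  have hP0 : ∀ x ∈ mov z₀, ∃ a ∈ mov z, x = a * (z₀ a)⁻¹ := by
    let φ : mov z → mov z₀ := fun a => ⟨(a : A) * (z₀ a)⁻¹, hdiv a a.2⟩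
    have hφ : Function.Bijective φ := by
      refine (Nat.bijective_iff_injective_and_card φ).2 ⟨fun a c e => Subtype.ext ?_, by
        have h1 := hy.card
        have h2 := hy₀.card
        rw [e21, ← hz] at h1
        rw [e21, ← hz₀] at h2
        rw [h1, h2]⟩
      have e' : (a : A) / z₀ a = (c : A) / z₀ c := by
        rw [div_eq_mul_inv, div_eq_mul_inv]; exact congrArg Subtype.val e
      have h1 : (a : A) * (c : A)⁻¹ = z₀ ((a : A) * (c : A)⁻¹) := by
        rw [map_mul, map_inv, ← div_eq_mul_inv, ← div_eq_mul_inv, div_eq_div_iff_mul_eq_mul]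
        rw [div_eq_div_iff_mul_eq_mul] at e'
        rw [e', mul_comm]
      have hm := mul_mem a.2 (inv_mem c.2)
      exact mul_inv_eq_one.1 (hPR.not_mem h hzp hz2 hm (h1 ▸ hz₀R _ hm))
    intro x hx
    obtain ⟨⟨a, ha⟩, hax⟩ := hφ.2 ⟨x, hx⟩
    exact ⟨a, ha, (congrArg Subtype.val hax).symm⟩
  obtain ⟨a₁, ha₁, ha₁1⟩ : ∃ a ∈ mov z, a ≠ 1 := by
    by_contra hc
    push Not at hc
    have h0 : mov z = ⊥ := (Subgroup.eq_bot_iff_forall _).2 hc
    have hcard := hy.card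
    rw [e21, ← hz, h0, Subgroup.card_bot, hq3] at hcard
    omega
  obtain ⟨w, hw⟩ : ∃ w, w = (b * y * b⁻¹) ^ 2 := ⟨_, rfl⟩
  rw [← hz, ← hw] at hperp
  obtain ⟨wR, hwR⟩ : ∃ wR, wR = (b * yR * b⁻¹) ^ 2 := ⟨_, rfl⟩
  obtain ⟨w₀, hw₀⟩ : ∃ w₀, w₀ = (b * y₀ * b⁻¹) ^ 2 := ⟨_, rfl⟩
  have hbP : ∀ a ∈ mov z, b a ∈ mov w := fun a ha => hw ▸ hmap b y a (hz ▸ ha)
  have hbR : ∀ a ∈ mov z, b (z₀ a) ∈ mov wR := fun a ha => hwR ▸ hmap b yR _ (hzR ▸ hz₀R a ha)
  have hb0 : ∀ a ∈ mov z, b a * (b (z₀ a))⁻¹ ∈ mov w₀ := fun a ha => by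
    rw [← map_inv, ← map_mul, hw₀]
    exact hmap b y₀ _ (hz₀ ▸ hdiv a ha)
  have hw0S : b * y₀ * b⁻¹ ∈ S₀ := mul_mem (mul_mem (hIS₀ hb) hy₀S) (inv_mem (hIS₀ hb))
  have hw0eq : w₀ = z₀ ∨ Perp f z₀ w₀ := by
    have := hy₀.eq_or_perp (hy₀.conj hbp) h S₀ hS₀ hpres₀ hy₀S hw0S
    rwa [e21, ← hz₀, ← hw₀] at this
  -- one component in the planes, the other orthogonal to both
  have hK : ∀ a ∈ mov z, ∀ x x' : A, b a * (b (z₀ a))⁻¹ = x * x' → (x ∈ mov z ∨ x ∈ mov zR) →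
      (∀ c ∈ mov z, f x' c = 1) → (∀ c ∈ mov zR, f x' c = 1) → x = 1 := by
    intro a ha x x' he hx h1 h2
    rcases hw0eq with e | e
    · obtain ⟨c, hc, hce⟩ := hP0 _ (e ▸ hb0 a ha)
      rw [he] at hce
      have hx' : x' = c * (z₀ c)⁻¹ * x⁻¹ := by rw [← hce, mul_comm x, mul_inv_cancel_right]
      rcases hx with hx | hx
      · have e2 : x' = (c * x⁻¹) * (z₀ c)⁻¹ := by rw [hx', mul_right_comm]
        rw [e2] at h1 h2
        obtain ⟨e3, e4⟩ := hsep _ (mul_mem hc (inv_mem hx)) _ (inv_mem (hz₀R c hc)) h1 h2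
        rw [inv_eq_one, map_eq_one_iff _ z₀.injective] at e4
        rwa [e4, one_mul, inv_eq_one] at e3
      · have e2 : x' = c * ((z₀ c)⁻¹ * x⁻¹) := by rw [hx', mul_assoc]
        rw [e2] at h1 h2
        obtain ⟨e3, e4⟩ := hsep _ hc _ (mul_mem (inv_mem (hz₀R c hc)) (inv_mem hx)) h1 h2
        rwa [e3, map_one, inv_one, one_mul, inv_eq_one] at e4
    · rcases hx with hx | hx
      · refine h.nd_mov hzp hz2 hx fun c hc => ?_
        have e2 := e.symm h _ (he ▸ hb0 a ha) _ (hdiv c hc)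
        rw [h.mul_left, h.mul_right, h.mul_right, h1 c hc, h.inv_right, h.inv_right,
          h2 _ (hz₀R c hc), hPR x hx _ (hz₀R c hc), inv_one, mul_one, mul_one, mul_one] at e2
        exact e2
      · refine h.nd_mov hzRp hzR2 hx fun c hc => ?_
        have hc' := hz₀P c hc
        have e2 := e.symm h _ (he ▸ hb0 a ha) _ (hdiv _ hc')
        rw [hz₀i, h.mul_left, h.mul_right, h.mul_right, h1 _ hc', h.inv_right, h.inv_right, h2 c hc,
          h.symm_one (hPR _ hc' x hx), inv_one, mul_one, mul_one, one_mul, inv_eq_one] at e2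
        exact e2
  have hwS : b * y * b⁻¹ ∈ S := mul_mem (mul_mem hbS hyS) (inv_mem hbS)
  have hwRS : b * yR * b⁻¹ ∈ S := mul_mem (mul_mem hbS hyRS) (inv_mem hbS)
  have hwRw : wR ≠ w := by
    intro e
    rw [hwR, hw, conj_pow, conj_pow, mul_left_inj, mul_right_inj, ← hzR, ← hz] at e
    refine ha₁1 (hPR.not_mem h hzp hz2 ha₁ ?_)
    rw [e]; exact ha₁
  have c1 : w = zR ∨ Perp f zR w := by
    have := hyRY.eq_or_perp (hy.conj hbp) h S hS hpres hyRS hwS
    rwa [e21, ← hzR, ← hw] at this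
  have c2 : wR = zR ∨ Perp f zR wR := by
    have := hyRY.eq_or_perp (hyRY.conj hbp) h S hS hpres hyRS hwRS
    rwa [e21, ← hzR, ← hwR] at this
  have c3 : wR = z ∨ Perp f z wR := by
    have := hy.eq_or_perp (hyRY.conj hbp) h S hS hpres hyS hwRS
    rwa [e21, ← hz, ← hwR] at this
  rcases c1 with hbPR | hbPperp
  · -- `b` maps the plane to the second one
    have hR₁ : ∀ a ∈ mov z, b a ∈ mov zR := fun a ha => hbPR ▸ hbP a ha
    rcases c3 with hbRP | hbRperp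
    swap
    · rcases c2 with e | hbRperp'
      · exact hwRw (e.trans hbPR.symm)
      · exact ha₁1 ((map_eq_one_iff _ b.injective).1 (hK a₁ ha₁ (b a₁) (b (z₀ a₁))⁻¹ rfl
          (Or.inr (hR₁ a₁ ha₁)) (fun c hc => h.symm_one (hbRperp c hc _ (inv_mem (hbR a₁ ha₁))))
          (fun c hc => h.symm_one (hbRperp' c hc _ (inv_mem (hbR a₁ ha₁))))))
    have hP₁ : ∀ a ∈ mov z, b (z₀ a) ∈ mov z := fun a ha => hbRP ▸ hbR a ha
    obtain ⟨t, ht⟩ : ∃ t, t = z₀ * b := ⟨_, rfl⟩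
    have htS : t ∈ S := ht ▸ mul_mem (hz₀ ▸ hz₀S) hbS
    have htP : ∀ a ∈ mov z, t a ∈ mov z := fun a ha => by
      rw [ht, MulAut.mul_apply]; exact hz₀P _ (hR₁ a ha)
    have hsgn : (∀ a ∈ mov z, b (z₀ a) = t a) ∨ ∀ a ∈ mov z, b (z₀ a) = (t a)⁻¹ := by
      rcases hw0eq with e | e
      · refine Or.inl fun a ha => ?_
        obtain ⟨c, hc, hce⟩ := hP0 _ (e ▸ hb0 a ha)
        have e2 : b a * z₀ c = c * b (z₀ a) := div_eq_div_iff_mul_eq_mul.1 (by
          simpa [div_eq_mul_inv] using hce)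
        have e3 : b a * z₀ c = 1 := hPR.not_mem h hzp hz2 (e2 ▸ mul_mem hc (hP₁ a ha))
          (mul_mem (hR₁ a ha) (hz₀R c hc))
        have e4 : c * b (z₀ a) = 1 := e2 ▸ e3
        rw [eq_inv_of_mul_eq_one_right e4, ht, MulAut.mul_apply, eq_inv_of_mul_eq_one_left e3, map_inv,
          hz₀i]
      · refine Or.inr fun a ha => eq_inv_of_mul_eq_one_right
          (h.nd_mov hzp hz2 (mul_mem (htP a ha) (hP₁ a ha)) fun c hc => ?_)
        have e2 := e.symm h _ (hb0 a ha) _ (hdiv c hc)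
        rw [h.mul_left, h.mul_right, h.mul_right, h.inv_left, h.inv_left, h.inv_right, h.inv_right,
          h.symm_one (hPR c hc _ (hR₁ a ha)), hPR _ (hP₁ a ha) _ (hz₀R c hc), one_mul, inv_one, inv_one,
          mul_one, ← mul_inv, inv_eq_one] at e2
        rw [h.mul_left, ht, MulAut.mul_apply]
        conv_lhs => rw [← hz₀p, hz₀i]
        exact e2
    obtain ⟨i, hi⟩ := hS ⟨t, htS⟩
    have ht4 : ∀ a ∈ mov z, (t ^ 4) a = a := by
      rw [hz]
      exact plane_four (hq3 ▸ hy) h (hpres t htS) (congrArg Subtype.val hi) (hz ▸ htP)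
    have ht2 : (∀ a ∈ mov z, (t ^ 2) a = a) ∨ ∀ a ∈ mov z, (t ^ 2) a = a⁻¹ := by
      have := hy.invol_plane h (t := t ^ 2) ((hpres t htS).pow 2) (by
          rw [e21, ← hz]
          intro a ha
          rw [pow_two, MulAut.mul_apply]; exact htP _ (htP a ha)) (by
          rw [e21, ← hz]
          intro a ha
          rw [← MulAut.mul_apply, ← pow_add]; exact ht4 a ha)
      rwa [e21, ← hz] at this
    have hbb : (∀ a ∈ mov z, b (b a) = a) ∨ ∀ a ∈ mov z, b (b a) = a⁻¹ := by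
      have hval : ∀ a, b (b a) = b (z₀ (t a)) := fun a => by rw [ht, MulAut.mul_apply, hz₀i]
      rcases hsgn with e | e <;> rcases ht2 with e2 | e2
      · exact Or.inl fun a ha => by
          rw [hval, e _ (htP a ha), ← MulAut.mul_apply, ← pow_two, e2 a ha]
      · exact Or.inr fun a ha => by
          rw [hval, e _ (htP a ha), ← MulAut.mul_apply, ← pow_two, e2 a ha]
      · exact Or.inr fun a ha => by
          rw [hval, e _ (htP a ha), ← MulAut.mul_apply, ← pow_two, e2 a ha]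
      · exact Or.inl fun a ha => by
          rw [hval, e _ (htP a ha), ← MulAut.mul_apply, ← pow_two, e2 a ha, inv_inv]
    have hyP : ∀ a ∈ mov z, y a ∈ mov z := fun a ha => by
      have := hy.apply_mem_mov (a := a) (by rw [e21, ← hz]; exact ha)
      rwa [e21, ← hz] at this
    have hby : ∀ a ∈ mov z, (b * y) ((b * y) a) = b (b (y a)) := fun a ha => by
      rw [MulAut.mul_apply, MulAut.mul_apply]
      congr 1
      refine hy.fix_orth h fun c hc => ?_
      rw [e21, ← hz] at hc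
      exact h.symm_one (hPR c hc _ (hR₁ _ (hyP a ha)))
    have hy2 : y (y a₁) = a₁⁻¹ := by
      rw [← MulAut.mul_apply, ← pow_two, ← hz]; exact ha₁
    have h4 : (b * y) ((b * y) ((b * y) ((b * y) a₁))) = a₁ := by
      rw [← MulAut.mul_apply, ← MulAut.mul_apply, ← MulAut.mul_apply]
      rw [show (b * y) * (b * y) * (b * y) * (b * y) = (b * y) ^ 4 by simp [pow_succ], hb4, MulAut.one_apply]
    refine ha₁1 (eq_one_of_pow_two h.odd ?_)
    rw [pow_two]
    nth_rewrite 1 [← h4]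
    rw [hby a₁ ha₁]
    rcases hbb with e | e
    · rw [e _ (hyP _ ha₁), hby _ (hyP _ ha₁), e _ (hyP _ (hyP _ ha₁)), hy2, inv_mul_cancel]
    · rw [e _ (hyP _ ha₁), map_inv, map_inv, hby _ (hyP _ ha₁), e _ (hyP _ (hyP _ ha₁)), hy2, inv_inv,
        inv_mul_cancel]
  -- `b` maps the plane away from both
  have hbRboth : Perp f z wR ∧ Perp f zR wR := by
    by_contra hc
    have hx : b (z₀ a₁) ∈ mov z ∨ b (z₀ a₁) ∈ mov zR := by
      rcases c3 with e | e
      · exact Or.inl (e ▸ hbR a₁ ha₁)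
      · exact Or.inr ((c2.resolve_right fun e' => hc ⟨e, e'⟩) ▸ hbR a₁ ha₁)
    have := hK a₁ ha₁ (b (z₀ a₁))⁻¹ (b a₁) (mul_comm _ _) (hx.imp inv_mem inv_mem)
      (fun c hc => h.symm_one (hperp c hc _ (hbP a₁ ha₁)))
      (fun c hc => h.symm_one (hbPperp c hc _ (hbP a₁ ha₁)))
    rw [inv_eq_one, map_eq_one_iff _ b.injective, map_eq_one_iff _ z₀.injective] at this
    exact ha₁1 this
  obtain ⟨hbR1, hbR2⟩ := hbRboth
  have hw₀mem : ∀ x ∈ mov w₀, ∃ a ∈ mov z, x = b a * (b (z₀ a))⁻¹ := fun x hx => by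
    obtain ⟨x, rfl⟩ := b.surjective x
    rw [hw₀] at hx
    obtain ⟨a, ha, rfl⟩ := hP0 x (hz₀ ▸ (mem_mov_conj 2).1 hx)
    exact ⟨a, ha, by rw [map_mul, map_inv]⟩
  have p10 : Perp f z w₀ := fun c hc x hx => by
    obtain ⟨a, ha, rfl⟩ := hw₀mem x hx
    rw [h.mul_right, h.inv_right, hperp c hc _ (hbP a ha), hbR1 c hc _ (hbR a ha), inv_one, mul_one]
  have pR0 : Perp f zR w₀ := fun c hc x hx => by
    obtain ⟨a, ha, rfl⟩ := hw₀mem x hx
    rw [h.mul_right, h.inv_right, hbPperp c hc _ (hbP a ha), hbR2 c hc _ (hbR a ha), inv_one, mul_one]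
  have p01 : Perp f z₀ w := fun x hx c hc => by
    obtain ⟨a, ha, rfl⟩ := hP0 x hx
    rw [h.mul_left, h.inv_left, hperp a ha c hc, hbPperp _ (hz₀R a ha) c hc, inv_one, mul_one]
  have p00 : Perp f z₀ w₀ := fun x hx c hc => by
    obtain ⟨a, ha, rfl⟩ := hP0 x hx
    rw [h.mul_left, h.inv_left, p10 a ha c hc, pR0 _ (hz₀R a ha) c hc, inv_one, mul_one]
  obtain ⟨C, hC⟩ : ∃ C, C = Subgroup.closure ({y, y₀} : Set (MulAut A)) := ⟨_, rfl⟩
  have hyC : y ∈ C := hC ▸ Subgroup.subset_closure (Or.inl rfl)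
  have hy₀C : y₀ ∈ C := hC ▸ Subgroup.subset_closure (Or.inr rfl)
  have hCpres : ∀ g ∈ C, Pres f g := by
    intro g hg
    rw [hC] at hg
    induction hg using Subgroup.closure_induction with
    | mem x hx => rcases hx with rfl | rfl; exacts [hy.pres, hy₀.pres]
    | one => exact Pres.one
    | mul _ _ _ _ h1 h2 => exact h1.mul h2
    | inv _ _ h1 => exact h1.inv
  have hnp : ¬ IsPGroup 2 C := fun hCp => hne (by
    have := hy.commute_z hy₀ h C hCp hCpres hyC hy₀C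
    rwa [e21] at this)
  obtain ⟨g, hg⟩ : ∃ g : C, ∀ i, g ^ 2 ^ i ≠ 1 := by
    by_contra hc
    push Not at hc
    exact hnp hc
  have hcommC : ∀ u ∈ C, ∀ u' ∈ C, Commute u (b * u' * b⁻¹) := by
    have c00 : ∀ u ∈ C, Commute u (b * y * b⁻¹) ∧ Commute u (b * y₀ * b⁻¹) := by
      intro u hu
      rw [hC] at hu
      induction hu using Subgroup.closure_induction with
      | mem x hx =>
        rcases hx with rfl | rfl
        · exact ⟨hy.commute_of_perp (hy.conj hbp) h (by rw [e21, ← hz, ← hw]; exact hperp),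
            hy.commute_of_perp (hy₀.conj hbp) h (by rw [e21, ← hz, ← hw₀]; exact p10)⟩
        · exact ⟨hy₀.commute_of_perp (hy.conj hbp) h (by rw [e21, ← hz₀, ← hw]; exact p01),
            hy₀.commute_of_perp (hy₀.conj hbp) h (by rw [e21, ← hz₀, ← hw₀]; exact p00)⟩
      | one => exact ⟨Commute.one_left _, Commute.one_left _⟩
      | mul _ _ _ _ h1 h2 => exact ⟨h1.1.mul_left h2.1, h1.2.mul_left h2.2⟩
      | inv _ _ h1 => exact ⟨h1.1.inv_left, h1.2.inv_left⟩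
    intro u hu u' hu'
    rw [hC] at hu'
    induction hu' using Subgroup.closure_induction with
    | mem x hx => rcases hx with rfl | rfl; exacts [(c00 u hu).1, (c00 u hu).2]
    | one => simp
    | mul x x' _ _ h1 h2 => rw [show b * (x * x') * b⁻¹ = (b * x * b⁻¹) * (b * x' * b⁻¹) by group]; exact h1.mul_right h2
    | inv x _ h1 => rw [show b * x⁻¹ * b⁻¹ = (b * x * b⁻¹)⁻¹ by group]; exact h1.inv_right
  have hCI : (g : MulAut A) ∈ Subgroup.normalizer (I : Set (MulAut A)) :=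
    ((Subgroup.closure_le _).2 (by rintro _ (rfl | rfl); exacts [hyI, hy₀I]) :
      Subgroup.closure ({y, y₀} : Set (MulAut A)) ≤ _) (hC ▸ g.2)
  have hcI : b * (g : MulAut A) * b⁻¹ * (g : MulAut A)⁻¹ ∈ I := by
    rw [mul_assoc, mul_assoc]
    refine mul_mem hb ?_
    rw [← mul_assoc]
    exact (Subgroup.mem_normalizer_iff.1 hCI _).1 (inv_mem hb)
  obtain ⟨j, hj⟩ := hS ⟨_, hIS hcI⟩
  obtain ⟨u, hu⟩ : ∃ u, u = (g : MulAut A) ^ 2 ^ j := ⟨_, rfl⟩
  have huC : u ∈ C := hu ▸ pow_mem g.2 _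
  have hu1 : b * u * b⁻¹ = u := by
    have e : (b * (g : MulAut A) * b⁻¹ * (g : MulAut A)⁻¹) ^ 2 ^ j = 1 := congrArg Subtype.val hj
    rw [(hcommC g g.2 g g.2).symm.inv_right.mul_pow, conj_pow, inv_pow, ← hu, mul_inv_eq_one] at e
    exact e
  refine hg j (Subtype.ext ?_)
  rw [SubmonoidClass.coe_pow, OneMemClass.coe_one, ← hu]
  have hfixC : ∀ u ∈ C, ∀ c, z c = c → z₀ c = c → u c = c := by
    intro u hu c h1 h2
    rw [hC] at hu
    induction hu using Subgroup.closure_induction with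
    | mem x hx =>
      rcases hx with rfl | rfl
      · exact hy.fix c (by rw [e21, ← hz]; exact h1)
      · exact hy₀.fix c (by rw [e21, ← hz₀]; exact h2)
    | one => rfl
    | mul x x' _ _ e1 e2 => rw [MulAut.mul_apply, e2, e1]
    | inv x _ e1 => conv_lhs => rw [← e1]
                    simp
  have horth : ∀ a, (∀ c ∈ mov w, f a c = 1) → (∀ c ∈ mov w₀, f a c = 1) → u a = a := by
    intro a h1 h2
    obtain ⟨x, rfl⟩ := b.surjective a
    have h3 : u x = x := hfixC u huC x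
      (h.fix_of_orth hzp hz2 fun c hc => by rw [← hbp]; exact h1 _ (hbP c hc))
      (h.fix_of_orth hz₀p hz₀2 fun c hc => by
        rw [← hbp]; exact h2 _ (hw₀ ▸ hmap b y₀ c (hz₀ ▸ hc)))
    conv_lhs => rw [← hu1]
    simp [MulAut.mul_apply, h3]
  refine MulEquiv.ext fun a => ?_
  obtain ⟨c, p, hc, hp, rfl⟩ := exists_split h.odd z hz2 a
  obtain ⟨c', r, hc', hr, rfl⟩ := exists_split h.odd zR hzR2 c
  have hup : u p = p := horth p (hperp p hp) (p10 p hp)
  have hur : u r = r := horth r (hbPperp r hr) (pR0 r hr)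
  have hzr : z r = r := h.fix_of_orth hzp hz2 fun x hx => h.symm_one (hPR x hx r hr)
  have hzc' : z c' = c' := by
    rw [map_mul, hzr] at hc
    exact mul_right_cancel hc
  have hz₀c' : z₀ c' = c' := by
    refine h.fix_of_orth hz₀p hz₀2 fun x hx => ?_
    obtain ⟨a, ha, rfl⟩ := hP0 x hx
    rw [h.mul_right, h.inv_right, h.orth hzp hzc' ha, h.orth hzRp hc' (hz₀R a ha), inv_one, mul_one]
  rw [map_mul, map_mul, hup, hur, hfixC u huC c' hzc' hz₀c', MulAut.one_apply]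

/-- The value, for `n = 2`. -/
theorem value_low (hy : IsY f 2 q y) (h : IsPairing f) (hS : IsPGroup 2 S)
    (hpres : ∀ s ∈ S, Pres f s) (hyS : y ∈ S) (hIS : I ≤ S) (hyI : y ∈ Subgroup.normalizer (I : Set (MulAut A)))
    (hsq : ∀ i ∈ I, i * i ∈ N) (hb : b ∈ I) (hby : (b * y) ^ 2 = 1 ∨ IsY f 2 q (b * y))
    (hstar : Commute (y ^ 2) b ∨ ∃ (y₀ : MulAut A) (S₀ : Subgroup (MulAut A)), IsY f 2 q y₀ ∧
      ¬ Commute (y ^ 2) (y₀ ^ 2) ∧ y₀ ^ 2 ∈ S ∧ IsPGroup 2 S₀ ∧ (∀ s ∈ S₀, Pres f s) ∧ y₀ ∈ S₀ ∧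
      I ≤ S₀ ∧ y₀ ∈ Subgroup.normalizer (I : Set (MulAut A))) :
    (b * y) ^ 2 * (y ^ 2)⁻¹ ∈ N := by
  have e21 : (2 : ℕ) ^ (2 - 1) = 2 := by norm_num
  have hbS := hIS hb
  have hbp := hpres b hbS
  by_cases hc : Commute y b
  · rw [hc.symm.mul_pow, mul_inv_cancel_right, pow_two]
    exact hsq b hb
  have hb4 : (b * y) ^ 4 = 1 := by
    rcases hby with e | e
    · rw [show 4 = 2 * 2 from rfl, pow_mul, e, one_pow]
    · exact e.pow_four
  have hdich := hy.eq_or_perp (hy.conj hbp) h S hS hpres hyS (mul_mem (mul_mem hbS hyS) (inv_mem hbS))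
  rw [e21] at hdich
  rcases hdich with heq | hperp
  · obtain ⟨z, hz⟩ : ∃ z, z = y ^ 2 := ⟨_, rfl⟩
    rw [← hz] at heq ⊢
    have hbP : ∀ a ∈ mov z, b a ∈ mov z := fun a ha => by
      rw [← heq]; exact (mem_mov_conj 2).2 (hz ▸ ha)
    have hzb : ∀ a, z (b a) = b (z a) := fun a => by
      conv_lhs => rw [← heq]
      rw [conj_pow_apply, hz]
    have hyP : ∀ a ∈ mov z, y a ∈ mov z := fun a ha => by
      have := hy.apply_mem_mov (a := a) (by rw [e21, ← hz]; exact ha)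
      rwa [e21, ← hz] at this
    have hgP : ∀ a ∈ mov z, (b * y) a ∈ mov z := fun a ha => by
      rw [MulAut.mul_apply]; exact hbP _ (hyP a ha)
    have hgp : Pres f (b * y) := hbp.mul hy.pres
    have key : ∀ t : MulAut A, Pres f t → (∀ a ∈ mov z, t a ∈ mov z) → (∀ a ∈ mov z, t (t a) = a) →
        (∀ a ∈ mov z, t a = a) ∨ ∀ a ∈ mov z, t a = a⁻¹ := fun t h1 h2 h3 => by
      have := hy.invol_plane h (t := t) h1 (by rw [e21, ← hz]; exact h2) (by rw [e21, ← hz]; exact h3)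
      rwa [e21, ← hz] at this
    rcases key ((b * y) ^ 2) (hgp.pow 2) (fun a ha => by
        rw [pow_two, MulAut.mul_apply]; exact hgP _ (hgP a ha)) (fun a ha => by
        rw [← MulAut.mul_apply, ← pow_add, hb4]; rfl) with hid | hinv
    · exfalso
      refine hc (MulEquiv.ext fun a => ?_)
      obtain ⟨c, p, hcz, hp, rfl⟩ := exists_split h.odd z (hz ▸ zsq_two hy) a
      have hyc : y c = c := hy.fix c (by rw [e21, ← hz]; exact hcz)
      have hybc : y (b c) = b c := hy.fix _ (by rw [e21, ← hz, hzb, hcz])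
      rw [MulAut.mul_apply, MulAut.mul_apply, map_mul b, map_mul y, map_mul y, map_mul b, hyc, hybc]
      congr 1
      rcases key (b * y) hgp hgP (fun a ha => by rw [← MulAut.mul_apply, ← pow_two]; exact hid a ha) with e | e
      · have e1 := e p hp
        rw [MulAut.mul_apply] at e1
        rw [e1]
        obtain ⟨x, hx, rfl⟩ : ∃ x ∈ mov z, y x = p :=
          ⟨(y ^ 3) p, by rw [pow_succ, pow_two]; exact hyP _ (hyP _ (hyP p hp)), by
            rw [← MulAut.mul_apply, ← pow_succ', hy.pow_four]; rfl⟩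
        have e2 := e x hx
        rw [MulAut.mul_apply] at e2
        rw [e2]
      · have e1 := e p hp
        rw [MulAut.mul_apply] at e1
        rw [e1]
        obtain ⟨x, hx, rfl⟩ : ∃ x ∈ mov z, y x = p :=
          ⟨(y ^ 3) p, by rw [pow_succ, pow_two]; exact hyP _ (hyP _ (hyP p hp)), by
            rw [← MulAut.mul_apply, ← pow_succ', hy.pow_four]; rfl⟩
        have e2 := e x hx
        rw [MulAut.mul_apply] at e2
        rw [e2, map_inv]
    · have hIs : IsY f 2 q (b * y) := hby.resolve_left fun e => by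
        have hall : ∀ a ∈ mov z, a = 1 := fun a ha => by
          have e' := hinv a ha
          rw [e, MulAut.one_apply] at e'
          refine eq_one_of_pow_two h.odd ?_
          rw [pow_two]; nth_rewrite 1 [e']; exact inv_mul_cancel a
        have hcard := hy.card
        rw [e21, ← hz, (Subgroup.eq_bot_iff_forall _).2 hall, Subgroup.card_bot] at hcard
        have := hy.hq
        nlinarith
      have hcd : mov z = mov ((b * y) ^ 2) := Subgroup.eq_of_le_of_card_ge (fun a ha => hinv a ha) (by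
        have h1 := hIs.card
        have h2 := hy.card
        rw [e21] at h1 h2
        rw [hz, h2, h1])
      rw [z_eq h (hz ▸ hy.pres.pow 2) (hz ▸ zsq_two hy) (hIs.pres.pow 2) (zsq_two hIs) hcd.symm,
        mul_inv_cancel]
      have := hsq 1 (one_mem I)
      rwa [one_mul] at this
  · exfalso
    rcases hstar with hcz | ⟨y₀, S₀, h1, h2, h3, h4, h5, h6, h7, h8⟩
    · have e : (b * y * b⁻¹) ^ 2 = y ^ 2 := by rw [conj_pow, hcz.symm.eq, mul_inv_cancel_right]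
      rw [e] at hperp
      have hzp : Pres f (y ^ 2) := hy.pres.pow 2
      have hall : ∀ a ∈ mov (y ^ 2), a = 1 := fun a ha => hperp.not_mem h hzp (zsq_two hy) ha ha
      have hcard := hy.card
      rw [e21, (Subgroup.eq_bot_iff_forall _).2 hall, Subgroup.card_bot] at hcard
      have := hy.hq
      nlinarith
    · exact exclude hy h hS hpres hyS hIS hyI hb hb4 h1 h2 h3 h4 h5 h6 h7 h8 hperp

end Cfsg.Agent.Solv.E2
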