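import Cfsg.Agent.Lib.Solv.ExponentTwo.Block
import Cfsg.Agent.Lib.Solv.ExponentTwo.Value

/-!
One step down inside a normal 2-subgroup not centralising the class-two group.
-/

set_option autoImplicit false
set_option linter.style.haveILetI false
set_option linter.unusedSectionVars false
set_option maxHeartbeats 1000000

namespace Cfsg.Agent.Solv.E2

attribute [local instance] Fintype.ofFinite

open scoped commutatorElement
open Cfsg.Agent.Solv.D2 (wt proj tw tw_apply proj_tw)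

universe u v

variable {G : Type u} [Group G] [Finite G] {k : Type} [Field k] [IsAlgClosed k] [CharP k 2]
  {V : Type v} [AddCommGroup V] [Module k V] [FiniteDimensional k V]
  {ρ : G →* Module.End k V} {P : Subgroup G} {q e : ℕ}

/-- A power of `a * x` differs from the power of `x` inside a subgroup containing `a` and normalised by `x`. -/
theorem pow_mul_inv_mem {R : Subgroup G} {a : G} (ha : a ∈ R) {x : G}
    (hx : ∀ d ∈ R, x * d * x⁻¹ ∈ R) (i : ℕ) : (a * x) ^ i * (x ^ i)⁻¹ ∈ R := by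
  induction i with
  | zero => simp
  | succ i ih =>
    rw [show (a * x) ^ (i + 1) * (x ^ (i + 1))⁻¹ =
      (a * (x * ((a * x) ^ i * (x ^ i)⁻¹) * x⁻¹) * a⁻¹) * a by rw [pow_succ', pow_succ']; group]
    exact mul_mem (mul_mem (mul_mem ha (hx _ ih)) (inv_mem ha)) ha

/-- A 2-subgroup together with a 2-element normalising it. -/
theorem isPGroup_sup_zpowers {R : Subgroup G} (hR : IsPGroup 2 R) {x : G}
    (hxR : x ∈ Subgroup.normalizer (R : Set G))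
    (hx : ∃ j, x ^ 2 ^ j = 1) : IsPGroup 2 ↥(R ⊔ Subgroup.zpowers x) := by
  haveI : Fact (Nat.Prime 2) := ⟨Nat.prime_two⟩
  obtain ⟨j, hj⟩ := hx
  obtain ⟨i, -, hi⟩ := (Nat.dvd_prime_pow Nat.prime_two).1 (orderOf_dvd_of_pow_eq_one hj)
  exact hR.to_sup_of_normal_left' (IsPGroup.of_card (n := i) (by rw [Nat.card_zpowers, hi]))
    (Subgroup.zpowers_le.2 hxR)

theorem exists_two_pow_mul {R : Subgroup G} (hR : IsPGroup 2 R) {a x : G} (ha : a ∈ R)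
    (hxR : x ∈ Subgroup.normalizer (R : Set G))
    (hx : ∃ j, x ^ 2 ^ j = 1) : ∃ j, (a * x) ^ 2 ^ j = 1 := by
  obtain ⟨j, hj⟩ := isPGroup_sup_zpowers hR hxR hx
    ⟨a * x, mul_mem (Subgroup.mem_sup_left ha) (Subgroup.mem_sup_right (Subgroup.mem_zpowers x))⟩
  exact ⟨j, congrArg Subtype.val hj⟩

theorem exists_two_pow_conj {x : G} (hx : ∃ j, x ^ 2 ^ j = 1) (g : G) :
    ∃ j, (g * x * g⁻¹) ^ 2 ^ j = 1 := by
  obtain ⟨j, hj⟩ := hx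
  exact ⟨j, by rw [conj_pow, hj, mul_one, mul_inv_cancel]⟩

namespace Setup

variable (h : Setup ρ P q e) (χ : ↥(cen P) →* kˣ)

include h

/-- The elements of the stabiliser acting trivially on the quotient. -/
noncomputable def ker : Subgroup G := ((h.act χ).ker).map (h.stab χ).subtype

theorem mem_ker {g : G} : g ∈ h.ker χ ↔ ∃ hg : g ∈ h.stab χ, h.act χ ⟨g, hg⟩ = 1 := by
  constructor
  · rintro ⟨a, ha, rfl⟩
    exact ⟨a.2, ha⟩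
  · rintro ⟨hg, hg'⟩
    exact ⟨⟨g, hg⟩, hg', rfl⟩

theorem mem_ker' {u : G} (hu : u ∈ h.stab χ) : u ∈ h.ker χ ↔ h.act χ ⟨u, hu⟩ = 1 :=
  (h.mem_ker χ).trans ⟨fun ⟨_, e'⟩ => e', fun e' => ⟨hu, e'⟩⟩

theorem comm_mem_ker {u v : G} (hu : u ∈ h.stab χ) (hv : v ∈ h.stab χ) :
    ⁅u, v⁆ ∈ h.ker χ ↔ Commute (h.act χ ⟨u, hu⟩) (h.act χ ⟨v, hv⟩) := by
  have e1 : (⁅(⟨u, hu⟩ : h.stab χ), (⟨v, hv⟩ : h.stab χ)⁆ : h.stab χ) =
      ⟨⁅u, v⁆, by rw [commutatorElement_def]; exact mul_mem (mul_mem (mul_mem hu hv) (inv_mem hu)) (inv_mem hv)⟩ :=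
    rfl
  rw [h.mem_ker' χ (u := ⁅u, v⁆)
    (by rw [commutatorElement_def]; exact mul_mem (mul_mem (mul_mem hu hv) (inv_mem hu)) (inv_mem hv)),
    ← e1, map_commutatorElement, commutatorElement_eq_one_iff_commute]

/-- Conjugation permutes the kernels. -/
theorem ker_conj {g c : G} (hc : c ∈ h.ker χ) : g * c * g⁻¹ ∈ h.ker (tw (cen P) g χ) := by
  haveI := h.normal
  obtain ⟨hcs, hca⟩ := (h.mem_ker χ).1 hc
  have hg := h.normalizer_cen g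
  have hval : ∀ z : cen P, tw (cen P) g χ z = χ ⟨g⁻¹ * z * g, D2.conj_mem_of_normalizer hg z.2⟩ := fun z =>
    tw_apply hg χ z _ rfl
  have hs : g * c * g⁻¹ ∈ h.stab (tw (cen P) g χ) := fun z => by
    rw [hval, hval, ← hcs ⟨g⁻¹ * z * g, D2.conj_mem_of_normalizer hg z.2⟩]
    congr 1
    exact Subtype.ext (by show g⁻¹ * (g * c * g⁻¹ * z * (g * c * g⁻¹)⁻¹) * g = c * (g⁻¹ * z * g) * c⁻¹; group)
  refine (h.mem_ker' _ hs).2 ((h.act_eq_one _).2 fun r s => ?_)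
  have hr' : g⁻¹ * r * g ∈ P := by simpa using h.normal.conj_mem r r.2 g⁻¹
  have hs' : g⁻¹ * s * g ∈ P := by simpa using h.normal.conj_mem s s.2 g⁻¹
  rw [hval]
  refine Eq.trans ?_ ((h.act_eq_one χ).1 hca ⟨_, hr'⟩ ⟨_, hs'⟩)
  congr 1
  exact Subtype.ext (by
    show g⁻¹ * ⁅⁅g * c * g⁻¹, (r : G)⁆, (s : G)⁆ * g = ⁅⁅c, g⁻¹ * r * g⁆, g⁻¹ * s * g⁆
    simp only [commutatorElement_def]; group)

theorem tw_ne_bot {g : G} (hne : wt ρ (cen P) χ ≠ ⊥) : wt ρ (cen P) (tw (cen P) g χ) ≠ ⊥ := fun hb => by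
  obtain ⟨w, hw, hw0⟩ := Submodule.exists_mem_ne_zero_of_ne_bot hne
  have e1 := proj_tw ρ (h.normalizer_cen g) χ w
  rw [D2.proj_of_mem ρ h.odd_cen hw] at e1
  have e2 := D2.proj_mem_wt ρ (tw (cen P) g χ) (ρ g w)
  rw [e1, hb, Submodule.mem_bot] at e2
  exact hw0 ((Solv.CRep.rep_inv_apply ρ g w).symm.trans (by rw [e2, map_zero]))

theorem tw_tw_inv (g : G) : tw (cen P) g (tw (cen P) g⁻¹ χ) = χ := by
  rw [← D2.tw_mul (h.normalizer_cen g) (h.normalizer_cen _), mul_inv_cancel, D2.tw_one]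

/-- One step. -/
theorem exists_step {M D R : Subgroup G} (hD : IsPGroup 2 D) (hRD : R ≤ D) (hDM : D ≤ M)
    (hDn : M ≤ Subgroup.normalizer (D : Set G)) (hRn : M ≤ Subgroup.normalizer (R : Set G))
    (hRP : ∃ r ∈ R, ∃ p ∈ P, ¬ Commute r p) :
    ∃ R' : Subgroup G, R' ≤ R ∧ R' ≠ R ∧ (∀ g ∈ M, ∀ d ∈ R', g * d * g⁻¹ ∈ R') ∧
      (∀ x ∈ M, (∃ j, x ^ 2 ^ j = 1) → ∀ a ∈ R, ⁅x ^ 2 ^ (e - 1), a⁆ ∈ R') ∧
      ((∀ x ∈ M, (∃ j, x ^ 2 ^ j = 1) → x ^ 2 ^ (e - 1) ∈ D) →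
        ∀ x ∈ M, (∃ j, x ^ 2 ^ j = 1) → ∀ a ∈ R,
          (a * x) ^ 2 ^ (e - 1) * (x ^ 2 ^ (e - 1))⁻¹ ∈ R') := by
  classical
  haveI : Fact (Nat.Prime 2) := ⟨Nat.prime_two⟩
  haveI := h.normal
  have hR2 : IsPGroup 2 R := hD.to_le hRD
  obtain ⟨N, hN⟩ : ∃ N, N = 2 ^ (e - 1) := ⟨_, rfl⟩
  rw [← hN]
  have hRM : R ≤ M := hRD.trans hDM
  have hcR : ∀ g ∈ M, ∀ d ∈ R, g * d * g⁻¹ ∈ R := fun g hg d hd => (Subgroup.mem_normalizer_iff.1 (hRn hg) d).1 hd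
  have hvR : ∀ {a x : G}, a ∈ R → x ∈ M → ∀ i : ℕ, (a * x) ^ i * (x ^ i)⁻¹ ∈ R := fun {a x} ha hx i =>
    pow_mul_inv_mem ha (hcR x hx) i
  have hzR : ∀ {x a : G}, x ∈ M → a ∈ R → ⁅x ^ N, a⁆ ∈ R := fun {x a} hx ha => by
    rw [commutatorElement_def]
    exact mul_mem (hcR _ (pow_mem hx N) a ha) (inv_mem ha)
  have hzd : ∀ (x a : G), ⁅x ^ N, a⁆ = x ^ N * ((a * x * a⁻¹) ^ N)⁻¹ := fun x a => by
    rw [conj_pow, commutatorElement_def]; group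
  by_cases hA : ∃ r ∈ R, ∃ z ∈ cen P, ¬ Commute r z
  · -- `R` moves the centre
    haveI : (cen P).Normal := ⟨fun z hz g => cen_conj_mem g hz⟩
    have hcz : ∀ x, (∃ j, x ^ 2 ^ j = 1) → x ^ N ∈ Subgroup.centralizer (cen P : Set G) := fun x hx =>
      Subgroup.mem_centralizer_iff.2 fun z hz => (hN ▸ h.inv_commute hx hz).eq.symm
    refine ⟨R ⊓ Subgroup.centralizer (cen P : Set G), inf_le_left, fun e' => ?_,
      fun g hg d hd => ⟨hcR g hg d hd.1, (inferInstance : (Subgroup.centralizer (cen P : Set G)).Normal).conj_mem d hd.2 g⟩, fun x hxM hx a ha => ⟨hzR hxM ha, ?_⟩,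
      fun _ x hxM hx a ha => ⟨hvR ha hxM N, ?_⟩⟩
    · obtain ⟨r, hr, z, hz, hne⟩ := hA
      rw [← e'] at hr
      exact hne (Subgroup.mem_centralizer_iff.1 hr.2 z hz).symm
    · rw [hzd]
      exact Subgroup.mul_mem _ (hcz x hx) (Subgroup.inv_mem _ (hcz _ (exists_two_pow_conj hx a)))
    · exact Subgroup.mul_mem _ (hcz _ (exists_two_pow_mul hR2 ha (hRn hxM) hx)) (Subgroup.inv_mem _ (hcz x hx))
  push Not at hA
  have hRS : ∀ χ : ↥(cen P) →* kˣ, R ≤ h.stab χ := fun χ r hr => h.mem_stab_of_commute χ (hA r hr)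
  have hzS : ∀ (χ : ↥(cen P) →* kˣ) {x : G}, (∃ j, x ^ 2 ^ j = 1) → x ^ N ∈ h.stab χ := fun χ x hx =>
    hN ▸ h.inv_mem_stab χ hx
  -- the elements commuting with the distinguished involutions
  obtain ⟨Rs, hRs⟩ : ∃ Rs : Subgroup G, ∀ d, d ∈ Rs ↔ d ∈ R ∧ ∀ χ : ↥(cen P) →* kˣ, wt ρ (cen P) χ ≠ ⊥ →
      ∀ x ∈ M, (∃ j, x ^ 2 ^ j = 1) → (∀ x' ∈ M, (∃ j, x' ^ 2 ^ j = 1) → ⁅x ^ N, x' ^ N⁆ ∈ h.ker χ) →
        ⁅d, x ^ N⁆ ∈ h.ker χ := by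
    refine ⟨{ carrier := {d | d ∈ R ∧ ∀ χ : ↥(cen P) →* kˣ, wt ρ (cen P) χ ≠ ⊥ →
        ∀ x ∈ M, (∃ j, x ^ 2 ^ j = 1) → (∀ x' ∈ M, (∃ j, x' ^ 2 ^ j = 1) → ⁅x ^ N, x' ^ N⁆ ∈ h.ker χ) →
          ⁅d, x ^ N⁆ ∈ h.ker χ}
              one_mem' := ⟨one_mem R, fun χ _ x _ _ _ => by rw [commutatorElement_one_left]; exact one_mem _⟩
              mul_mem' := fun {a b} ha hb => ⟨mul_mem ha.1 hb.1, fun χ hχ x hxM hx hT => ?_⟩
              inv_mem' := fun {a} ha => ⟨inv_mem ha.1, fun χ hχ x hxM hx hT => ?_⟩ }, fun _ => Iff.rfl⟩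
    · rw [h.comm_mem_ker χ (mul_mem (hRS χ ha.1) (hRS χ hb.1)) (hzS χ hx),
        show (⟨a * b, _⟩ : h.stab χ) = ⟨a, hRS χ ha.1⟩ * ⟨b, hRS χ hb.1⟩ from rfl, map_mul]
      exact ((h.comm_mem_ker χ (hRS χ ha.1) (hzS χ hx)).1 (ha.2 χ hχ x hxM hx hT)).mul_left
        ((h.comm_mem_ker χ (hRS χ hb.1) (hzS χ hx)).1 (hb.2 χ hχ x hxM hx hT))
    · rw [h.comm_mem_ker χ (inv_mem (hRS χ ha.1)) (hzS χ hx),
        show (⟨a⁻¹, _⟩ : h.stab χ) = (⟨a, hRS χ ha.1⟩ : h.stab χ)⁻¹ from rfl, map_inv]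
      exact ((h.comm_mem_ker χ (hRS χ ha.1) (hzS χ hx)).1 (ha.2 χ hχ x hxM hx hT)).inv_left
  have hRsn : ∀ g ∈ M, ∀ d ∈ Rs, g * d * g⁻¹ ∈ Rs := by
    intro g hg d hd
    rw [hRs] at hd ⊢
    refine ⟨hcR g hg d hd.1, fun χ hχ x hxM hx hT => ?_⟩
    have h1 := hd.2 (tw (cen P) g⁻¹ χ) (h.tw_ne_bot χ hχ) (g⁻¹ * x * g⁻¹⁻¹)
      (mul_mem (mul_mem (inv_mem hg) hxM) (inv_mem (inv_mem hg))) (exists_two_pow_conj hx g⁻¹)
      fun x' hx'M hx' => by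
        have h2 := h.ker_conj χ (g := g⁻¹) (hT (g * x' * g⁻¹) (mul_mem (mul_mem hg hx'M) (inv_mem hg)) (exists_two_pow_conj hx' g))
        rw [show g⁻¹ * ⁅x ^ N, (g * x' * g⁻¹) ^ N⁆ * g⁻¹⁻¹ = ⁅(g⁻¹ * x * g⁻¹⁻¹) ^ N, x' ^ N⁆ by
          rw [conj_pow, conj_pow]; simp only [commutatorElement_def]; group] at h2
        exact h2
    have h3 := h.ker_conj (tw (cen P) g⁻¹ χ) (g := g) h1
    rw [h.tw_tw_inv, show g * ⁅d, (g⁻¹ * x * g⁻¹⁻¹) ^ N⁆ * g⁻¹ = ⁅g * d * g⁻¹, x ^ N⁆ by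
      rw [conj_pow]; simp only [commutatorElement_def]; group] at h3
    exact h3
  by_cases hB : Rs ≠ R
  · -- the starred subgroup is proper
    have key : ∀ u ∈ M, ∀ w ∈ M, (∃ j, u ^ 2 ^ j = 1) → (∃ j, w ^ 2 ^ j = 1) → u ^ N * (w ^ N)⁻¹ ∈ R →
        u ^ N * (w ^ N)⁻¹ ∈ Rs := by
      intro u huM w hwM hu hw hmem
      refine (hRs _).2 ⟨hmem, fun χ hχ x hxM hx hT => ?_⟩
      rw [h.comm_mem_ker χ (mul_mem (hzS χ hu) (inv_mem (hzS χ hw))) (hzS χ hx),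
        show (⟨u ^ N * (w ^ N)⁻¹, _⟩ : h.stab χ) = ⟨_, hzS χ hu⟩ * (⟨_, hzS χ hw⟩ : h.stab χ)⁻¹ from rfl,
        map_mul, map_inv]
      exact (((h.comm_mem_ker χ (hzS χ hx) (hzS χ hu)).1 (hT u huM hu)).symm).mul_left
        (((h.comm_mem_ker χ (hzS χ hx) (hzS χ hw)).1 (hT w hwM hw)).symm).inv_left
    refine ⟨Rs, fun d hd => ((hRs d).1 hd).1, hB, hRsn, fun x hxM hx a ha => ?_, fun _ x hxM hx a ha => ?_⟩
    · rw [hzd]
      exact key x hxM _ (mul_mem (mul_mem (hRM ha) hxM) (inv_mem (hRM ha))) hx (exists_two_pow_conj hx a) (hzd x a ▸ hzR hxM ha)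
    · exact key _ (mul_mem (hRM ha) hxM) x hxM (exists_two_pow_mul hR2 ha (hRn hxM) hx) hx (hvR ha hxM N)
  push Not at hB
  -- squares
  obtain ⟨Q, hQ⟩ : ∃ Q : Subgroup G, Q = Subgroup.closure {d | ∃ r ∈ R, d = r * r} := ⟨_, rfl⟩
  have hQR : Q ≤ R := hQ ▸ (Subgroup.closure_le _).2 (by rintro _ ⟨r, hr, rfl⟩; exact mul_mem hr hr)
  have hQn : ∀ g ∈ M, ∀ d ∈ Q, g * d * g⁻¹ ∈ Q := by
    intro g hg d hd
    have hle : Q ≤ Q.comap (MulAut.conj g).toMonoidHom := by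
      conv_lhs => rw [hQ]
      refine (Subgroup.closure_le _).2 ?_
      rintro _ ⟨r, hr, rfl⟩
      show MulAut.conj g (r * r) ∈ Q
      rw [map_mul, MulAut.conj_apply, hQ]
      exact Subgroup.subset_closure ⟨_, hcR g hg r hr, rfl⟩
    simpa using hle hd
  obtain ⟨R', hR'⟩ : ∃ R' : Subgroup G, ∀ d, d ∈ R' ↔ d ∈ R ∧ ∀ χ : ↥(cen P) →* kˣ,
      wt ρ (cen P) χ ≠ ⊥ → ∃ hd : d ∈ h.stab χ, h.act χ ⟨d, hd⟩ ∈ (Q.subgroupOf (h.stab χ)).map (h.act χ) := by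
    refine ⟨{ carrier := {d | d ∈ R ∧ ∀ χ : ↥(cen P) →* kˣ, wt ρ (cen P) χ ≠ ⊥ →
        ∃ hd : d ∈ h.stab χ, h.act χ ⟨d, hd⟩ ∈ (Q.subgroupOf (h.stab χ)).map (h.act χ)}
              one_mem' := ⟨one_mem R, fun χ _ => ⟨one_mem _, by
                rw [show (⟨1, _⟩ : h.stab χ) = 1 from rfl, map_one]; exact one_mem _⟩⟩
              mul_mem' := fun {a b} ha hb => ⟨mul_mem ha.1 hb.1, fun χ hχ => ?_⟩
              inv_mem' := fun {a} ha => ⟨inv_mem ha.1, fun χ hχ => ?_⟩ }, fun _ => Iff.rfl⟩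
    · obtain ⟨h1, h1'⟩ := ha.2 χ hχ
      obtain ⟨h2, h2'⟩ := hb.2 χ hχ
      exact ⟨mul_mem h1 h2, by
        rw [show (⟨a * b, _⟩ : h.stab χ) = ⟨a, h1⟩ * ⟨b, h2⟩ from rfl, map_mul]; exact mul_mem h1' h2'⟩
    · obtain ⟨h1, h1'⟩ := ha.2 χ hχ
      exact ⟨inv_mem h1, by
        rw [show (⟨a⁻¹, _⟩ : h.stab χ) = (⟨a, h1⟩ : h.stab χ)⁻¹ from rfl, map_inv]; exact inv_mem h1'⟩
  have hQmem : ∀ (χ : ↥(cen P) →* kˣ) (d : G) (hd : d ∈ h.stab χ),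
      h.act χ ⟨d, hd⟩ ∈ (Q.subgroupOf (h.stab χ)).map (h.act χ) ↔ ∃ s ∈ Q, s⁻¹ * d ∈ h.ker χ := by
    intro χ d hd
    constructor
    · rintro ⟨⟨s, hs⟩, hs', e'⟩
      refine ⟨s, hs', (h.mem_ker' χ (mul_mem (inv_mem hs) hd)).2 ?_⟩
      rw [show (⟨s⁻¹ * d, _⟩ : h.stab χ) = (⟨s, hs⟩ : h.stab χ)⁻¹ * ⟨d, hd⟩ from rfl, map_mul, map_inv, e',
        inv_mul_cancel]
    · rintro ⟨s, hs, hk⟩
      have hs' : s ∈ h.stab χ := hRS χ (hQR hs)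
      refine ⟨⟨s, hs'⟩, hs, ?_⟩
      have e' := (h.mem_ker' χ (mul_mem (inv_mem hs') hd)).1 hk
      rw [show (⟨s⁻¹ * d, _⟩ : h.stab χ) = (⟨s, hs'⟩ : h.stab χ)⁻¹ * ⟨d, hd⟩ from rfl, map_mul, map_inv,
        inv_mul_eq_one] at e'
      exact e'
  have hR'n : ∀ g ∈ M, ∀ d ∈ R', g * d * g⁻¹ ∈ R' := by
    intro g hg d hd
    rw [hR'] at hd ⊢
    refine ⟨hcR g hg d hd.1, fun χ hχ => ⟨hRS χ (hcR g hg d hd.1), (hQmem χ _ _).2 ?_⟩⟩
    obtain ⟨h1, h1'⟩ := hd.2 (tw (cen P) g⁻¹ χ) (h.tw_ne_bot χ hχ)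
    obtain ⟨s, hs, hk⟩ := (hQmem _ d h1).1 h1'
    refine ⟨g * s * g⁻¹, hQn g hg s hs, ?_⟩
    have h3 := h.ker_conj (tw (cen P) g⁻¹ χ) (g := g) hk
    rw [h.tw_tw_inv, show g * (s⁻¹ * d) * g⁻¹ = (g * s * g⁻¹)⁻¹ * (g * d * g⁻¹) by group] at h3
    exact h3
  -- the data at a character
  have hI : ∀ (χ : ↥(cen P) →* kˣ) {a : G} (ha : a ∈ R),
      h.act χ ⟨a, hRS χ ha⟩ ∈ (R.subgroupOf (h.stab χ)).map (h.act χ) := fun χ a ha => ⟨_, ha, rfl⟩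
  have hsqI : ∀ χ : ↥(cen P) →* kˣ, ∀ i ∈ (R.subgroupOf (h.stab χ)).map (h.act χ),
      i * i ∈ (Q.subgroupOf (h.stab χ)).map (h.act χ) := by
    rintro χ _ ⟨r, hr, rfl⟩
    exact ⟨r * r, hQ ▸ Subgroup.subset_closure ⟨r, hr, rfl⟩, map_mul _ _ _⟩
  have hnorm : ∀ (χ : ↥(cen P) →* kˣ) (g : h.stab χ), (g : G) ∈ M → ∀ (H : Subgroup G),
      (∀ c ∈ M, ∀ d ∈ H, c * d * c⁻¹ ∈ H) →
      h.act χ g ∈ Subgroup.normalizer (((H.subgroupOf (h.stab χ)).map (h.act χ) : Subgroup _) : Set _) := by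
    intro χ g hg H hH
    refine Subgroup.mem_normalizer_fintype fun i hi => ?_
    obtain ⟨r, hr, rfl⟩ := hi
    exact ⟨g * r * g⁻¹, hH _ hg _ hr, by rw [map_mul, map_mul, map_inv]⟩
  have sylow : ∀ (χ : ↥(cen P) →* kˣ) (K : Subgroup G), IsPGroup 2 K →
      IsPGroup 2 ((K.subgroupOf (h.stab χ)).map (h.act χ)) := fun χ K hK =>
    (hK.comap_of_injective _ (Subgroup.subtype_injective _)).map _
  have hpres : ∀ (χ : ↥(cen P) →* kˣ) (K : Subgroup G), ∀ s ∈ (K.subgroupOf (h.stab χ)).map (h.act χ),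
      Pres (h.form χ) s := by
    rintro χ K _ ⟨g, -, rfl⟩
    exact h.act_pres χ g
  refine ⟨R', fun d hd => ((hR' d).1 hd).1, fun e' => ?_, hR'n, fun x hxM hx a ha => ?_, fun hall x hxM hx a ha => ?_⟩
  · -- properness
    obtain ⟨χ, hχ, r, hr, hne⟩ : ∃ χ : ↥(cen P) →* kˣ, wt ρ (cen P) χ ≠ ⊥ ∧
        ∃ r, ∃ hr : r ∈ R, h.act χ ⟨r, hRS χ hr⟩ ≠ 1 := by
      by_contra hc
      push Not at hc
      obtain ⟨r, hr, p, hp, hne⟩ := hRP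
      obtain ⟨j, hj⟩ := hR2 ⟨r, hr⟩
      exact hne (h.commute_of_act ⟨j, congrArg Subtype.val hj⟩ (hA r hr) (fun χ hχ => hc χ hχ r hr) p hp)
    obtain ⟨I, hIdef⟩ : ∃ I, I = (R.subgroupOf (h.stab χ)).map (h.act χ) := ⟨_, rfl⟩
    have hIne : (⊤ : Subgroup I) ≠ ⊥ := fun hb => hne (by
      have hm : (⟨_, hIdef ▸ hI χ hr⟩ : I) ∈ (⊥ : Subgroup I) := hb ▸ Subgroup.mem_top _
      exact congrArg Subtype.val (Subgroup.mem_bot.1 hm))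
    obtain ⟨M, hM⟩ : ∃ M : Subgroup I, IsCoatom M := by
      rcases eq_top_or_exists_le_coatom (⊥ : Subgroup I) with e1 | ⟨M, hM, -⟩
      · exact absurd e1.symm hIne
      · exact ⟨M, hM⟩
    have hI2 : IsPGroup 2 I := hIdef ▸ sylow χ R hR2
    haveI := coatom_normal hI2 hM
    have hidx : M.index = 2 := coatom_index hI2 hM
    have hMsq : ∀ i : I, i * i ∈ M := fun i => Subgroup.mul_self_mem_of_index_two hidx i
    refine hM.1 ((Subgroup.eq_top_iff' M).2 fun i => ?_)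
    obtain ⟨⟨d, hd⟩, hdR, hde⟩ := (hIdef ▸ i.2 : (i : MulAut _) ∈ (R.subgroupOf (h.stab χ)).map (h.act χ))
    have hdR' : d ∈ R' := e'.symm ▸ hdR
    obtain ⟨hd2, h2⟩ := ((hR' d).1 hdR').2 χ hχ
    have hle : (Q.subgroupOf (h.stab χ)).map (h.act χ) ≤ M.map I.subtype := by
      rintro _ ⟨⟨c, hc⟩, hcQ, rfl⟩
      have key : ∀ c ∈ Q, ∀ hc : c ∈ h.stab χ, h.act χ ⟨c, hc⟩ ∈ M.map I.subtype := by
        intro c hc
        rw [hQ] at hc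
        induction hc using Subgroup.closure_induction with
        | mem c hc =>
          obtain ⟨r', hr', rfl⟩ := hc
          exact fun _ => ⟨⟨_, hIdef ▸ hI χ hr'⟩ * ⟨_, hIdef ▸ hI χ hr'⟩, hMsq _, (map_mul _ _ _).symm⟩
        | one => exact fun _ => by rw [show (⟨1, _⟩ : h.stab χ) = 1 from rfl, map_one]; exact one_mem _
        | mul a b ha hb iha ihb =>
          intro hab
          have ha' := hRS χ (hQR (hQ ▸ ha))
          have hb' := hRS χ (hQR (hQ ▸ hb))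
          rw [show (⟨a * b, hab⟩ : h.stab χ) = ⟨a, ha'⟩ * ⟨b, hb'⟩ from rfl, map_mul]
          exact mul_mem (iha ha') (ihb hb')
        | inv a ha iha =>
          intro hab
          have ha' := hRS χ (hQR (hQ ▸ ha))
          rw [show (⟨a⁻¹, hab⟩ : h.stab χ) = (⟨a, ha'⟩ : h.stab χ)⁻¹ from rfl, map_inv]
          exact inv_mem (iha ha')
      exact key c hcQ hc
    obtain ⟨i', hi', hie⟩ := hle h2
    rwa [show i = i' from Subtype.ext (hde.symm.trans hie.symm)]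
  · -- the involution
    refine (hR' _).2 ⟨hzR hxM ha, fun χ hχ => ⟨hRS χ (hzR hxM ha), ?_⟩⟩
    have e1 : h.act χ ⟨⁅x ^ N, a⁆, hRS χ (hzR hxM ha)⟩ = ⁅h.act χ ⟨x ^ N, hzS χ hx⟩, h.act χ ⟨a, hRS χ ha⟩⁆ := by
      rw [← map_commutatorElement]; rfl
    rw [e1]
    by_cases hz : h.act χ ⟨x ^ N, hzS χ hx⟩ = 1
    · rw [hz, commutatorElement_one_left]; exact one_mem _
    subst hN
    obtain ⟨n, L, hLn, hy, hY⟩ := h.exists_isY χ hχ hx hz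
    have e2 : h.act χ ⟨x ^ 2 ^ (e - 1), hzS χ hx⟩ = h.act χ ⟨x ^ L, hy⟩ ^ 2 ^ (n - 1) := by
      rw [← map_pow]; congr 1
      exact Subtype.ext (show x ^ 2 ^ (e - 1) = (x ^ L) ^ 2 ^ (n - 1) by rw [← pow_mul, hLn])
    rw [e2]
    exact step_one hY (h.isPairing χ) (sylow χ _ (isPGroup_sup_zpowers hR2 (hRn hxM) hx)) (hpres χ _)
      ⟨⟨x ^ L, hy⟩, Subgroup.mem_sup_right (pow_mem (Subgroup.mem_zpowers x) L), rfl⟩
      (Subgroup.map_mono (Subgroup.comap_mono le_sup_left))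
      (hnorm χ _ (pow_mem hxM L) R hcR) (hsqI χ) (hI χ ha)
  · -- the norm
    refine (hR' _).2 ⟨hvR ha hxM N, fun χ hχ => ⟨hRS χ (hvR ha hxM N), ?_⟩⟩
    have main : ∀ {x a : G} (hxM : x ∈ M) (hx : ∃ j, x ^ 2 ^ j = 1) (ha : a ∈ R), h.act χ ⟨x ^ N, hzS χ hx⟩ ≠ 1 →
        h.act χ ⟨(a * x) ^ N * (x ^ N)⁻¹, hRS χ (hvR ha hxM N)⟩ ∈
          (Q.subgroupOf (h.stab χ)).map (h.act χ) := by
      intro x a hxM hx ha hz
      subst hN
      obtain ⟨n, L, hLn, hy, hY⟩ := h.exists_isY χ hχ hx hz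
      have hax := exists_two_pow_mul hR2 ha (hRn hxM) hx
      obtain ⟨a', ha'⟩ : ∃ a', a' = (a * x) ^ L * (x ^ L)⁻¹ := ⟨_, rfl⟩
      have ha'R : a' ∈ R := ha' ▸ hvR ha hxM L
      have hby : (a * x) ^ L ∈ h.stab χ := by
        rw [show (a * x) ^ L = a' * x ^ L by rw [ha', inv_mul_cancel_right]]
        exact mul_mem (hRS χ ha'R) hy
      have e2 : h.act χ ⟨a', hRS χ ha'R⟩ * h.act χ ⟨x ^ L, hy⟩ = h.act χ ⟨(a * x) ^ L, hby⟩ := by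
        rw [← map_mul]; congr 1
        exact Subtype.ext (show a' * x ^ L = (a * x) ^ L by rw [ha', inv_mul_cancel_right])
      have hpowz : ∀ (g : G) (hg : g ^ L ∈ h.stab χ) (hg' : g ^ 2 ^ (e - 1) ∈ h.stab χ),
          h.act χ ⟨g ^ L, hg⟩ ^ 2 ^ (n - 1) = h.act χ ⟨g ^ 2 ^ (e - 1), hg'⟩ := fun g hg hg' => by
        rw [← map_pow]; congr 1
        exact Subtype.ext (show (g ^ L) ^ 2 ^ (n - 1) = g ^ 2 ^ (e - 1) by rw [← pow_mul, hLn])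
      have e3 : h.act χ ⟨(a * x) ^ 2 ^ (e - 1) * (x ^ 2 ^ (e - 1))⁻¹, hRS χ (hvR ha hxM _)⟩ =
          (h.act χ ⟨a', hRS χ ha'R⟩ * h.act χ ⟨x ^ L, hy⟩) ^ 2 ^ (n - 1) *
            (h.act χ ⟨x ^ L, hy⟩ ^ 2 ^ (n - 1))⁻¹ := by
        rw [e2, hpowz (a * x) hby (hzS χ hax), hpowz x hy (hzS χ hx), ← map_inv, ← map_mul]
        rfl
      rw [e3]
      rcases (show 3 ≤ n ∨ n = 2 by have := hY.two_le; omega) with hn3 | hn2
      · exact value_high hY hn3 (h.isPairing χ) (sylow χ _ (isPGroup_sup_zpowers hR2 (hRn hxM) hx)) (hpres χ _)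
          ⟨⟨x ^ L, hy⟩, Subgroup.mem_sup_right (pow_mem (Subgroup.mem_zpowers x) L), rfl⟩
          (Subgroup.map_mono (Subgroup.comap_mono le_sup_left))
          (hnorm χ _ (pow_mem hxM L) R hcR) (hsqI χ)
          (fun i hi => (Subgroup.mem_normalizer_iff.1 (hnorm χ _ (pow_mem hxM L) Q hQn) i).1 hi)
          (by rintro _ ⟨g, hg, rfl⟩; exact hnorm χ g (hRM hg) Q hQn) (hI χ ha'R)
      subst hn2
      refine value_low hY (h.isPairing χ) (sylow χ _ (isPGroup_sup_zpowers hD (hDn hxM) hx)) (hpres χ _)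
        ⟨⟨x ^ L, hy⟩, Subgroup.mem_sup_right (pow_mem (Subgroup.mem_zpowers x) L), rfl⟩
        (Subgroup.map_mono (Subgroup.comap_mono (hRD.trans le_sup_left)))
        (hnorm χ _ (pow_mem hxM L) R hcR) (hsqI χ) (hI χ ha'R) ?_ ?_
      · rw [e2]
        by_cases hz' : h.act χ ⟨(a * x) ^ 2 ^ (e - 1), hzS χ hax⟩ = 1
        · refine Or.inl ?_
          have := hpowz (a * x) hby (hzS χ hax)
          rw [show (2 : ℕ) ^ (2 - 1) = 2 from rfl, hz'] at this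
          exact this
        · obtain ⟨n', L', hLn', hy', hY'⟩ := h.exists_isY χ hχ hax hz'
          have hnn : n' = 2 := Nat.pow_right_injective le_rfl (hY'.hq.symm.trans hY.hq)
          subst hnn
          obtain rfl : L' = L := Nat.eq_of_mul_eq_mul_right (by positivity) (hLn'.trans hLn.symm)
          exact Or.inr hY'
      · by_cases hT : ∀ x' ∈ M, (∃ j, x' ^ 2 ^ j = 1) → ⁅x ^ 2 ^ (e - 1), x' ^ 2 ^ (e - 1)⁆ ∈ h.ker χ
        · left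
          have h1 := ((hRs a').1 (hB.symm ▸ ha'R)).2 χ hχ x hxM hx hT
          have h2 := ((h.comm_mem_ker χ (hRS χ ha'R) (hzS χ hx)).1 h1).symm
          rw [← hpowz x hy (hzS χ hx), show (2 : ℕ) ^ (2 - 1) = 2 from rfl] at h2
          exact h2
        · right
          push Not at hT
          obtain ⟨x₀, hx₀M, hx₀, hne⟩ := hT
          rw [h.comm_mem_ker χ (hzS χ hx) (hzS χ hx₀)] at hne
          have hz₀ : h.act χ ⟨x₀ ^ 2 ^ (e - 1), hzS χ hx₀⟩ ≠ 1 := fun e0 => hne (by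
            rw [e0]; exact Commute.one_right _)
          obtain ⟨n₀, L₀, hLn₀, hy₀, hY₀⟩ := h.exists_isY χ hχ hx₀ hz₀
          have hnn : n₀ = 2 := Nat.pow_right_injective le_rfl (hY₀.hq.symm.trans hY.hq)
          subst hnn
          have e4 : h.act χ ⟨x₀ ^ L₀, hy₀⟩ ^ 2 = h.act χ ⟨x₀ ^ 2 ^ (e - 1), hzS χ hx₀⟩ := by
            rw [← map_pow]; congr 1
            exact Subtype.ext ((pow_mul x₀ L₀ 2).symm.trans (congrArg (x₀ ^ ·) hLn₀))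
          have e5 := hpowz x hy (hzS χ hx)
          rw [show (2 : ℕ) ^ (2 - 1) = 2 from rfl] at e5
          refine ⟨_, ((R ⊔ Subgroup.zpowers x₀).subgroupOf (h.stab χ)).map (h.act χ), hY₀, ?_, ?_,
            sylow χ _ (isPGroup_sup_zpowers hR2 (hRn hx₀M) hx₀), hpres χ _,
            ⟨⟨x₀ ^ L₀, hy₀⟩, Subgroup.mem_sup_right (pow_mem (Subgroup.mem_zpowers x₀) L₀), rfl⟩,
            Subgroup.map_mono (Subgroup.comap_mono le_sup_left),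
            hnorm χ _ (pow_mem hx₀M L₀) R hcR⟩
          · rw [e4, e5]; exact hne
          · rw [e4]
            exact ⟨⟨_, hzS χ hx₀⟩, Subgroup.mem_sup_left (hall x₀ hx₀M hx₀), rfl⟩
    by_cases hz : h.act χ ⟨x ^ N, hzS χ hx⟩ = 1
    · have hax := exists_two_pow_mul hR2 ha (hRn hxM) hx
      have e1 : h.act χ ⟨(a * x) ^ N * (x ^ N)⁻¹, hRS χ (hvR ha hxM N)⟩ =
          h.act χ ⟨(a * x) ^ N, hzS χ hax⟩ * (h.act χ ⟨x ^ N, hzS χ hx⟩)⁻¹ := by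
        rw [← map_inv, ← map_mul]; rfl
      by_cases hz' : h.act χ ⟨(a * x) ^ N, hzS χ hax⟩ = 1
      · rw [e1, hz, hz', one_mul, inv_one]; exact one_mem _
      · have h2 := inv_mem (main (mul_mem (hRM ha) hxM) hax (inv_mem ha) hz')
        rw [← map_inv] at h2
        convert h2 using 2
        exact Subtype.ext (show (a * x) ^ N * (x ^ N)⁻¹ = ((a⁻¹ * (a * x)) ^ N * ((a * x) ^ N)⁻¹)⁻¹ by
          rw [inv_mul_cancel_left, mul_inv_rev, inv_inv])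
    · exact main hxM hx ha hz

end Setup

end Cfsg.Agent.Solv.E2
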